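import Mathlib
import Cfsg.Agent.Lib.Helper55.S66Stmt
import Cfsg.Agent.Lib.Helper55.S53Stmt

set_option autoImplicit false

/-! Piece MINT of S1366 (helper55's interface; helper60, second seat): the light core, with the
landed base facts as explicit hypotheses. -/

namespace Cfsg.Agent.Lib.Helper60.S66MINTCore

open Cfsg.Agent.Lib.Helper9.S51IStmt Cfsg.Agent.Lib.Helper55.S66Stmt

universe u

/-- elements of the join of two elementwise commuting subgroups are products -/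
theorem exists_mul_of_mem_sup_comm {G : Type u} [Group G] (A B : Subgroup G)
    (hcomm : ∀ a ∈ A, ∀ b ∈ B, a * b = b * a) {x : G} (hx : x ∈ A ⊔ B) :
    ∃ a ∈ A, ∃ b ∈ B, x = a * b := by
  have hle : A ⊔ B ≤
      ({ carrier := {y | ∃ a ∈ A, ∃ b ∈ B, y = a * b}
         mul_mem' := by
           rintro _ _ ⟨a, ha, b, hb, rfl⟩ ⟨a', ha', b', hb', rfl⟩
           refine ⟨a * a', A.mul_mem ha ha', b * b', B.mul_mem hb hb', ?_⟩
           calc a * b * (a' * b') = a * (b * a') * b' := by group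
             _ = a * (a' * b) * b' := by rw [hcomm a' ha' b hb]
             _ = a * a' * (b * b') := by group
         one_mem' := ⟨1, A.one_mem, 1, B.one_mem, (mul_one 1).symm⟩
         inv_mem' := by
           rintro _ ⟨a, ha, b, hb, rfl⟩
           refine ⟨a⁻¹, A.inv_mem ha, b⁻¹, B.inv_mem hb, ?_⟩
           rw [mul_inv_rev, hcomm a⁻¹ (A.inv_mem ha) b⁻¹ (B.inv_mem hb)] } : Subgroup G) :=
    sup_le (fun a ha => ⟨a, ha, 1, B.one_mem, (mul_one a).symm⟩)
      (fun b hb => ⟨1, A.one_mem, b, hb, (one_mul b).symm⟩)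
  exact hle hx

/-- The core of MINT. -/
theorem main_of
    (hgen3 : Gen3.{u})
    (hprim : Cfsg.Agent.Lib.Helper55.S53Stmt.PrimAct.{u})
    (h1354 : ∀ {G : Type u} [Group G] [Finite G], Cfsg.IsMinSimpleOddOrder G →
      ∀ (M : Subgroup G), IsCoatom M → ∀ (K : Subgroup G), IsCyclic K →
        Cfsg.IsPiHallOf (Cfsg.kappa M) K M →
        Cfsg.sigmaCore M ⊓ Subgroup.centralizer (K : Set G) ≠ ⊥)
    (h1352 : ∀ {G : Type u} [Group G] [Finite G], Cfsg.IsMinSimpleOddOrder G →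
      ∀ (M : Subgroup G), IsCoatom M → ∀ (K : Subgroup G), IsCyclic K →
        Cfsg.IsPiHallOf (Cfsg.kappa M) K M →
        ∃ U : Subgroup G, Cfsg.IsSigmaDecomposition M K U)
    (hsig : ∀ {G : Type u} [Group G] [Finite G], Cfsg.IsMinSimpleOddOrder G →
      ∀ (M : Subgroup G), IsCoatom M → ∀ q : ℕ, q.Prime →
        q ∣ Nat.card (Cfsg.sigmaCore M) → q ∈ Cfsg.sigma M)
    (hsle : ∀ {G : Type u} [Group G] (M : Subgroup G), Cfsg.sigmaCore M ≤ M) :
    MInt.{u} := by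
  intro G _ _ hG Z N KN N' KN' h h' hdisj hcov g hg
  classical
  obtain ⟨hgN, hgN'⟩ := Subgroup.mem_inf.1 hg
  -- `Z ≤ N`, `Z ≤ N'`
  have hKsle : Ks N KN ≤ Cfsg.sigmaCore N := inf_le_left
  have hKsle' : Ks N' KN' ≤ Cfsg.sigmaCore N' := inf_le_left
  have hZN : Z ≤ N := by
    rw [← h.hZ]
    exact sup_le h.hall.1 (hKsle.trans (hsle N))
  have hZN' : Z ≤ N' := by
    rw [← h'.hZ]
    exact sup_le h'.hall.1 (hKsle'.trans (hsle N'))
  have hKsZ : Ks N KN ≤ Z := by rw [← h.hZ]; exact le_sup_right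
  have hKsZ' : Ks N' KN' ≤ Z := by rw [← h'.hZ]; exact le_sup_right
  -- `g = a * b`
  obtain ⟨a, ha, b, hb, rfl⟩ := hcov g hgN
  have haN' : a ∈ N' := by
    have h1 : a = a * b * b⁻¹ := by group
    rw [h1]
    exact N'.mul_mem hgN' (N'.inv_mem (hZN' hb))
  -- `d ∈ Ks N' KN'`, `d ≠ 1`
  obtain ⟨d, hdKs, hd1⟩ : ∃ d ∈ Ks N' KN', d ≠ 1 := by
    have hne := h1354 hG N' h'.hN KN' h'.cyc h'.hall
    by_contra hcon
    apply hne
    rw [eq_bot_iff]
    intro y hy
    rw [Subgroup.mem_bot]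
    by_contra hy1
    exact hcon ⟨y, hy, hy1⟩
  have hdZ : d ∈ Z := hKsZ' hdKs
  have hdσ' : d ∈ Cfsg.sigmaCore N' := hKsle' hdKs
  -- `a d = d a`
  have had : a * d = d * a :=
    hgen3 hG N N' h.hN h'.hN hdisj a (Subgroup.mem_inf.2 ⟨ha, haN'⟩) d
      (Subgroup.mem_inf.2 ⟨hZN hdZ, hdσ'⟩)
  -- `d ∈ KN`
  have hcomm : ∀ k ∈ KN, ∀ s ∈ Ks N KN, k * s = s * k := by
    intro k hk s hs
    have h1 := (Subgroup.mem_inf.1 hs).2
    rw [Subgroup.mem_centralizer_iff] at h1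
    exact h1 k hk
  have hdKN : d ∈ KN := by
    have hd' : d ∈ KN ⊔ Ks N KN := by rw [h.hZ]; exact hdZ
    obtain ⟨k, hk, s, hs, hdks⟩ := exists_mul_of_mem_sup_comm KN (Ks N KN) hcomm hd'
    have hpow : d ^ Nat.card (Ks N KN) ∈ KN := by
      have h1 : (k * s) ^ Nat.card (Ks N KN) = k ^ Nat.card (Ks N KN) * s ^ Nat.card (Ks N KN) :=
        (Commute.mul_pow (hcomm k hk s hs) _)
      have h2 : s ^ Nat.card (Ks N KN) = 1 := by
        have h3 : (⟨s, hs⟩ : ↥(Ks N KN)) ^ Nat.card (Ks N KN) = 1 := pow_card_eq_one'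
        have h4 := congrArg (Subtype.val) h3
        simpa using h4
      rw [hdks, h1, h2, mul_one]
      exact KN.pow_mem hk _
    have hcop : (Nat.card (Ks N KN)).Coprime (orderOf d) := by
      apply Nat.coprime_of_dvd
      intro p hp hp1 hp2
      have h1 : p ∣ Nat.card (Cfsg.sigmaCore N) :=
        hp1.trans (Subgroup.card_dvd_of_le hKsle)
      have h2 : p ∣ Nat.card (Cfsg.sigmaCore N') := by
        have h3 : orderOf (⟨d, hdσ'⟩ : ↥(Cfsg.sigmaCore N')) = orderOf d :=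
          Subgroup.orderOf_mk d hdσ'
        rw [← h3] at hp2
        exact hp2.trans (orderOf_dvd_natCard _)
      exact hdisj p (hsig hG N h.hN p hp h1) (hsig hG N' h'.hN p hp h2)
    obtain ⟨m, hm⟩ := exists_pow_eq_self_of_coprime hcop
    rw [← hm]
    exact KN.pow_mem hpow m
  -- `a ∈ Ks N KN`
  obtain ⟨U, hdec⟩ := h1352 hG N h.hN KN h.cyc h.hall
  have hpr := hprim hG N KN U h.hN hdec d hdKN hd1
  have haKs : a ∈ Ks N KN := by
    show a ∈ Cfsg.sigmaCore N ⊓ Subgroup.centralizer (KN : Set G)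
    rw [← hpr]
    refine Subgroup.mem_inf.2 ⟨ha, ?_⟩
    rw [Subgroup.mem_centralizer_iff]
    intro y hy
    rw [Set.mem_singleton_iff] at hy
    rw [hy]
    exact had.symm
  exact Z.mul_mem (hKsZ haKs) hb

end Cfsg.Agent.Lib.Helper60.S66MINTCore
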