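-- S5323 piece NORMINN (helper60): if every automorphism of odd order of a Sylow 2-subgroup `H`
-- is trivial, then the normaliser of `H` induces only inner automorphisms on `H`.
import Mathlib
import Cfsg.Agent.Lib.Helper26.McLFusStmt

set_option autoImplicit false

namespace Cfsg.Agent.Lib.Helper60.McLFusNORMINN

open Cfsg.Agent.Lib.Helper26.McLFusStmt

/-- conjugation by an element of the normaliser, as an automorphism of `H` -/
def conjAut {G : Type} [Group G] (H : Subgroup G) (u : G)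
    (hu : u ∈ Subgroup.normalizer (H : Set G)) : MulAut H where
  toFun x := ⟨u * x * u⁻¹, (Subgroup.mem_normalizer_iff.mp hu x).mp x.2⟩
  invFun x := ⟨u⁻¹ * x * u, (Subgroup.mem_normalizer_iff''.mp hu x).mp x.2⟩
  left_inv x := by ext; simp [mul_assoc]
  right_inv x := by ext; simp [mul_assoc]
  map_mul' x y := by ext; simp [mul_assoc]

theorem conjAut_apply {G : Type} [Group G] (H : Subgroup G) (u : G)
    (hu : u ∈ Subgroup.normalizer (H : Set G)) (x : H) :
    ((conjAut H u hu x : H) : G) = u * x * u⁻¹ := rfl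

theorem conjAut_pow {G : Type} [Group G] (H : Subgroup G) (u : G)
    (hu : u ∈ Subgroup.normalizer (H : Set G)) (j : ℕ) (x : H) :
    (((conjAut H u hu ^ j) x : H) : G) = u ^ j * x * (u ^ j)⁻¹ := by
  induction j generalizing x with
  | zero => simp
  | succ j ih =>
    rw [pow_succ, MulAut.mul_apply, ih, conjAut_apply, pow_succ]
    simp [mul_assoc]

theorem main : NormInn := by
  intro G _ _ H k hcard hnd hodd n hn
  have : Fact (Nat.Prime 2) := ⟨Nat.prime_two⟩
  have hGne : Nat.card G ≠ 0 := Nat.card_pos.ne'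
  -- H is a Sylow 2-subgroup
  have hk : k = (Nat.card G).factorization 2 := by
    have h1 : 2 ^ k ∣ Nat.card G := hcard ▸ Subgroup.card_subgroup_dvd_card H
    have h1' := (Nat.Prime.pow_dvd_iff_le_factorization Nat.prime_two hGne).mp h1
    have h2 : ¬ (k + 1 ≤ (Nat.card G).factorization 2) := fun h =>
      hnd ((Nat.Prime.pow_dvd_iff_le_factorization Nat.prime_two hGne).mpr h)
    omega
  let Q : Sylow 2 G := Sylow.ofCard H (hk ▸ hcard)
  have hQ : (Q : Subgroup G) = H := Sylow.coe_ofCard H (hk ▸ hcard)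
  -- decompose the order of n
  obtain ⟨a, m, hm, hord⟩ := Nat.exists_eq_two_pow_mul_odd (orderOf_pos n).ne'
  -- the odd part centralises H
  have hu : n ^ (2 ^ a) ∈ Subgroup.normalizer (H : Set G) := Subgroup.pow_mem _ hn _
  have hum : (n ^ (2 ^ a)) ^ m = 1 := by
    rw [← pow_mul, ← hord, pow_orderOf_eq_one]
  have hα : conjAut H (n ^ (2 ^ a)) hu = 1 := by
    apply hodd _ m hm
    ext x
    rw [conjAut_pow, hum]
    simp
  have hcent : ∀ x ∈ H, n ^ (2 ^ a) * x * (n ^ (2 ^ a))⁻¹ = x := by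
    intro x hx
    have := conjAut_apply H (n ^ (2 ^ a)) hu ⟨x, hx⟩
    rw [hα] at this
    simpa using this.symm
  have hcomm : ∀ x ∈ H, Commute (n ^ (2 ^ a)) x := by
    intro x hx
    have := hcent x hx
    rw [mul_inv_eq_iff_eq_mul] at this
    exact this
  -- the 2-part lies in H
  have hv : n ^ m ∈ H := by
    have hP : IsPGroup 2 (Subgroup.zpowers (n ^ m)) := by
      rintro ⟨g, hg⟩
      obtain ⟨i, rfl⟩ := Subgroup.mem_zpowers_iff.mp hg
      refine ⟨a, ?_⟩
      ext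
      simp only [Subgroup.coe_pow, Subgroup.coe_one]
      rw [← zpow_natCast, ← zpow_mul, mul_comm, zpow_mul, zpow_natCast, ← pow_mul, mul_comm,
        ← hord, pow_orderOf_eq_one, one_zpow]
    have h1 := hP.inf_normalizer_sylow Q
    have h2 : n ^ m ∈ Subgroup.zpowers (n ^ m) ⊓ Subgroup.normalizer (Q : Set G) := by
      refine ⟨Subgroup.mem_zpowers _, ?_⟩
      have hQs : (Q : Set G) = (H : Set G) := by rw [← hQ]; rfl
      rw [hQs]
      exact Subgroup.pow_mem _ hn _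
    rw [h1] at h2
    have h3 : n ^ m ∈ (Q : Subgroup G) := h2.2
    rwa [hQ] at h3
  -- Bezout
  have hcop : Nat.Coprime (2 ^ a) m := Nat.Coprime.pow_left a (Nat.coprime_two_left.mpr hm)
  have hbez : (1 : ℤ) = (2 ^ a : ℕ) * Nat.gcdA (2 ^ a) m + (m : ℕ) * Nat.gcdB (2 ^ a) m := by
    have := Nat.gcd_eq_gcd_ab (2 ^ a) m
    rw [hcop] at this
    exact_mod_cast this
  set A := Nat.gcdA (2 ^ a) m
  set B := Nat.gcdB (2 ^ a) m
  have hn' : n = (n ^ (2 ^ a)) ^ A * (n ^ m) ^ B := by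
    conv_lhs => rw [← zpow_one n, hbez]
    rw [zpow_add, zpow_mul, zpow_mul, zpow_natCast, zpow_natCast]
  refine ⟨(n ^ m) ^ B, Subgroup.zpow_mem _ hv _, ?_⟩
  intro x hx
  have hsx : (n ^ m) ^ B * x * ((n ^ m) ^ B)⁻¹ ∈ H :=
    H.mul_mem (H.mul_mem (Subgroup.zpow_mem _ hv _) hx) (H.inv_mem (Subgroup.zpow_mem _ hv _))
  have hc : Commute ((n ^ (2 ^ a)) ^ A) ((n ^ m) ^ B * x * ((n ^ m) ^ B)⁻¹) :=
    (hcomm _ hsx).zpow_left A
  conv_lhs => rw [hn']
  rw [mul_inv_rev]
  calc (n ^ (2 ^ a)) ^ A * (n ^ m) ^ B * x * (((n ^ m) ^ B)⁻¹ * ((n ^ (2 ^ a)) ^ A)⁻¹)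
      = ((n ^ (2 ^ a)) ^ A * ((n ^ m) ^ B * x * ((n ^ m) ^ B)⁻¹)) * ((n ^ (2 ^ a)) ^ A)⁻¹ := by
        simp only [mul_assoc]
    _ = (n ^ m) ^ B * x * ((n ^ m) ^ B)⁻¹ := by
        rw [hc.eq, mul_inv_cancel_right]

end Cfsg.Agent.Lib.Helper60.McLFusNORMINN
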