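import Cfsg.Agent.Lib.Helper60.J1Upper

set_option autoImplicit false

/-!
# J1 project (helper60): `|J1| = 175560`, explicit elements, the Sylow 2-subgroup `E`
-/

namespace Cfsg.Agent.Lib.Helper60.J1

open Cfsg
open scoped Pointwise

theorem ι_ev1 (w : List ℕ) : ι (ev gen1 w) = (evN g1 w).toMat := ι_ev ι gen1 g1 ι_gen1 red_g1 w

theorem ev_append {G : Type*} [Group G] (gen : ℕ → G) (w w' : List ℕ) :
    ev gen (w ++ w') = ev gen w * ev gen w' := by
  simp [ev]

theorem ev_replicate {G : Type*} [Group G] (gen : ℕ → G) (k i : ℕ) :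
    ev gen (List.replicate k i) = gen i ^ k := by
  simp [ev]

/-- order check: `m ^ n = 1` and `m ^ k ≠ 1` for `0 < k < n` -/
def chkOrder (m : M7) (n : ℕ) : Bool :=
  M7.beq (m.pow n) M7.one && (List.range n).all (fun k => Nat.beq k 0 || !(M7.beq (m.pow k) M7.one))

theorem orderOf_of_chk {G : Type*} [Group G] (ι' : G →* Mat) (hι : Function.Injective ι') (g : G) (m : M7)
    (hm : m.IsRed) (e : ι' g = m.toMat) (n : ℕ) (hn : 0 < n) (h : chkOrder m n = true) :
    orderOf g = n := by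
  unfold chkOrder at h
  simp only [Bool.and_eq_true] at h
  rw [orderOf_eq_iff hn]
  refine ⟨pow_eq_one_of ι' hι g m hm e n h.1, ?_⟩
  intro k hk hk0
  have h2 := List.all_eq_true.1 h.2 k (List.mem_range.2 hk)
  simp only [Bool.or_eq_true, Nat.beq_eq, Bool.not_eq_true'] at h2
  rcases h2 with h2 | h2
  · omega
  · exact pow_ne_one_of ι' g m hm e k h2

theorem orderOf_ev (w : List ℕ) (n : ℕ) (hn : 0 < n) (h : chkOrder (evN g1 w) n = true) :
    orderOf (ev gen1 w) = n :=
  orderOf_of_chk ι ι_inj _ _ (isRed_evN g1 w) (ι_ev1 w) n hn h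

theorem ev_eq_one (w : List ℕ) (h : M7.beq (evN g1 w) M7.one = true) : ev gen1 w = 1 := by
  apply ι_inj
  rw [ι_ev1, M7.eq_of_beq h, M7.toMat_one, map_one]

theorem ev_eq_ev (w w' : List ℕ) (h : M7.beq (evN g1 w) (evN g1 w') = true) : ev gen1 w = ev gen1 w' := by
  apply ι_inj
  rw [ι_ev1, ι_ev1, M7.eq_of_beq h]

theorem zip_all_exists_right {α β : Type*} (f : α × β → Bool) : ∀ (l : List α) (l' : List β),
    l.length = l'.length → (l.zip l').all f = true → ∀ b ∈ l', ∃ a ∈ l, f (a, b) = true := by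
  intro l
  induction l with
  | nil =>
    intro l' hl _ b hb
    cases l' with
    | nil => simp at hb
    | cons y l' => simp at hl
  | cons x l ih =>
    intro l' hl hall b hb
    cases l' with
    | nil => simp at hb
    | cons y l' =>
      simp only [List.zip_cons_cons, List.all_cons, Bool.and_eq_true] at hall
      rcases List.mem_cons.1 hb with rfl | hb'
      · exact ⟨x, List.mem_cons_self, hall.1⟩
      · obtain ⟨a, ha, hf⟩ := ih l' (by simpa using hl) hall.2 b hb'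
        exact ⟨a, List.mem_cons_of_mem _ ha, hf⟩

/-- the subgroup of `J1` generated by the values of the words `ws` -/
def wordGroup (ws : List (List ℕ)) : Subgroup ↥Cfsg.Spor.J1 :=
  Subgroup.closure {g | ∃ w ∈ ws, g = ev gen1 w}

theorem ev_mem_wordGroup (ws : List (List ℕ)) (w : List ℕ) (hw : w ∈ ws) : ev gen1 w ∈ wordGroup ws :=
  Subgroup.subset_closure ⟨w, hw, rfl⟩

theorem wordGroup_subset_list (ws : List (List ℕ)) (gs l : List M7) (hw : wordsOK g1 gs ws = true)
    (hc : closedL gs l = true) : ∀ g ∈ wordGroup ws, ∃ m ∈ l, ι g = m.toMat := by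
  apply closure_subset_list ι _ gs l _ hc
  rintro s ⟨w, hws, rfl⟩
  unfold wordsOK at hw
  simp only [Bool.and_eq_true, Nat.beq_eq] at hw
  obtain ⟨a, ha, hf⟩ := zip_all_exists_right _ gs ws hw.1 hw.2 w hws
  have e : a = evN g1 w := M7.eq_of_beq hf
  exact ⟨a, ha, by rw [ι_ev1, e]⟩

/-! ### elements of prime order -/

/-- word of an element of order 3 -/
def w3 : List ℕ := [1, 0, 1, 0, 1, 0, 0, 0]
/-- word of an element of order 11 -/
def w11 : List ℕ := [1, 1, 0]
/-- word of an element of order 19 -/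
def w19 : List ℕ := [1, 0, 0, 0]
/-- word of an involution -/
def tw : List ℕ := [1, 1, 1, 1, 0, 1, 0]

theorem ord_gX : orderOf gX = 7 := by
  have h := orderOf_ev [0] 7 (by norm_num) (by decide +kernel)
  have e : ev gen1 [0] = gX := by simp [ev, gen1]
  rwa [e] at h

theorem ord_gY : orderOf gY = 5 := by
  have h := orderOf_ev [1] 5 (by norm_num) (by decide +kernel)
  have e : ev gen1 [1] = gY := by simp [ev, gen1]
  rwa [e] at h

theorem ord_w3 : orderOf (ev gen1 w3) = 3 := orderOf_ev w3 3 (by norm_num) (by decide +kernel)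
theorem ord_w11 : orderOf (ev gen1 w11) = 11 := orderOf_ev w11 11 (by norm_num) (by decide +kernel)
theorem ord_w19 : orderOf (ev gen1 w19) = 19 := orderOf_ev w19 19 (by norm_num) (by decide +kernel)
theorem ord_tw : orderOf (ev gen1 tw) = 2 := orderOf_ev tw 2 (by norm_num) (by decide +kernel)

/-! ### the elementary abelian subgroup `E` of order 8 -/

/-- words of the seven involutions `X^k t X^(-k)` -/
def tws : List (List ℕ) := [
  [1, 1, 1, 1, 0, 1, 0],
  [0, 1, 1, 1, 1, 0, 1, 0, 0, 0, 0, 0, 0, 0],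
  [0, 0, 1, 1, 1, 1, 0, 1, 0, 0, 0, 0, 0, 0],
  [0, 0, 0, 1, 1, 1, 1, 0, 1, 0, 0, 0, 0, 0],
  [0, 0, 0, 0, 1, 1, 1, 1, 0, 1, 0, 0, 0, 0],
  [0, 0, 0, 0, 0, 1, 1, 1, 1, 0, 1, 0, 0, 0],
  [0, 0, 0, 0, 0, 0, 1, 1, 1, 1, 0, 1, 0, 0]]

/-- their packed matrices -/
def Egs : List M7 := [
  ⟨22256387671368828136, 50039280947734856440, 44516958848896703370, 5564122819306786728, 33430560304544450, 5580828664140215248, 27803763818002705218⟩,
  ⟨16717347192879199970, 16713198190550997000, 22243849661797105328, 16679777057351453680, 22243862213145590248, 22260558633246163118, 27816308120933260206⟩,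
  ⟨44491895381108814280, 44496050641417789568, 44491870271316778560, 16712142909951608, 50055980508607578568, 16700650744474390356, 22252229244346746510⟩,
  ⟨33430541428563328, 44512765908592485040, 50039268377510406358, 44516946306967609608, 16692299386565706006, 44496056937122184490, 22273096673488917520⟩,
  ⟨50072698921286276030, 5597512556450541328, 5593363554143597078, 22252210425559133066, 44512769054096471070, 16734107192703920, 27799611684321734838⟩,
  ⟨44483544001969745568, 4202376825051538, 16696470355522193416, 44512781610157308250, 44479351080520265600, 50060142081147830688, 22277289613789576770⟩,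
  ⟨5559920470800139108, 22252213559269844176, 33443111653010750, 50072673816231375790, 5597528239173033758, 44496075765348662950, 27833007712466393878⟩]

/-- the eight elements of `E` -/
def Elist : List M7 := M7.one :: Egs

/-- the subgroup `E` -/
def E : Subgroup ↥Cfsg.Spor.J1 := wordGroup tws

theorem wordsE : wordsOK g1 Egs tws = true := by decide +kernel
theorem closedE : closedL Egs Elist = true := by decide +kernel
theorem redE : allRed Elist = true := by decide +kernel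
theorem sqE : Elist.all (fun m => M7.beq (m.mul m) M7.one) = true := by decide +kernel
theorem nodupE : Elist.Nodup := by decide +kernel
theorem twsForm : ∀ w ∈ tws, ∃ k ∈ List.range 8, ∃ j ∈ List.range 8,
    w = List.replicate k 0 ++ tw ++ List.replicate j 0 ∧ (k + j) % 7 = 0 := by decide

theorem E_sub : ∀ g ∈ E, ∃ m ∈ Elist, ι g = m.toMat := wordGroup_subset_list tws Egs Elist wordsE closedE

theorem E_sq (g : ↥Cfsg.Spor.J1) (hg : g ∈ E) : g * g = 1 := by
  obtain ⟨m, hm, e⟩ := E_sub g hg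
  have h := List.all_eq_true.1 sqE m hm
  apply ι_inj
  rw [map_mul, e, ← M7.toMat_mul _ _ (isRed_of_allRed redE hm), M7.eq_of_beq h, M7.toMat_one, map_one]

theorem E_conj (g : ↥Cfsg.Spor.J1) (hg : g ∈ E) (hg1 : g ≠ 1) :
    ∃ x : ↥Cfsg.Spor.J1, g = x * ev gen1 tw * x⁻¹ := by
  obtain ⟨m, hm, e⟩ := E_sub g hg
  rcases List.mem_cons.1 hm with rfl | hm'
  · exfalso; apply hg1; apply ι_inj; rw [e, M7.toMat_one, map_one]
  · have hw := wordsE
    unfold wordsOK at hw
    simp only [Bool.and_eq_true, Nat.beq_eq] at hw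
    obtain ⟨w, hws, hf⟩ := zip_all_exists _ Egs tws hw.1 hw.2 m hm'
    have e2 : m = evN g1 w := M7.eq_of_beq hf
    have e3 : g = ev gen1 w := by apply ι_inj; rw [e, ι_ev1, e2]
    obtain ⟨k, _, j, _, hwf, hkj⟩ := twsForm w hws
    refine ⟨gX ^ k, ?_⟩
    have hX : gen1 0 = gX := by simp [gen1]
    have h7' : gX ^ 7 = 1 := by
      have h := pow_orderOf_eq_one gX
      rwa [ord_gX] at h
    have h7 : gX ^ (k + j) = 1 := by
      obtain ⟨q, hq⟩ := Nat.dvd_of_mod_eq_zero hkj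
      rw [hq, pow_mul, h7', one_pow]
    have hinv : (gX ^ k)⁻¹ = gX ^ j := by
      rw [inv_eq_iff_mul_eq_one, ← pow_add]; exact h7
    rw [e3, hwf, ev_append, ev_append, ev_replicate, ev_replicate, hX, hinv]

theorem card_E : Nat.card E = 8 := by
  classical
  have h1 : Nat.card E = (ι '' (E : Set ↥Cfsg.Spor.J1)).ncard := by
    rw [Set.ncard_image_of_injective _ ι_inj]; exact (Nat.card_coe_set_eq _).symm
  have h2 : ι '' (E : Set ↥Cfsg.Spor.J1) = M7.toMat '' ({m | m ∈ Elist} : Set M7) := by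
    ext x
    constructor
    · rintro ⟨g, hg, rfl⟩
      obtain ⟨m, hm, e⟩ := E_sub g hg
      exact ⟨m, hm, e.symm⟩
    · rintro ⟨m, hm, rfl⟩
      rcases List.mem_cons.1 hm with rfl | hm'
      · exact ⟨1, E.one_mem, by rw [map_one, M7.toMat_one]⟩
      · have hw := wordsE
        unfold wordsOK at hw
        simp only [Bool.and_eq_true, Nat.beq_eq] at hw
        obtain ⟨w, hws, hf⟩ := zip_all_exists _ Egs tws hw.1 hw.2 m hm'
        have e2 : m = evN g1 w := M7.eq_of_beq hf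
        exact ⟨ev gen1 w, ev_mem_wordGroup tws w hws, by rw [ι_ev1, e2]⟩
  have h3 : (M7.toMat '' ({m | m ∈ Elist} : Set M7)).ncard = ({m | m ∈ Elist} : Set M7).ncard := by
    apply Set.InjOn.ncard_image
    intro a ha b hb hab
    exact M7.toMat_inj (isRed_of_allRed redE ha) (isRed_of_allRed redE hb) hab
  have h4 : ({m | m ∈ Elist} : Set M7) = ↑Elist.toFinset := by ext m; simp
  rw [h1, h2, h3, h4, Set.ncard_coe_finset, List.toFinset_card_of_nodup nodupE]
  rfl

/-! ### the order of `J1` -/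

theorem card_J1 : Nat.card ↥Cfsg.Spor.J1 = 175560 := by
  have h8 : 8 ∣ Nat.card ↥Cfsg.Spor.J1 := by
    have := Subgroup.card_subgroup_dvd_card E
    rwa [card_E] at this
  have h3 : 3 ∣ Nat.card ↥Cfsg.Spor.J1 := by
    have h := orderOf_dvd_natCard (ev gen1 w3)
    rwa [ord_w3] at h
  have h5 : 5 ∣ Nat.card ↥Cfsg.Spor.J1 := by
    have h := orderOf_dvd_natCard gY
    rwa [ord_gY] at h
  have h7 : 7 ∣ Nat.card ↥Cfsg.Spor.J1 := by
    have h := orderOf_dvd_natCard gX
    rwa [ord_gX] at h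
  have h11 : 11 ∣ Nat.card ↥Cfsg.Spor.J1 := by
    have h := orderOf_dvd_natCard (ev gen1 w11)
    rwa [ord_w11] at h
  have h19 : 19 ∣ Nat.card ↥Cfsg.Spor.J1 := by
    have h := orderOf_dvd_natCard (ev gen1 w19)
    rwa [ord_w19] at h
  have hle := card_J1_le
  have hpos : 0 < Nat.card ↥Cfsg.Spor.J1 := Nat.card_pos
  have a1 : 24 ∣ Nat.card ↥Cfsg.Spor.J1 := Nat.Coprime.mul_dvd_of_dvd_of_dvd (by norm_num) h8 h3
  have a2 : 120 ∣ Nat.card ↥Cfsg.Spor.J1 := Nat.Coprime.mul_dvd_of_dvd_of_dvd (by norm_num) a1 h5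
  have a3 : 840 ∣ Nat.card ↥Cfsg.Spor.J1 := Nat.Coprime.mul_dvd_of_dvd_of_dvd (by norm_num) a2 h7
  have a4 : 9240 ∣ Nat.card ↥Cfsg.Spor.J1 := Nat.Coprime.mul_dvd_of_dvd_of_dvd (by norm_num) a3 h11
  have a5 : 175560 ∣ Nat.card ↥Cfsg.Spor.J1 := Nat.Coprime.mul_dvd_of_dvd_of_dvd (by norm_num) a4 h19
  exact le_antisymm hle (Nat.le_of_dvd hpos a5)

/-! ### `E` is a Sylow 2-subgroup; involutions are conjugate; no elements of order 4 -/

theorem isPGroup_E : IsPGroup 2 E := IsPGroup.of_card (n := 3) (by rw [card_E]; norm_num)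

theorem E_index : ¬ 2 ∣ E.index := by
  have h := Subgroup.index_mul_card E
  rw [card_E, card_J1] at h
  omega

/-- `E` as a Sylow 2-subgroup -/
def Es : Sylow 2 ↥Cfsg.Spor.J1 := isPGroup_E.toSylow E_index

theorem conj_mem_E_of_isPGroup (H : Subgroup ↥Cfsg.Spor.J1) (hH : IsPGroup 2 H) :
    ∃ u : ↥Cfsg.Spor.J1, ∀ x ∈ H, u * x * u⁻¹ ∈ E := by
  obtain ⟨P, hP⟩ := hH.exists_le_sylow
  obtain ⟨u, hu⟩ := MulAction.exists_smul_eq ↥Cfsg.Spor.J1 P Es
  refine ⟨u, fun x hx => ?_⟩
  have h2 : MulAut.conj u • x ∈ MulAut.conj u • (P : Subgroup ↥Cfsg.Spor.J1) :=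
    Subgroup.smul_mem_pointwise_smul _ _ _ (hP hx)
  have h3 : MulAut.conj u • x ∈ ((u • P : Sylow 2 ↥Cfsg.Spor.J1) : Subgroup ↥Cfsg.Spor.J1) := h2
  rw [hu] at h3
  have h4 : MulAut.conj u • x ∈ E := by
    have e : ((Es : Sylow 2 ↥Cfsg.Spor.J1) : Subgroup ↥Cfsg.Spor.J1) = E := isPGroup_E.toSylow_coe E_index
    rwa [e] at h3
  simpa [MulAut.smul_def] using h4

theorem invol_conj (n : ↥Cfsg.Spor.J1) (hn : orderOf n = 2) :
    ∃ x : ↥Cfsg.Spor.J1, x * n * x⁻¹ = ev gen1 tw := by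
  have hP : IsPGroup 2 (Subgroup.zpowers n) :=
    IsPGroup.of_card (n := 1) (by rw [Nat.card_zpowers, hn, pow_one])
  obtain ⟨u, hu⟩ := conj_mem_E_of_isPGroup _ hP
  have h1 := hu n (Subgroup.mem_zpowers n)
  have h2 : u * n * u⁻¹ ≠ 1 := by
    intro h
    have h3 : n = 1 := by
      have h4 : u⁻¹ * (u * n * u⁻¹) * u = 1 := by rw [h]; group
      have h5 : u⁻¹ * (u * n * u⁻¹) * u = n := by group
      rw [h5] at h4; exact h4
    rw [h3, orderOf_one] at hn
    omega
  obtain ⟨y, hy⟩ := E_conj _ h1 h2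
  refine ⟨y⁻¹ * u, ?_⟩
  have h6 : y⁻¹ * u * n * (y⁻¹ * u)⁻¹ = y⁻¹ * (u * n * u⁻¹) * y := by group
  rw [h6, hy]; group

theorem sq_eq_one_of_two_pow (x : ↥Cfsg.Spor.J1) (k : ℕ) (hx : x ^ (2 ^ k) = 1) : x ^ 2 = 1 := by
  have hd : orderOf x ∣ 2 ^ k := orderOf_dvd_of_pow_eq_one hx
  obtain ⟨j, _, hj⟩ := (Nat.dvd_prime_pow Nat.prime_two).1 hd
  have hP : IsPGroup 2 (Subgroup.zpowers x) :=
    IsPGroup.of_card (n := j) (by rw [Nat.card_zpowers, hj])
  obtain ⟨u, hu⟩ := conj_mem_E_of_isPGroup _ hP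
  have h1 := E_sq _ (hu x (Subgroup.mem_zpowers x))
  have h2 : u * x * u⁻¹ * (u * x * u⁻¹) = u * x ^ 2 * u⁻¹ := by rw [pow_two]; group
  rw [h2] at h1
  have h3 : u⁻¹ * (u * x ^ 2 * u⁻¹) * u = x ^ 2 := by rw [pow_two]; group
  rw [← h3, h1]; group

end Cfsg.Agent.Lib.Helper60.J1
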