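-- S2202 piece CharNum (helper60): numerical consequences of the structure `CharSet G C`:
-- |N(C)| = |C| e, |C|^2 ≤ |G|, and (e+1)^2 ≤ |C| when C is not of exponent 2.
import Mathlib
import Cfsg.Agent.Lib.Helper25.AICSpec

set_option autoImplicit false

namespace Cfsg.Agent.Lib.Helper60.AICCharNum

open Subgroup Cfsg.Agent.Lib.Helper25.AICSpec

universe u

variable {G : Type u} [Group G]

theorem orderOf_conj_inv (g t : G) : orderOf (g⁻¹ * t * g) = orderOf t := by
  have h := MulEquiv.orderOf_eq (MulAut.conj g⁻¹) t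
  simpa using h

theorem orderOf_conj' (g t : G) : orderOf (g * t * g⁻¹) = orderOf t := by
  have h := MulEquiv.orderOf_eq (MulAut.conj g) t
  simpa using h

/-- conjugating an element of `C` by an element of the normaliser -/
theorem conj_mem {C : Subgroup G} {g y : G} (hg : g ∈ normalizer (C : Set G)) (hy : y ∈ C) :
    g⁻¹ * y * g ∈ C := (mem_normalizer_iff''.mp hg y).mp hy

/-- elements of `C` fix elements of `C` under conjugation -/
theorem conj_eq_self {C : Subgroup G} (h : CharSet G C) {c y : G} (hc : c ∈ C) (hy : y ∈ C) :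
    c⁻¹ * y * c = y := by
  have h1 := h.comm c y hc hy
  rw [mul_assoc, ← h1, inv_mul_cancel_left]

/-- an element fixing `y ∈ C#` under conjugation lies in `C` -/
theorem mem_of_conj_eq {C : Subgroup G} (h : CharSet G C) {y g : G} (hy : y ∈ C) (hy1 : y ≠ 1)
    (hg : g⁻¹ * y * g = y) : g ∈ C :=
  h.stab g (h.ti g y hy hy1 (by rw [hg]; exact hy)) y hy hy1 hg

theorem exists_invol {C : Subgroup G} (h : CharSet G C) :
    ∃ t0 : G, t0 ∈ C ∧ orderOf t0 = 2 := by
  have h2 := h.two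
  by_contra hempty
  have : IsEmpty {t : G // t ∈ C ∧ orderOf t = 2} := ⟨fun t => hempty ⟨t.1, t.2⟩⟩
  rw [Nat.card_of_isEmpty] at h2
  omega

theorem ne_one_of_orderOf_two {t : G} (ht : orderOf t = 2) : t ≠ 1 := by
  rintro rfl
  simp at ht

/-- two normaliser elements conjugating `y ∈ C#` to the same element differ by an element of `C` -/
theorem mul_inv_mem_of_conj_eq {C : Subgroup G} (h : CharSet G C) {y r r' : G} (hy : y ∈ C)
    (hy1 : y ≠ 1) (hr : r ∈ normalizer (C : Set G)) (hr' : r' ∈ normalizer (C : Set G))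
    (heq : r⁻¹ * y * r = r'⁻¹ * y * r') : r * r'⁻¹ ∈ C := by
  apply h.stab _ (mul_mem hr (inv_mem hr')) y hy hy1
  calc (r * r'⁻¹)⁻¹ * y * (r * r'⁻¹) = r' * (r⁻¹ * y * r) * r'⁻¹ := by group
    _ = r' * (r'⁻¹ * y * r') * r'⁻¹ := by rw [heq]
    _ = y := by group

/-- conjugates of `t0 ∈ C` by `r`, `r'` agree when `r * r'⁻¹ ∈ C` -/
theorem conj_eq_of_mul_inv_mem {C : Subgroup G} (h : CharSet G C) {t0 r r' : G} (ht0 : t0 ∈ C)
    (hk : r * r'⁻¹ ∈ C) : r⁻¹ * t0 * r = r'⁻¹ * t0 * r' := by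
  have h1 := conj_eq_self h hk ht0
  calc r⁻¹ * t0 * r = r'⁻¹ * ((r * r'⁻¹)⁻¹ * t0 * (r * r'⁻¹)) * r' := by group
    _ = r'⁻¹ * t0 * r' := by rw [h1]

theorem card_normalizer [Finite G] {C : Subgroup G} (h : CharSet G C) :
    Nat.card (normalizer (C : Set G)) = Nat.card C * ecard C := by
  obtain ⟨t0, ht0, ht02⟩ := exists_invol h
  have ht01 : t0 ≠ 1 := ne_one_of_orderOf_two ht02
  choose rep hrepN hrep using
    (fun v : {t : G // t ∈ C ∧ orderOf t = 2} => h.trans t0 v.1 ht0 ht02 v.2.1 v.2.2)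
  unfold ecard
  rw [← Nat.card_prod]
  symm
  apply Nat.card_congr
  have key : ∀ (c : C) (v : {t : G // t ∈ C ∧ orderOf t = 2}),
      ((c : G) * rep v)⁻¹ * t0 * ((c : G) * rep v) = v.1 := by
    intro c v
    have hc : (c : G)⁻¹ * t0 * c = t0 := conj_eq_self h c.2 ht0
    calc ((c : G) * rep v)⁻¹ * t0 * ((c : G) * rep v)
        = (rep v)⁻¹ * ((c : G)⁻¹ * t0 * c) * rep v := by group
      _ = v.1 := by rw [hc, hrep]
  refine Equiv.ofBijective (fun p : C × {t : G // t ∈ C ∧ orderOf t = 2} =>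
    (⟨(p.1 : G) * rep p.2, mul_mem (le_normalizer p.1.2) (hrepN p.2)⟩ :
      normalizer (C : Set G))) ⟨?_, ?_⟩
  · rintro ⟨c, v⟩ ⟨c', v'⟩ heq
    have heq' : (c : G) * rep v = c' * rep v' := congrArg Subtype.val heq
    have hv : v = v' := by
      apply Subtype.ext
      rw [← key c v, ← key c' v', heq']
    subst hv
    have hc : c = c' := Subtype.ext (mul_right_cancel heq')
    rw [hc]
  · rintro ⟨g, hg⟩
    have hmem : g⁻¹ * t0 * g ∈ C := conj_mem hg ht0
    have hord : orderOf (g⁻¹ * t0 * g) = 2 := by rw [orderOf_conj_inv, ht02]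
    have hc : g * (rep ⟨g⁻¹ * t0 * g, hmem, hord⟩)⁻¹ ∈ C :=
      mul_inv_mem_of_conj_eq h ht0 ht01 hg (hrepN _) (hrep ⟨g⁻¹ * t0 * g, hmem, hord⟩).symm
    refine ⟨(⟨g * (rep ⟨g⁻¹ * t0 * g, hmem, hord⟩)⁻¹, hc⟩, ⟨g⁻¹ * t0 * g, hmem, hord⟩), ?_⟩
    apply Subtype.ext
    simp

theorem card_sq_le [Finite G] {C : Subgroup G} (h : CharSet G C) :
    Nat.card C ^ 2 ≤ Nat.card G := by
  obtain ⟨g, hg⟩ := h.nn
  rw [sq, ← Nat.card_prod]
  apply Nat.card_le_card_of_injective (fun p : C × C => (p.1 : G) * (g⁻¹ * p.2 * g))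
  rintro ⟨a, b⟩ ⟨a', b'⟩ heq
  have heq' : (a : G) * (g⁻¹ * b * g) = a' * (g⁻¹ * b' * g) := heq
  have h1 : g⁻¹ * ((b' : G) * (b : G)⁻¹) * g = (a' : G)⁻¹ * a := by
    have h2 : (a' : G)⁻¹ * a = (g⁻¹ * b' * g) * (g⁻¹ * b * g)⁻¹ := by
      rw [eq_mul_inv_iff_mul_eq, mul_assoc, heq', inv_mul_cancel_left]
    rw [h2]
    group
  have h2 : (b' : G) * (b : G)⁻¹ = 1 := by
    by_contra hne
    apply hg
    apply h.ti g _ (C.mul_mem b'.2 (C.inv_mem b.2)) hne
    rw [h1]
    exact C.mul_mem (C.inv_mem a'.2) a.2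
  have hb : b = b' := Subtype.ext (mul_inv_eq_one.mp h2).symm
  subst hb
  have ha : a = a' := Subtype.ext (mul_right_cancel heq')
  rw [ha]

theorem sq_le_card [Finite G] {C : Subgroup G} (h : CharSet G C) (hx : ∃ x ∈ C, x ^ 2 ≠ 1) :
    (ecard C + 1) ^ 2 ≤ Nat.card C := by
  obtain ⟨x0, hx0, hx02⟩ := hx
  obtain ⟨t0, ht0, ht02⟩ := exists_invol h
  have ht01 : t0 ≠ 1 := ne_one_of_orderOf_two ht02
  choose rep hrepN hrep using
    (fun v : {t : G // t ∈ C ∧ orderOf t = 2} => h.trans t0 v.1 ht0 ht02 v.2.1 v.2.2)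
  have hy0 : x0 ^ 2 ∈ C := C.pow_mem hx0 2
  -- the two maps
  let V : Option {t : G // t ∈ C ∧ orderOf t = 2} → G := fun a => a.elim 1 (fun t => t.1)
  let Q : Option {t : G // t ∈ C ∧ orderOf t = 2} → G :=
    fun b => b.elim 1 (fun t => (rep t)⁻¹ * x0 * rep t)
  have hV : ∀ a, V a ∈ C := by
    intro a
    cases a with
    | none => exact C.one_mem
    | some t => exact t.2.1
  have hQ : ∀ b, Q b ∈ C := by
    intro b
    cases b with
    | none => exact C.one_mem
    | some t => exact conj_mem (hrepN t) hx0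
  have hV2 : ∀ a, V a ^ 2 = 1 := by
    intro a
    cases a with
    | none => exact one_pow 2
    | some t =>
      show t.1 ^ 2 = 1
      have h1 := pow_orderOf_eq_one t.1
      rw [t.2.2] at h1
      exact h1
  have hQ2 : ∀ t : {t : G // t ∈ C ∧ orderOf t = 2},
      ((rep t)⁻¹ * x0 * rep t) ^ 2 = (rep t)⁻¹ * x0 ^ 2 * rep t := by
    intro t
    rw [pow_two, pow_two]
    group
  have hQinj : ∀ b b', Q b ^ 2 = Q b' ^ 2 → b = b' := by
    intro b b' hbb
    cases b with
    | none =>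
      cases b' with
      | none => rfl
      | some t' =>
        exfalso
        have h1 : (1 : G) ^ 2 = ((rep t')⁻¹ * x0 * rep t') ^ 2 := hbb
        rw [hQ2, one_pow] at h1
        apply hx02
        have h2 : rep t' * ((rep t')⁻¹ * x0 ^ 2 * rep t') * (rep t')⁻¹ = x0 ^ 2 := by group
        rw [← h2, ← h1]
        group
    | some t =>
      cases b' with
      | none =>
        exfalso
        have h1 : ((rep t)⁻¹ * x0 * rep t) ^ 2 = (1 : G) ^ 2 := hbb
        rw [hQ2, one_pow] at h1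
        apply hx02
        have h2 : rep t * ((rep t)⁻¹ * x0 ^ 2 * rep t) * (rep t)⁻¹ = x0 ^ 2 := by group
        rw [← h2, h1]
        group
      | some t' =>
        have h1 : ((rep t)⁻¹ * x0 * rep t) ^ 2 = ((rep t')⁻¹ * x0 * rep t') ^ 2 := hbb
        rw [hQ2, hQ2] at h1
        have hk := mul_inv_mem_of_conj_eq h hy0 hx02 (hrepN t) (hrepN t') h1
        have h3 := conj_eq_of_mul_inv_mem h ht0 hk
        rw [hrep, hrep] at h3
        rw [Subtype.ext h3]
  have hVinj : ∀ a a', V a = V a' → a = a' := by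
    intro a a' haa
    cases a with
    | none =>
      cases a' with
      | none => rfl
      | some t' =>
        exfalso
        have h1 : (1 : G) = t'.1 := haa
        exact ne_one_of_orderOf_two t'.2.2 h1.symm
    | some t =>
      cases a' with
      | none =>
        exfalso
        have h1 : t.1 = (1 : G) := haa
        exact ne_one_of_orderOf_two t.2.2 h1
      | some t' =>
        have h1 : t.1 = t'.1 := haa
        rw [Subtype.ext h1]
  have hcard : Nat.card (Option {t : G // t ∈ C ∧ orderOf t = 2} ×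
      Option {t : G // t ∈ C ∧ orderOf t = 2}) = (ecard C + 1) ^ 2 := by
    rw [Nat.card_prod, Finite.card_option, sq]
    rfl
  rw [← hcard]
  apply Nat.card_le_card_of_injective
    (fun p : Option {t : G // t ∈ C ∧ orderOf t = 2} × Option {t : G // t ∈ C ∧ orderOf t = 2} =>
      (⟨V p.1 * Q p.2, C.mul_mem (hV p.1) (hQ p.2)⟩ : C))
  rintro ⟨a, b⟩ ⟨a', b'⟩ heq
  have heq' : V a * Q b = V a' * Q b' := congrArg Subtype.val heq
  have hsq : ∀ a b, (V a * Q b) ^ 2 = Q b ^ 2 := by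
    intro a b
    have hc : Commute (V a) (Q b) := h.comm _ _ (hV a) (hQ b)
    rw [hc.mul_pow, hV2, one_mul]
  have hb : b = b' := by
    apply hQinj
    rw [← hsq a b, ← hsq a' b', heq']
  subst hb
  have ha : a = a' := hVinj _ _ (mul_right_cancel heq')
  rw [ha]

theorem main : CharNum.{u} := by
  intro G _ _ C h
  exact ⟨card_normalizer h, card_sq_le h, sq_le_card h⟩

end Cfsg.Agent.Lib.Helper60.AICCharNum
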