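-- S2202 piece CharPairs (helper60): for an involution `t` of `C` (with `CharSet G C`):
-- fibres of `x ↦ x t x⁻¹` over involutions of `C`, the number of pairs of conjugates of `t`
-- with product `t`, and no product of two conjugates of `t` is an element of `C` of order > 2.
import Mathlib
import Cfsg.Agent.Lib.Helper25.AICSpec
import Cfsg.Agent.Lib.Helper60.AICCharNum

set_option autoImplicit false

namespace Cfsg.Agent.Lib.Helper60.AICCharPairs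

open Subgroup Cfsg.Agent.Lib.Helper25.AICSpec Cfsg.Agent.Lib.Helper60.AICCharNum

universe u

variable {G : Type u} [Group G]

theorem sq_eq_one_of_orderOf_two {t : G} (ht : orderOf t = 2) : t * t = 1 := by
  have h1 := pow_orderOf_eq_one t
  rw [ht, pow_two] at h1
  exact h1

theorem inv_eq_self_of_orderOf_two {t : G} (ht : orderOf t = 2) : t⁻¹ = t :=
  inv_eq_of_mul_eq_one_left (sq_eq_one_of_orderOf_two ht)

/-- the centraliser of `t ∈ C#` is `C` (conjugation written on the other side) -/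
theorem mem_of_conj_eq' {C : Subgroup G} (h : CharSet G C) {t x : G} (ht : t ∈ C) (ht1 : t ≠ 1)
    (hx : x * t * x⁻¹ = t) : x ∈ C := by
  apply mem_of_conj_eq h ht ht1
  calc x⁻¹ * t * x = x⁻¹ * (x * t * x⁻¹) * x := by rw [hx]
    _ = t := by group

theorem conj_eq_self' {C : Subgroup G} (h : CharSet G C) {c y : G} (hc : c ∈ C) (hy : y ∈ C) :
    c * y * c⁻¹ = y := by
  have h1 := h.comm c y hc hy
  rw [h1, mul_inv_cancel_right]

/-- two involutions with an involution as product -/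
theorem pair_lemma {a b t : G} (ha : a * a = 1) (hb : b * b = 1) (ht : t * t = 1)
    (hab : a * b = t) : b = a * t ∧ a * t = t * a := by
  have h1 : b = a * t := by rw [← hab, ← mul_assoc, ha, one_mul]
  refine ⟨h1, ?_⟩
  have h2 : a * t * (a * t) = 1 := by rw [← h1]; exact hb
  have h3 : (a * t)⁻¹ = a * t := inv_eq_of_mul_eq_one_left h2
  have h4 : (a * t)⁻¹ = t * a := by
    rw [mul_inv_rev, inv_eq_of_mul_eq_one_left ht, inv_eq_of_mul_eq_one_left ha]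
  rw [← h3, h4]

/-- an involution inverts its product with another involution -/
theorem pair_inv {a b x0 : G} (ha : a * a = 1) (hb : b * b = 1) (hab : a * b = x0) :
    a⁻¹ * x0 * a = x0⁻¹ := by
  rw [← hab, mul_inv_rev, inv_eq_of_mul_eq_one_left ha, inv_eq_of_mul_eq_one_left hb,
    ← mul_assoc, ha, one_mul]

/-- fibres of `x ↦ x t x⁻¹` are cosets of `C` -/
theorem card_fibre [Finite G] {C : Subgroup G} (h : CharSet G C) {t : G} (ht : t ∈ C)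
    (ht1 : t ≠ 1) (r v : G) (hr : r * t * r⁻¹ = v) :
    Nat.card {x : G // x * t * x⁻¹ = v} = Nat.card C := by
  symm
  apply Nat.card_congr
  refine Equiv.ofBijective (fun c : C => (⟨r * c, by
    have h1 : (c : G) * t * (c : G)⁻¹ = t := conj_eq_self' h c.2 ht
    calc r * c * t * (r * c)⁻¹ = r * ((c : G) * t * (c : G)⁻¹) * r⁻¹ := by group
      _ = v := by rw [h1, hr]⟩ : {x : G // x * t * x⁻¹ = v})) ⟨?_, ?_⟩
  · intro c c' heq
    have heq' : r * (c : G) = r * c' := congrArg Subtype.val heq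
    exact Subtype.ext (mul_left_cancel heq')
  · rintro ⟨x, hx⟩
    have hc : r⁻¹ * x ∈ C := by
      apply mem_of_conj_eq' h ht ht1
      calc r⁻¹ * x * t * (r⁻¹ * x)⁻¹ = r⁻¹ * (x * t * x⁻¹) * r := by group
        _ = r⁻¹ * (r * t * r⁻¹) * r := by rw [hx, hr]
        _ = t := by group
    refine ⟨⟨r⁻¹ * x, hc⟩, ?_⟩
    apply Subtype.ext
    show r * (r⁻¹ * x) = x
    group

theorem main : CharPairs.{u} := by
  intro G _ _ C h t ht ht2
  have ht1 : t ≠ 1 := ne_one_of_orderOf_two ht2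
  have htt : t * t = 1 := sq_eq_one_of_orderOf_two ht2
  have hex : ∀ v : {v : G // v ∈ C ∧ orderOf v = 2}, ∃ r : G, r * t * r⁻¹ = v.1 := by
    intro v
    obtain ⟨k, -, hk⟩ := h.trans t v.1 ht ht2 v.2.1 v.2.2
    exact ⟨k⁻¹, by simpa using hk⟩
  choose rep hrep using hex
  refine ⟨?_, ?_, ?_⟩
  · intro v hv hv2
    exact card_fibre h ht ht1 (rep ⟨v, hv, hv2⟩) v (hrep ⟨v, hv, hv2⟩)
  · -- the count of pairs
    have hmul : ∀ v : {v : G // v ∈ C ∧ orderOf v = 2 ∧ v ≠ t},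
        v.1 * t ∈ C ∧ orderOf (v.1 * t) = 2 := by
      intro v
      refine ⟨C.mul_mem v.2.1 ht, ?_⟩
      rw [orderOf_eq_prime_iff]
      constructor
      · have hc : Commute v.1 t := h.comm _ _ v.2.1 ht
        rw [hc.mul_pow, pow_two, pow_two, htt, sq_eq_one_of_orderOf_two v.2.2.1, one_mul]
      · intro h1
        apply v.2.2.2
        have h2 : v.1 = t⁻¹ := eq_inv_of_mul_eq_one_left h1
        rw [h2, inv_eq_self_of_orderOf_two ht2]
    have hI' : Nat.card {v : G // v ∈ C ∧ orderOf v = 2 ∧ v ≠ t} = ecard C - 1 := by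
      have h1 : {v : G | v ∈ C ∧ orderOf v = 2 ∧ v ≠ t} =
          {v : G | v ∈ C ∧ orderOf v = 2} \ {t} := by
        ext v
        simp [and_assoc]
      have h2 : Nat.card {v : G // v ∈ C ∧ orderOf v = 2 ∧ v ≠ t} =
          Set.ncard {v : G | v ∈ C ∧ orderOf v = 2 ∧ v ≠ t} :=
        Nat.card_coe_set_eq {v : G | v ∈ C ∧ orderOf v = 2 ∧ v ≠ t}
      have h3 : ecard C = Set.ncard {v : G | v ∈ C ∧ orderOf v = 2} :=
        Nat.card_coe_set_eq {v : G | v ∈ C ∧ orderOf v = 2}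
      rw [h2, h1, Set.ncard_sdiff_singleton_of_mem (show t ∈ {v : G | v ∈ C ∧ orderOf v = 2} from
        ⟨ht, ht2⟩), h3]
    have hcard : Nat.card ({v : G // v ∈ C ∧ orderOf v = 2 ∧ v ≠ t} × (C × C)) =
        Nat.card C ^ 2 * (ecard C - 1) := by
      rw [Nat.card_prod, Nat.card_prod, hI', sq, mul_comm]
    rw [← hcard]
    symm
    apply Nat.card_congr
    -- conjugation formulas
    have hc1 : ∀ (v : {v : G // v ∈ C ∧ orderOf v = 2 ∧ v ≠ t}) (c : C),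
        rep ⟨v.1, v.2.1, v.2.2.1⟩ * c * t * (rep ⟨v.1, v.2.1, v.2.2.1⟩ * c)⁻¹ = v.1 := by
      intro v c
      have h1 : (c : G) * t * (c : G)⁻¹ = t := conj_eq_self' h c.2 ht
      calc rep ⟨v.1, v.2.1, v.2.2.1⟩ * c * t * (rep ⟨v.1, v.2.1, v.2.2.1⟩ * c)⁻¹
          = rep ⟨v.1, v.2.1, v.2.2.1⟩ * ((c : G) * t * (c : G)⁻¹) *
              (rep ⟨v.1, v.2.1, v.2.2.1⟩)⁻¹ := by group
        _ = v.1 := by rw [h1, hrep]
    have hc2 : ∀ (v : {v : G // v ∈ C ∧ orderOf v = 2 ∧ v ≠ t}) (c : C),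
        rep ⟨v.1 * t, hmul v⟩ * c * t * (rep ⟨v.1 * t, hmul v⟩ * c)⁻¹ = v.1 * t := by
      intro v c
      have h1 : (c : G) * t * (c : G)⁻¹ = t := conj_eq_self' h c.2 ht
      calc rep ⟨v.1 * t, hmul v⟩ * c * t * (rep ⟨v.1 * t, hmul v⟩ * c)⁻¹
          = rep ⟨v.1 * t, hmul v⟩ * ((c : G) * t * (c : G)⁻¹) *
              (rep ⟨v.1 * t, hmul v⟩)⁻¹ := by group
        _ = v.1 * t := by rw [h1, hrep]
    refine Equiv.ofBijective
      (fun q : {v : G // v ∈ C ∧ orderOf v = 2 ∧ v ≠ t} × (C × C) =>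
        (⟨(rep ⟨q.1.1, q.1.2.1, q.1.2.2.1⟩ * q.2.1, rep ⟨q.1.1 * t, hmul q.1⟩ * q.2.2), by
          show rep ⟨q.1.1, q.1.2.1, q.1.2.2.1⟩ * q.2.1 * t *
              (rep ⟨q.1.1, q.1.2.1, q.1.2.2.1⟩ * q.2.1)⁻¹ *
            (rep ⟨q.1.1 * t, hmul q.1⟩ * q.2.2 * t * (rep ⟨q.1.1 * t, hmul q.1⟩ * q.2.2)⁻¹) = t
          rw [hc1, hc2, ← mul_assoc, sq_eq_one_of_orderOf_two q.1.2.2.1, one_mul]⟩ :
          {p : G × G // p.1 * t * p.1⁻¹ * (p.2 * t * p.2⁻¹) = t})) ⟨?_, ?_⟩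
    · rintro ⟨v, c1, c2⟩ ⟨v', c1', c2'⟩ heq
      have heq' := congrArg Subtype.val heq
      have e1 : rep ⟨v.1, v.2.1, v.2.2.1⟩ * (c1 : G) = rep ⟨v'.1, v'.2.1, v'.2.2.1⟩ * c1' :=
        congrArg Prod.fst heq'
      have e2 : rep ⟨v.1 * t, hmul v⟩ * (c2 : G) = rep ⟨v'.1 * t, hmul v'⟩ * c2' :=
        congrArg Prod.snd heq'
      have hv : v = v' := by
        apply Subtype.ext
        rw [← hc1 v c1, ← hc1 v' c1', e1]
      subst hv
      have hc1' : c1 = c1' := Subtype.ext (mul_left_cancel e1)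
      have hc2' : c2 = c2' := Subtype.ext (mul_left_cancel e2)
      rw [hc1', hc2']
    · rintro ⟨⟨p1, p2⟩, hp⟩
      have hp' : p1 * t * p1⁻¹ * (p2 * t * p2⁻¹) = t := hp
      have ho1 : orderOf (p1 * t * p1⁻¹) = 2 := by rw [orderOf_conj', ht2]
      have ho2 : orderOf (p2 * t * p2⁻¹) = 2 := by rw [orderOf_conj', ht2]
      have hs1 := sq_eq_one_of_orderOf_two ho1
      have hs2 := sq_eq_one_of_orderOf_two ho2
      obtain ⟨h21, hcomm⟩ := pair_lemma hs1 hs2 htt hp'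
      have hmem1 : p1 * t * p1⁻¹ ∈ C := by
        apply mem_of_conj_eq' h ht ht1
        rw [hcomm, mul_inv_cancel_right]
      have hne : p1 * t * p1⁻¹ ≠ t := by
        intro h4
        rw [h4, htt] at h21
        exact ne_one_of_orderOf_two ho2 h21
      have hr1 := hrep ⟨p1 * t * p1⁻¹, hmem1, ho1⟩
      have hr2 := hrep ⟨p1 * t * p1⁻¹ * t, hmul ⟨p1 * t * p1⁻¹, hmem1, ho1, hne⟩⟩
      have hcm1 : (rep ⟨p1 * t * p1⁻¹, hmem1, ho1⟩)⁻¹ * p1 ∈ C := by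
        apply mem_of_conj_eq' h ht ht1
        calc (rep ⟨p1 * t * p1⁻¹, hmem1, ho1⟩)⁻¹ * p1 * t *
              ((rep ⟨p1 * t * p1⁻¹, hmem1, ho1⟩)⁻¹ * p1)⁻¹
            = (rep ⟨p1 * t * p1⁻¹, hmem1, ho1⟩)⁻¹ * (p1 * t * p1⁻¹) *
                rep ⟨p1 * t * p1⁻¹, hmem1, ho1⟩ := by group
          _ = (rep ⟨p1 * t * p1⁻¹, hmem1, ho1⟩)⁻¹ *
                (rep ⟨p1 * t * p1⁻¹, hmem1, ho1⟩ * t * (rep ⟨p1 * t * p1⁻¹, hmem1, ho1⟩)⁻¹) *
                rep ⟨p1 * t * p1⁻¹, hmem1, ho1⟩ := by rw [hr1]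
          _ = t := by group
      have hcm2 : (rep ⟨p1 * t * p1⁻¹ * t, hmul ⟨p1 * t * p1⁻¹, hmem1, ho1, hne⟩⟩)⁻¹ * p2 ∈ C := by
        apply mem_of_conj_eq' h ht ht1
        calc (rep ⟨p1 * t * p1⁻¹ * t, hmul ⟨p1 * t * p1⁻¹, hmem1, ho1, hne⟩⟩)⁻¹ * p2 * t *
              ((rep ⟨p1 * t * p1⁻¹ * t, hmul ⟨p1 * t * p1⁻¹, hmem1, ho1, hne⟩⟩)⁻¹ * p2)⁻¹
            = (rep ⟨p1 * t * p1⁻¹ * t, hmul ⟨p1 * t * p1⁻¹, hmem1, ho1, hne⟩⟩)⁻¹ *
                (p2 * t * p2⁻¹) *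
                rep ⟨p1 * t * p1⁻¹ * t, hmul ⟨p1 * t * p1⁻¹, hmem1, ho1, hne⟩⟩ := by group
          _ = (rep ⟨p1 * t * p1⁻¹ * t, hmul ⟨p1 * t * p1⁻¹, hmem1, ho1, hne⟩⟩)⁻¹ *
                (rep ⟨p1 * t * p1⁻¹ * t, hmul ⟨p1 * t * p1⁻¹, hmem1, ho1, hne⟩⟩ * t *
                  (rep ⟨p1 * t * p1⁻¹ * t, hmul ⟨p1 * t * p1⁻¹, hmem1, ho1, hne⟩⟩)⁻¹) *
                rep ⟨p1 * t * p1⁻¹ * t, hmul ⟨p1 * t * p1⁻¹, hmem1, ho1, hne⟩⟩ := by
              rw [hr2, h21]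
          _ = t := by group
      refine ⟨(⟨p1 * t * p1⁻¹, hmem1, ho1, hne⟩, ⟨_, hcm1⟩, ⟨_, hcm2⟩), ?_⟩
      apply Subtype.ext
      apply Prod.ext
      · show rep ⟨p1 * t * p1⁻¹, hmem1, ho1⟩ * ((rep ⟨p1 * t * p1⁻¹, hmem1, ho1⟩)⁻¹ * p1) = p1
        rw [mul_inv_cancel_left]
      · show rep ⟨p1 * t * p1⁻¹ * t, hmul ⟨p1 * t * p1⁻¹, hmem1, ho1, hne⟩⟩ *
            ((rep ⟨p1 * t * p1⁻¹ * t, hmul ⟨p1 * t * p1⁻¹, hmem1, ho1, hne⟩⟩)⁻¹ * p2) = p2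
        rw [mul_inv_cancel_left]
  · intro x0 hx0 hx02 p1 p2 hp
    have ho1 : orderOf (p1 * t * p1⁻¹) = 2 := by rw [orderOf_conj', ht2]
    have ho2 : orderOf (p2 * t * p2⁻¹) = 2 := by rw [orderOf_conj', ht2]
    have hs1 := sq_eq_one_of_orderOf_two ho1
    have hs2 := sq_eq_one_of_orderOf_two ho2
    have hinv1 := inv_eq_self_of_orderOf_two ho1
    have hinv2 := inv_eq_self_of_orderOf_two ho2
    have hx01 : x0 ≠ 1 := by
      rintro rfl
      exact hx02 (one_pow 2)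
    -- t1⁻¹ x0 t1 = x0⁻¹
    have h1 : (p1 * t * p1⁻¹)⁻¹ * x0 * (p1 * t * p1⁻¹) = x0⁻¹ := pair_inv hs1 hs2 hp
    have hN : p1 * t * p1⁻¹ ∈ normalizer (C : Set G) :=
      h.ti _ x0 hx0 hx01 (by rw [h1]; exact C.inv_mem hx0)
    have hC1 : p1 * t * p1⁻¹ ∈ C := h.inv_mem _ hN ho1
    have h2 := conj_eq_self h hC1 hx0
    rw [h1] at h2
    apply hx02
    rw [pow_two]
    calc x0 * x0 = x0⁻¹ * x0 := by rw [h2]
      _ = 1 := inv_mul_cancel x0

end Cfsg.Agent.Lib.Helper60.AICCharPairs
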