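import Mathlib
import Cfsg.Agent.Lib.Helper25.ACStmt

set_option autoImplicit false

/-! Piece VCORE of S3912 (helper60, third seat). -/

namespace Cfsg.Agent.Lib.Helper60.ACVCORE

open Cfsg.Agent.Lib.Helper25.ACStmt

universe u

theorem main (hO : OddCore.{u}) (hH : HatB.{u}) (hE : ExV.{u}) (hS : VSmall.{u})
    (hA : VAll4.{u}) : VCore.{u} := by
  intro G _ _ hsolv hB huniq P₁ hP8 hnab
  obtain ⟨K, hKn, hKodd, hKmax⟩ := hO G
  haveI := hKn
  obtain ⟨hconj4, hinv⟩ := hH G hB K hKodd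
  have hQ2 := hinv huniq
  have hcop : Nat.gcd 8 (Nat.card ↥K) = 1 := by
    have h1 : Nat.Coprime (2 ^ 3) (Nat.card ↥K) := (Nat.coprime_two_left.mpr hKodd).pow_left 3
    exact h1
  have hPK : ∀ w ∈ P₁, w ∈ K → w = 1 := by
    intro w hw hwK
    have h1 : orderOf w ∣ 8 := by
      rw [← hP8]
      exact Subgroup.orderOf_dvd_natCard P₁ hw
    have h2 : orderOf w ∣ Nat.card ↥K := Subgroup.orderOf_dvd_natCard K hwK
    have h3 := Nat.dvd_gcd h1 h2
    rw [hcop] at h3
    exact orderOf_eq_one_iff.mp (Nat.dvd_one.mp h3)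
  have hinj : ∀ x ∈ P₁, ∀ y ∈ P₁, (QuotientGroup.mk' K x) = QuotientGroup.mk' K y → x = y := by
    intro x hx y hy hxy
    rw [QuotientGroup.mk'_apply, QuotientGroup.mk'_apply] at hxy
    have h1 : x⁻¹ * y ∈ K := QuotientGroup.eq.mp hxy
    have h2 := hPK _ (P₁.mul_mem (P₁.inv_mem hx) hy) h1
    exact inv_mul_eq_one.mp h2
  obtain ⟨a, ha, b, hb, hab⟩ := hnab
  have hP4 : ∀ x ∈ P₁, x ^ 4 = 1 := by
    intro x hx
    have h1 : orderOf x ∣ 2 ^ 3 := by
      have h0 := Subgroup.orderOf_dvd_natCard P₁ hx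
      rw [hP8] at h0
      exact h0
    obtain ⟨m, hm, hmo⟩ := (Nat.dvd_prime_pow Nat.prime_two).mp h1
    have hm3 : m ≠ 3 := by
      rintro rfl
      apply hab
      have hz : Subgroup.zpowers x = P₁ := by
        apply Subgroup.eq_of_le_of_card_ge (Subgroup.zpowers_le.mpr hx)
        rw [Nat.card_zpowers, hmo, hP8]
        norm_num
      have ha' : a ∈ Subgroup.zpowers x := hz ▸ ha
      have hb' : b ∈ Subgroup.zpowers x := hz ▸ hb
      obtain ⟨i, rfl⟩ := Subgroup.mem_zpowers_iff.mp ha'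
      obtain ⟨j, rfl⟩ := Subgroup.mem_zpowers_iff.mp hb'
      rw [← zpow_add, ← zpow_add, add_comm]
    have hm2 : m ≤ 2 := by omega
    have h4 : orderOf x ∣ 2 ^ 2 := by
      rw [hmo]
      exact pow_dvd_pow 2 hm2
    exact orderOf_dvd_iff_pow_eq_one.mp h4
  haveI : Fact (Nat.Prime 2) := ⟨Nat.prime_two⟩
  obtain ⟨a₀', ha₀'⟩ := exists_prime_orderOf_dvd_card' (G := ↥P₁) 2 (by rw [hP8]; norm_num)
  obtain ⟨a₀, ha₀, ha₀2⟩ : ∃ a₀ ∈ P₁, orderOf a₀ = 2 :=
    ⟨a₀'.1, a₀'.2, by rw [Subgroup.orderOf_coe]; exact ha₀'⟩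
  have hz2 : orderOf (QuotientGroup.mk' K a₀) = 2 := by
    apply orderOf_eq_prime
    · rw [← map_pow, ← ha₀2, pow_orderOf_eq_one, map_one]
    · intro h1
      have h2 := hinj a₀ ha₀ 1 P₁.one_mem (by rw [h1, map_one])
      rw [h2, orderOf_one] at ha₀2
      exact absurd ha₀2 (by norm_num)
  have hzuniq : ∀ x : G ⧸ K, orderOf x = 2 → x = QuotientGroup.mk' K a₀ :=
    fun x hx => hQ2 x _ hx hz2
  have hex : ∃ x : G ⧸ K, x ≠ 1 ∧ x ≠ QuotientGroup.mk' K a₀ := by
    have key : ∀ x ∈ P₁, x ≠ 1 → x ≠ a₀ →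
        ∃ x : G ⧸ K, x ≠ 1 ∧ x ≠ QuotientGroup.mk' K a₀ := by
      intro x hx hx1 hxa
      refine ⟨QuotientGroup.mk' K x, ?_, ?_⟩
      · intro h1
        exact hx1 (hinj x hx 1 P₁.one_mem (by rw [h1, map_one]))
      · intro h1
        exact hxa (hinj x hx a₀ ha₀ h1)
    by_cases haa : a = a₀
    · apply key b hb
      · rintro rfl
        exact hab (by rw [mul_one, one_mul])
      · rintro rfl
        exact hab (by rw [haa])
    · apply key a ha
      · rintro rfl
        exact hab (by rw [mul_one, one_mul])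
      · exact haa
  have hQsolv : Group.IsSolvable (G ⧸ K) := inferInstance
  obtain ⟨V, hVn, hV2, hVex, hVsq⟩ := hE (G ⧸ K) hQsolv hKmax _ hz2 hzuniq hex
  have hall4 := hA (G ⧸ K) V hVn hconj4 _ hz2 hzuniq hV2 hVex
  have hPV : ∀ x ∈ P₁, QuotientGroup.mk' K x ∈ V := by
    intro x hx
    apply hall4
    rw [← map_pow, hP4 x hx, map_one]
  have hzV : QuotientGroup.mk' K a₀ ∈ V := hPV a₀ ha₀
  have hle8 : Nat.card ↥V ≤ 8 := by
    apply hS (↥V) hV2 ⟨_, hzV⟩
    · intro h1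
      have h2 : QuotientGroup.mk' K a₀ = 1 := congrArg Subtype.val h1
      rw [h2, orderOf_one] at hz2
      exact absurd hz2 (by norm_num)
    · intro x hx
      by_cases hx1 : x = 1
      · exact Or.inl hx1
      · right
        apply Subtype.ext
        apply hzuniq
        apply orderOf_eq_prime
        · have h2 := congrArg Subtype.val hx
          rw [Subgroup.coe_pow, Subgroup.coe_one] at h2
          exact h2
        · intro h2
          exact hx1 (Subtype.ext h2)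
    · intro v
      rcases hVsq v.1 v.2 with h | h
      · left
        apply Subtype.ext
        rw [Subgroup.coe_pow, Subgroup.coe_one]
        exact h
      · right
        apply Subtype.ext
        rw [Subgroup.coe_pow]
        exact h
  have hge8 : 8 ≤ Nat.card ↥V := by
    rw [← hP8]
    exact Nat.card_le_card_of_injective
      (fun x : ↥P₁ => (⟨QuotientGroup.mk' K x.1, hPV x.1 x.2⟩ : ↥V))
      (fun x y hxy => Subtype.ext (hinj x.1 x.2 y.1 y.2 (congrArg Subtype.val hxy)))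
  refine ⟨K, hKn, hKodd, hQ2, V, hVn, le_antisymm hle8 hge8,
    ⟨_, hPV a ha, _, hPV b hb, ?_⟩, hall4⟩
  intro h1
  apply hab
  apply hinj (a * b) (P₁.mul_mem ha hb) (b * a) (P₁.mul_mem hb ha)
  rw [map_mul, map_mul]
  exact h1

end Cfsg.Agent.Lib.Helper60.ACVCORE
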