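-- S4504 part C, piece AIrr (helper60): the class sum of the elements of order `p` on an
-- irreducible character.
import Mathlib
import Cfsg.Agent.Lib.Lead.BrHalfStmt
import Cfsg.Agent.Lib.CT.Wedderburn

set_option autoImplicit false

namespace Cfsg.Agent.Lib.Helper60.BrCAIrr

open Cfsg Cfsg.Agent.Lib.Lead.BrHalf
open scoped ComplexConjugate Classical

universe u

theorem orderOf_conj' {L : Type u} [Group L] (h u : L) : orderOf (h * u * h⁻¹) = orderOf u := by
  have h1 := MulEquiv.orderOf_eq (MulAut.conj h) u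
  simpa using h1

theorem main (hCS : CS.{u}) (hCountP : CountP.{u}) (hSumP : SumP.{u}) : AIrr.{u} := by
  intro L _ _ p _ c θ hθ g
  have hθc : IsClassFunction L θ :=
    Cfsg.Agent.Lib.CT.Wedderburn.char_isClassFunction
      (Cfsg.Agent.Lib.CT.Wedderburn.isCharacter_of_irr hθ)
  have hw : IsClassFunction L (fun u : L => if orderOf u = p then (1 : ℂ) else 0) := by
    intro u h
    show (if orderOf (h * u * h⁻¹) = p then (1 : ℂ) else 0) = if orderOf u = p then 1 else 0
    rw [orderOf_conj']
  have h1 := hCS θ hθ (fun u : L => if orderOf u = p then (1 : ℂ) else 0) hw g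
  have e1 : ∀ F : L → ℂ, (∑ u : L, if orderOf u = p then F u else 0) =
      ∑ u : L, (if orderOf u = p then (1 : ℂ) else 0) * F u := by
    intro F
    apply Finset.sum_congr rfl
    intro u _
    by_cases h : orderOf u = p
    · rw [if_pos h, if_pos h, one_mul]
    · rw [if_neg h, if_neg h, zero_mul]
  have hp : 0 < p := (Fact.out : p.Prime).pos
  have h2 : ∑ a ∈ Finset.range p, θ (c.x ^ a) = θ 1 + ∑ a ∈ Finset.Ico 1 p, θ (c.x ^ a) := by
    rw [Finset.range_eq_Ico, Finset.sum_eq_sum_Ico_succ_bot hp]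
    simp
  rw [e1 (fun u => θ (g * u)), h1, ← e1 θ, hCountP p c θ hθc, hSumP p c θ, h2]
  ring

end Cfsg.Agent.Lib.Helper60.BrCAIrr
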