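-- S4504 part C, piece SumSing (helper60): the contribution of the `p`-singular elements to
-- `∑ (|ξ|^4 - |ξ|^2)`.
import Mathlib
import Cfsg.Agent.Lib.Lead.BrHalfStmt
import Cfsg.Agent.Lib.CT.Wedderburn

set_option autoImplicit false

namespace Cfsg.Agent.Lib.Helper60.BrCSumSing

open Cfsg Cfsg.Agent.Lib.Lead.BrHalf
open scoped ComplexConjugate Classical

universe u

theorem main (hKEx : KEx.{u}) (hCountSing : CountSing.{u}) (hCountP : CountP.{u})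
    (hSqSum : SqSum) (hPerClass : PerClass) (hPerSum : PerSum) (hPerDiff : PerDiff)
    (hPerSq : PerSq) (hQ4 : Q4) (hXiCent : XiCent.{u}) : SumSing.{u} := by
  intro L _ _ p _ c
  have hp : p.Prime := Fact.out
  have hp5 := c.hp5
  have hp2 : p ≠ 2 := by omega
  obtain ⟨k, -, hk, -⟩ := hKEx p c
  obtain ⟨hξ1, hξz⟩ := hXiCent p c
  have he : 2 * c.e + 1 = p := c.hdeg
  have he0 : (c.e : ℝ) ≠ 0 := by
    have h0 : c.e ≠ 0 := by omega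
    exact_mod_cast h0
  have hξc : IsClassFunction L c.ξ :=
    Cfsg.Agent.Lib.CT.Wedderburn.char_isClassFunction
      (Cfsg.Agent.Lib.CT.Wedderburn.isCharacter_of_irr c.hξ)
  have hFz : ∀ g : L, ∀ z ∈ Subgroup.center L,
      (((‖c.ξ (g * z)‖ ^ 4 - ‖c.ξ (g * z)‖ ^ 2 : ℝ)) : ℂ) =
        (((‖c.ξ g‖ ^ 4 - ‖c.ξ g‖ ^ 2 : ℝ)) : ℂ) := by
    intro g z hz
    obtain ⟨hnz, hgz⟩ := hξz z hz
    have h1 : ‖c.ξ (g * z)‖ = ‖c.ξ g‖ := by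
      rw [hgz g, norm_mul, norm_div, hnz, hξ1, Complex.norm_natCast, div_self he0, mul_one]
    rw [h1]
  have hFc : IsClassFunction L (fun g => (((‖c.ξ g‖ ^ 4 - ‖c.ξ g‖ ^ 2 : ℝ)) : ℂ)) := by
    intro g h
    show (((‖c.ξ (h * g * h⁻¹)‖ ^ 4 - ‖c.ξ (h * g * h⁻¹)‖ ^ 2 : ℝ)) : ℂ) =
      (((‖c.ξ g‖ ^ 4 - ‖c.ξ g‖ ^ 2 : ℝ)) : ℂ)
    rw [hξc g h]
  have e1 := hCountSing p c (fun g => (((‖c.ξ g‖ ^ 4 - ‖c.ξ g‖ ^ 2 : ℝ)) : ℂ)) hFz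
  have e2 := hCountP p c (fun g => (((‖c.ξ g‖ ^ 4 - ‖c.ξ g‖ ^ 2 : ℝ)) : ℂ)) hFc
  have h1 : ¬ p ∣ 1 := by
    intro h
    have h2 := Nat.le_of_dvd one_pos h
    omega
  have hs : per p c.ζ 1 + per p c.ζ k = -1 := by
    have h2 := hPerSum p hp2 c.ζ c.hζ 1 k h1 hk
    rwa [one_mul] at h2
  have hd : (per p c.ζ 1 - per p c.ζ k) * conj (per p c.ζ 1 - per p c.ζ k) = (p : ℂ) := by
    have h2 := hPerDiff p hp2 c.ζ c.hζ 1 k h1 hk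
    rwa [one_mul] at h2
  have hq : (per p c.ζ 1 - per p c.ζ k) ^ 2 = if p % 4 = 1 then (p : ℂ) else -(p : ℂ) := by
    have h2 := hPerSq p hp2 c.ζ c.hζ 1 k h1 hk
    rwa [one_mul] at h2
  obtain ⟨hm2, hm4⟩ := hQ4 p (per p c.ζ 1) (per p c.ζ k) hs hd hq
  have e3 := hSqSum p hp2
    (fun a => (((‖c.ξ (c.x ^ a)‖ ^ 4 - ‖c.ξ (c.x ^ a)‖ ^ 2 : ℝ)) : ℂ))
    (((‖per p c.ζ 1‖ ^ 4 - ‖per p c.ζ 1‖ ^ 2 : ℝ)) : ℂ)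
    (((‖per p c.ζ k‖ ^ 4 - ‖per p c.ζ k‖ ^ 2 : ℝ)) : ℂ)
    (by
      intro a ha hsq
      have h2 := (hPerClass p c.ζ c.hζ a k ha).1 hsq
      show (((‖c.ξ (c.x ^ a)‖ ^ 4 - ‖c.ξ (c.x ^ a)‖ ^ 2 : ℝ)) : ℂ) = _
      rw [c.hres a, h2])
    (by
      intro a ha hsq
      have h2 := (hPerClass p c.ζ c.hζ a k ha).2 hsq hk
      show (((‖c.ξ (c.x ^ a)‖ ^ 4 - ‖c.ξ (c.x ^ a)‖ ^ 2 : ℝ)) : ℂ) = _
      rw [c.hres a, h2])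
  have hcast : (((∑ g : L, if p ∣ orderOf g then ‖c.ξ g‖ ^ 4 - ‖c.ξ g‖ ^ 2 else 0 : ℝ)) : ℂ) =
      ∑ g : L, if p ∣ orderOf g then (((‖c.ξ g‖ ^ 4 - ‖c.ξ g‖ ^ 2 : ℝ)) : ℂ) else 0 := by
    rw [Complex.ofReal_sum]
    apply Finset.sum_congr rfl
    intro g _
    by_cases h : p ∣ orderOf g
    · rw [if_pos h, if_pos h]
    · rw [if_neg h, if_neg h, Complex.ofReal_zero]
  have hpe : (p - 1) / 2 = c.e := by omega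
  have hsum : (‖per p c.ζ 1‖ ^ 4 - ‖per p c.ζ 1‖ ^ 2 + (‖per p c.ζ k‖ ^ 4 - ‖per p c.ζ k‖ ^ 2) : ℝ)
      = q4 p - ((p : ℝ) + 1) / 2 := by linarith
  have hfin : (((∑ g : L, if p ∣ orderOf g then ‖c.ξ g‖ ^ 4 - ‖c.ξ g‖ ^ 2 else 0 : ℝ)) : ℂ) =
      (((c.zc : ℝ) * (c.n : ℝ) * (c.e : ℝ) * (q4 p - ((p : ℝ) + 1) / 2) : ℝ) : ℂ) := by
    rw [hcast, e1, e2, e3, hpe, ← Complex.ofReal_add, hsum]
    push_cast
    ring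
  exact_mod_cast hfin

end Cfsg.Agent.Lib.Helper60.BrCSumSing
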