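import Mathlib
import Cfsg.Prelude.Def_Characters
import Cfsg.Prelude.Def_Blocks
import Cfsg.Agent.Lib.Helper76.BrRBStmt
import Cfsg.Agent.Lib.Helper81.Mult
import Cfsg.Agent.Lib.Helper80.Schur
import Cfsg.Agent.Lib.CT.Ops
import Cfsg.Agent.Lib.CT.Wedderburn

/-!
# S4504, part R, piece `ORB`: `|N : C| = e` and `ξ|_C` is a sum of `e` linear characters,
conjugates of one of them (from `T1T` and `NCE`).
-/

set_option autoImplicit false

namespace Cfsg.Agent.Lib.Helper60.BrRBORB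

open Cfsg Cfsg.Agent.Lib.Helper76.BrRB
open scoped ComplexConjugate Classical

universe u

/-- A Sylow subgroup of prime order lies in its centralizer. -/
theorem le_centralizer {L : Type u} [Group L] {p : ℕ} [Fact p.Prime] (P : Sylow p L)
    (hP : Nat.card (P : Subgroup L) = p) :
    (P : Subgroup L) ≤ Subgroup.centralizer ((P : Subgroup L) : Set L) := by
  have hcyc : IsCyclic (P : Subgroup L) := isCyclic_of_prime_card hP
  obtain ⟨g, hg⟩ := hcyc.exists_generator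
  intro u hu
  rw [Subgroup.mem_centralizer_iff]
  intro h hh
  obtain ⟨i, hi⟩ := Subgroup.mem_zpowers_iff.1 (hg ⟨u, hu⟩)
  obtain ⟨j, hj⟩ := Subgroup.mem_zpowers_iff.1 (hg ⟨h, hh⟩)
  have h1 : (⟨h, hh⟩ : (P : Subgroup L)) * ⟨u, hu⟩ = ⟨u, hu⟩ * ⟨h, hh⟩ := by
    rw [← hi, ← hj, ← zpow_add, ← zpow_add, add_comm]
  exact congrArg Subtype.val h1

/-- Schur: a central element acts as a scalar in an irreducible character. -/
theorem irr_central_mul {C : Type u} [Group C] (φ : IrrCharacter C) (z : C)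
    (hz : ∀ g : C, z * g = g * z) (k : C) :
    φ.1 (z * k) = φ.1 z / φ.1 1 * φ.1 k := by
  obtain ⟨φf, n, ρ, hρ, rfl⟩ := φ
  have := hρ
  have hcomm : ∀ g, ρ z * ρ g = ρ g * ρ z := by
    intro g; rw [← map_mul, ← map_mul, hz]
  obtain ⟨c, hc⟩ := Cfsg.Agent.Lib.Helper80.Schur.schur_scalar ρ (ρ z) hcomm
  have h1 : ρ.character 1 ≠ 0 :=
    Cfsg.Agent.Lib.CT.Wedderburn.irr_apply_one_ne_zero ⟨n, ρ, hρ, rfl⟩
  have h2 : ρ.character z = c * ρ.character 1 := by
    unfold Representation.character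
    rw [hc, map_smul, (map_one ρ : ρ 1 = 1), smul_eq_mul]
  have h3 : ρ.character (z * k) = c * ρ.character k := by
    unfold Representation.character
    rw [map_mul, hc, smul_mul_assoc, one_mul, map_smul, smul_eq_mul]
  show ρ.character (z * k) = ρ.character z / ρ.character 1 * ρ.character k
  rw [h3, h2, mul_div_assoc, div_self h1, mul_one]

theorem trace_mul_fin_one (f g : Module.End ℂ (Fin 1 → ℂ)) :
    LinearMap.trace ℂ (Fin 1 → ℂ) (f * g) =
      LinearMap.trace ℂ (Fin 1 → ℂ) f * LinearMap.trace ℂ (Fin 1 → ℂ) g := by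
  rw [LinearMap.trace_eq_matrix_trace ℂ (Pi.basisFun ℂ (Fin 1)),
    LinearMap.trace_eq_matrix_trace ℂ (Pi.basisFun ℂ (Fin 1)) f,
    LinearMap.trace_eq_matrix_trace ℂ (Pi.basisFun ℂ (Fin 1)) g, LinearMap.toMatrix_mul,
    Matrix.trace_fin_one, Matrix.trace_fin_one, Matrix.trace_fin_one, Matrix.mul_apply]
  simp

/-- A character of degree one is a homomorphism to the units. -/
theorem exists_hom_of_degree_one {C : Type u} [Group C] (φ : C → ℂ) (hφ : IsCharacter C φ)
    (h1 : φ 1 = 1) : ∃ μ : C →* ℂˣ, ∀ k, ((μ k : ℂˣ) : ℂ) = φ k := by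
  obtain ⟨n, ρ, rfl⟩ := hφ
  have hn : n = 1 := by
    have : ρ.character 1 = (n : ℂ) := by
      unfold Representation.character
      rw [(map_one ρ : ρ 1 = 1)]
      simp
    rw [this] at h1
    exact_mod_cast h1
  subst hn
  let f : C →* ℂ :=
    { toFun := fun k => ρ.character k
      map_one' := h1
      map_mul' := fun a b => by
        unfold Representation.character
        rw [map_mul, trace_mul_fin_one] }
  exact ⟨f.toHomUnits, fun k => rfl⟩

/-- Orthogonality of the homomorphisms of a finite group to `ℂˣ`. -/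
theorem hom_orth {P : Type u} [Group P] [Fintype P] (lam psi : P →* ℂˣ) :
    ∑ u : P, ((lam u : ℂˣ) : ℂ) * conj ((psi u : ℂˣ) : ℂ) =
      if lam = psi then (Fintype.card P : ℂ) else 0 := by
  have hconj : ∀ u : P, conj ((psi u : ℂˣ) : ℂ) = (((psi u)⁻¹ : ℂˣ) : ℂ) := by
    intro u
    have hfin : (psi u) ^ (Fintype.card P) = 1 := by
      rw [← map_pow, pow_card_eq_one, map_one]
    have hnorm : ‖((psi u : ℂˣ) : ℂ)‖ = 1 := by
      have h := congrArg (fun z : ℂˣ => ‖(z : ℂ)‖) hfin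
      simp only [Units.val_pow_eq_pow_val, norm_pow, Units.val_one, norm_one] at h
      exact (pow_eq_one_iff_of_nonneg (norm_nonneg _) (Fintype.card_ne_zero)).1 h
    rw [Units.val_inv_eq_inv_val]
    exact (Complex.inv_eq_conj hnorm).symm
  split_ifs with h
  · subst h
    simp_rw [hconj, ← Units.val_mul, mul_inv_cancel]
    simp
  · have hne : ((Units.coeHom ℂ).comp (lam * psi⁻¹) : P →* ℂ) ≠ 1 := by
      intro h1
      apply h
      ext u
      have h2 := congrArg (fun f : P →* ℂ => f u) h1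
      simp only [MonoidHom.coe_comp, Function.comp_apply, MonoidHom.mul_apply,
        MonoidHom.inv_apply, Units.coeHom_apply, MonoidHom.one_apply] at h2
      have h3 : lam u * (psi u)⁻¹ = 1 := Units.ext h2
      rw [mul_inv_eq_one] at h3
      rw [h3]
    have h0 := sum_hom_units_eq_zero _ hne
    rw [← h0]
    refine Finset.sum_congr rfl fun u _ => ?_
    rw [hconj]
    simp

/-- Conjugation by an element of the normalizer, as an automorphism of the subgroup. -/
def cjE {L : Type u} [Group L] (H : Subgroup L) (n : Subgroup.normalizer (H : Set L)) :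
    H ≃* H where
  toFun u := ⟨(n : L) * u * (n : L)⁻¹, (Subgroup.mem_normalizer_iff.1 n.2 u).1 u.2⟩
  invFun u := ⟨(n : L)⁻¹ * u * (n : L), by
    have := (Subgroup.mem_normalizer_iff.1 (inv_mem n.2) u).1 u.2
    simpa using this⟩
  left_inv u := by ext; simp [mul_assoc]
  right_inv u := by ext; simp [mul_assoc]
  map_mul' a b := by ext; simp [mul_assoc]

theorem cjE_apply {L : Type u} [Group L] (H : Subgroup L)
    (n : Subgroup.normalizer (H : Set L)) (u : H) :
    ((cjE H n u : H) : L) = (n : L) * u * (n : L)⁻¹ := rfl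

/-- A nontrivial homomorphism on a group of prime order is injective. -/
theorem hom_injective_of_prime {H : Type u} [Group H] {p : ℕ} (hp : p.Prime)
    (hH : Nat.card H = p) (ψ₀ : H →* ℂˣ) (hψ₀ : ψ₀ ≠ 1) : Function.Injective ψ₀ := by
  have : Fact (Nat.card H).Prime := ⟨by rw [hH]; exact hp⟩
  rcases Subgroup.eq_bot_or_eq_top_of_prime_card ψ₀.ker with h | h
  · exact (MonoidHom.ker_eq_bot_iff ψ₀).1 h
  · exfalso
    apply hψ₀
    ext u
    have : u ∈ ψ₀.ker := by rw [h]; exact Subgroup.mem_top u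
    rw [MonoidHom.mem_ker] at this
    rw [this]
    rfl

/-- Free action: the orbit of a nontrivial homomorphism on a subgroup `H` of prime order under
the normalizer of `H` has at least `|N : C|` elements. -/
theorem orbit_card_ge {L : Type u} [Group L] [Fintype L] (H : Subgroup L) {p : ℕ}
    (hp : p.Prime) (hH : Nat.card H = p) (ψ₀ : H →* ℂˣ) (hψ₀ : ψ₀ ≠ 1) :
    (Subgroup.centralizer (H : Set L)).relIndex (Subgroup.normalizer (H : Set L)) ≤
      (Finset.univ.image (fun n : Subgroup.normalizer (H : Set L) =>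
        ψ₀.comp (cjE H n).toMonoidHom)).card := by
  have hinj := hom_injective_of_prime hp hH ψ₀ hψ₀
  set f : Subgroup.normalizer (H : Set L) → (H →* ℂˣ) :=
    fun n => ψ₀.comp (cjE H n).toMonoidHom with hf
  have hCN : Subgroup.centralizer (H : Set L) ≤ Subgroup.normalizer (H : Set L) :=
    Subgroup.centralizer_le_normalizer _
  have hmul : Nat.card (Subgroup.centralizer (H : Set L)) *
      (Subgroup.centralizer (H : Set L)).relIndex (Subgroup.normalizer (H : Set L)) =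
      Nat.card (Subgroup.normalizer (H : Set L)) := by
    have := Subgroup.relIndex_mul_relIndex ⊥ (Subgroup.centralizer (H : Set L))
      (Subgroup.normalizer (H : Set L)) bot_le hCN
    simpa using this
  have hfib : ∀ ψ ∈ Finset.univ.image f,
      (Finset.univ.filter (fun n => f n = ψ)).card ≤
        Nat.card (Subgroup.centralizer (H : Set L)) := by
    intro ψ hψ
    obtain ⟨n₀, -, hn₀⟩ := Finset.mem_image.1 hψ
    have key : ∀ n : Subgroup.normalizer (H : Set L), f n = ψ →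
        (n₀ : L)⁻¹ * (n : L) ∈ Subgroup.centralizer (H : Set L) := by
      intro n hn
      rw [Subgroup.mem_centralizer_iff]
      intro u hu
      have h1 : f n ⟨u, hu⟩ = f n₀ ⟨u, hu⟩ := by rw [hn, hn₀]
      have h2 : cjE H n ⟨u, hu⟩ = cjE H n₀ ⟨u, hu⟩ := hinj h1
      have h3 : (n : L) * u * (n : L)⁻¹ = (n₀ : L) * u * (n₀ : L)⁻¹ := congrArg Subtype.val h2
      have h4 : (n : L) * u = (n₀ : L) * u * (n₀ : L)⁻¹ * (n : L) := by
        rw [← h3]; group
      calc u * ((n₀ : L)⁻¹ * (n : L))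
          = (n₀ : L)⁻¹ * ((n₀ : L) * u * (n₀ : L)⁻¹ * (n : L)) := by group
        _ = (n₀ : L)⁻¹ * (n : L) * u := by rw [← h4, mul_assoc]
    have hle : (Finset.univ.filter (fun n => f n = ψ)).card ≤
        (Finset.univ : Finset (Subgroup.centralizer (H : Set L))).card := by
      apply Finset.card_le_card_of_injOn
        (fun n => if h : f n = ψ then (⟨(n₀ : L)⁻¹ * (n : L), key n h⟩ :
          Subgroup.centralizer (H : Set L)) else 1)
      · intro n _; exact Finset.mem_univ _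
      · intro a ha b hb hab
        have ha' : f a = ψ := (Finset.mem_filter.1 ha).2
        have hb' : f b = ψ := (Finset.mem_filter.1 hb).2
        simp only [dif_pos ha', dif_pos hb'] at hab
        have := congrArg Subtype.val hab
        simp only [mul_right_inj] at this
        exact Subtype.ext this
    rwa [Finset.card_univ, ← Nat.card_eq_fintype_card] at hle
  have hsum : Nat.card (Subgroup.normalizer (H : Set L)) ≤
      (Finset.univ.image f).card * Nat.card (Subgroup.centralizer (H : Set L)) := by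
    rw [Nat.card_eq_fintype_card, ← Finset.card_univ, Finset.card_eq_sum_card_image f Finset.univ]
    calc ∑ b ∈ Finset.univ.image f, (Finset.univ.filter (fun a => f a = b)).card
        ≤ ∑ _b ∈ Finset.univ.image f, Nat.card (Subgroup.centralizer (H : Set L)) :=
          Finset.sum_le_sum hfib
      _ = _ := by rw [Finset.sum_const, smul_eq_mul]
  have hCpos : 0 < Nat.card (Subgroup.centralizer (H : Set L)) := Nat.card_pos
  rw [← hmul, mul_comm] at hsum
  exact Nat.le_of_mul_le_mul_right hsum hCpos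

/-- The counting core. -/
theorem count_core {Φ Ψ : Type*} [Fintype Φ] [DecidableEq Ψ] (w : Φ → ℕ) (lam : Φ → Ψ)
    (O : Finset Ψ) (e : ℕ) (h1 : ∑ φ, w φ = e) (h2 : ∀ φ, w φ ≠ 0 → lam φ ∈ O)
    (h3 : ∀ ψ ∈ O, ∀ ψ' ∈ O, ∑ φ ∈ Finset.univ.filter (fun φ => lam φ = ψ), w φ =
      ∑ φ ∈ Finset.univ.filter (fun φ => lam φ = ψ'), w φ)
    (h4 : e ≤ O.card) (he : 0 < e) : ∀ φ, w φ ≤ 1 := by
  intro φ
  by_cases hw : w φ = 0
  · omega
  have hmem := h2 φ hw
  have hsum : ∑ ψ ∈ O, ∑ φ ∈ Finset.univ.filter (fun φ => lam φ = ψ), w φ = ∑ φ, w φ := by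
    simp_rw [Finset.sum_filter]
    rw [Finset.sum_comm]
    refine Finset.sum_congr rfl fun φ' _ => ?_
    rw [Finset.sum_ite_eq]
    split_ifs with h
    · rfl
    · by_contra hne
      exact h (h2 φ' (fun h0 => hne h0.symm))
  have hconst : ∑ ψ ∈ O, ∑ φ ∈ Finset.univ.filter (fun φ => lam φ = ψ), w φ =
      O.card * ∑ φ' ∈ Finset.univ.filter (fun φ' => lam φ' = lam φ), w φ' := by
    rw [Finset.sum_congr rfl (fun ψ hψ => h3 ψ hψ (lam φ) hmem), Finset.sum_const, smul_eq_mul]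
  have hle : w φ ≤ ∑ φ' ∈ Finset.univ.filter (fun φ' => lam φ' = lam φ), w φ' :=
    Finset.single_le_sum (f := w) (fun _ _ => Nat.zero_le _)
      (Finset.mem_filter.2 ⟨Finset.mem_univ φ, rfl⟩)
  have hb : O.card * ∑ φ' ∈ Finset.univ.filter (fun φ' => lam φ' = lam φ), w φ' = e := by
    rw [← hconst, hsum, h1]
  have hOpos : 0 < O.card := lt_of_lt_of_le he h4
  have hb1 : ∑ φ' ∈ Finset.univ.filter (fun φ' => lam φ' = lam φ), w φ' ≤ 1 := by
    by_contra hcon
    rw [not_le] at hcon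
    have : O.card * 2 ≤ O.card * ∑ φ' ∈ Finset.univ.filter (fun φ' => lam φ' = lam φ), w φ' :=
      Nat.mul_le_mul_left _ hcon
    omega
  exact hle.trans hb1

/-- The shape of `ξ` on `C_L(P)` from `|N : C| = e` and the support condition of `T1T`. -/
theorem core {L : Type u} [Group L] [Fintype L] (p : ℕ) [Fact p.Prime] (c : RCtx L p)
    (hrel : (Subgroup.centralizer ((c.P : Subgroup L) : Set L)).relIndex
        (Subgroup.normalizer ((c.P : Subgroup L) : Set L)) = charDegree c.ξ)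
    (ψ₀ : ↥(c.P : Subgroup L) →* ℂˣ) (hψ₀ : ψ₀ ≠ 1)
    (hsupp : ∀ ψ : ↥(c.P : Subgroup L) →* ℂˣ,
      ∑ᶠ u : ↥(c.P : Subgroup L), c.ξ (u : L) * conj ((ψ u : ℂˣ) : ℂ) ≠ 0 →
      ∃ n : L, n ∈ Subgroup.normalizer ((c.P : Subgroup L) : Set L) ∧
        ∀ (u u' : ↥(c.P : Subgroup L)), (u' : L) = n * (u : L) * n⁻¹ → ψ u = ψ₀ u') :
    ∃ S : Finset (↥(Subgroup.centralizer ((c.P : Subgroup L) : Set L)) →* ℂˣ),
      OrbData c S ψ₀ := by
  have hp : p.Prime := Fact.out
  have hPC : (c.P : Subgroup L) ≤ Subgroup.centralizer ((c.P : Subgroup L) : Set L) :=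
    le_centralizer c.P c.hP
  have hξchar : IsCharacter L c.ξ := Cfsg.Agent.Lib.CT.Wedderburn.isCharacter_of_irr c.hξ
  have hξC : IsCharacter ↥(Subgroup.centralizer ((c.P : Subgroup L) : Set L))
      (fun k : ↥(Subgroup.centralizer ((c.P : Subgroup L) : Set L)) => c.ξ k) :=
    Cfsg.Agent.Lib.CT.Ops.isCharacter_restrict _ hξchar
  have hfinIrr : Finite (IrrCharacter ↥(Subgroup.centralizer ((c.P : Subgroup L) : Set L))) :=
    Cfsg.Agent.Lib.CT.Wedderburn.finite_irrCharacter _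
  let _ : Fintype (IrrCharacter ↥(Subgroup.centralizer ((c.P : Subgroup L) : Set L))) :=
    Fintype.ofFinite _
  set m : IrrCharacter ↥(Subgroup.centralizer ((c.P : Subgroup L) : Set L)) → ℕ :=
    fun φ => Cfsg.Agent.Lib.Helper81.Mult.mult
      (fun k : ↥(Subgroup.centralizer ((c.P : Subgroup L) : Set L)) => c.ξ k) φ with hm
  have hexp : ∀ k : ↥(Subgroup.centralizer ((c.P : Subgroup L) : Set L)),
      c.ξ (k : L) = ∑ φ : IrrCharacter ↥(Subgroup.centralizer ((c.P : Subgroup L) : Set L)),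
        (m φ : ℂ) * φ.1 k :=
    fun k => Cfsg.Agent.Lib.Helper81.Mult.char_expand hξC k
  set d : IrrCharacter ↥(Subgroup.centralizer ((c.P : Subgroup L) : Set L)) → ℕ :=
    fun φ => charDegree φ.1 with hd
  have hdeg : ∀ φ : IrrCharacter ↥(Subgroup.centralizer ((c.P : Subgroup L) : Set L)),
      (d φ : ℂ) = φ.1 1 := fun φ =>
    Cfsg.Agent.Lib.CT.Wedderburn.char_natCast_charDegree
      (Cfsg.Agent.Lib.CT.Wedderburn.isCharacter_of_irr φ.2)
  have hdpos : ∀ φ : IrrCharacter ↥(Subgroup.centralizer ((c.P : Subgroup L) : Set L)),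
      0 < d φ := fun φ => Cfsg.Agent.Lib.CT.Wedderburn.irr_charDegree_pos φ.2
  have hφ1 : ∀ φ : IrrCharacter ↥(Subgroup.centralizer ((c.P : Subgroup L) : Set L)),
      φ.1 1 ≠ 0 := fun φ => Cfsg.Agent.Lib.CT.Wedderburn.irr_apply_one_ne_zero φ.2
  have hcent : ∀ (u : ↥(c.P : Subgroup L))
      (g : ↥(Subgroup.centralizer ((c.P : Subgroup L) : Set L))),
      (⟨(u : L), hPC u.2⟩ : ↥(Subgroup.centralizer ((c.P : Subgroup L) : Set L))) * g =
        g * ⟨(u : L), hPC u.2⟩ := by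
    intro u g
    apply Subtype.ext
    exact (Subgroup.mem_centralizer_iff.1 g.2) u u.2
  have hlamex : ∀ φ : IrrCharacter ↥(Subgroup.centralizer ((c.P : Subgroup L) : Set L)),
      ∃ lam : ↥(c.P : Subgroup L) →* ℂˣ, ∀ u : ↥(c.P : Subgroup L),
        ((lam u : ℂˣ) : ℂ) = φ.1 ⟨(u : L), hPC u.2⟩ / φ.1 1 := by
    intro φ
    let f : ↥(c.P : Subgroup L) →* ℂ :=
      { toFun := fun u => φ.1 ⟨(u : L), hPC u.2⟩ / φ.1 1
        map_one' := div_self (hφ1 φ)
        map_mul' := fun a b => by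
          have h1 : (⟨((a * b : ↥(c.P : Subgroup L)) : L), hPC (a * b).2⟩ :
              ↥(Subgroup.centralizer ((c.P : Subgroup L) : Set L))) =
              ⟨(a : L), hPC a.2⟩ * ⟨(b : L), hPC b.2⟩ := rfl
          show φ.1 ⟨((a * b : ↥(c.P : Subgroup L)) : L), hPC (a * b).2⟩ / φ.1 1 =
            φ.1 ⟨(a : L), hPC a.2⟩ / φ.1 1 * (φ.1 ⟨(b : L), hPC b.2⟩ / φ.1 1)
          rw [h1, irr_central_mul φ _ (hcent a)]
          ring }
    exact ⟨f.toHomUnits, fun u => rfl⟩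
  choose lam hlam using hlamex
  have hφu : ∀ (φ : IrrCharacter ↥(Subgroup.centralizer ((c.P : Subgroup L) : Set L)))
      (u : ↥(c.P : Subgroup L)),
      φ.1 ⟨(u : L), hPC u.2⟩ = ((lam φ u : ℂˣ) : ℂ) * (d φ : ℂ) := by
    intro φ u
    rw [hlam, hdeg, div_mul_cancel₀ _ (hφ1 φ)]
  -- the multiplicity of `ψ` in `ξ|_P`
  have hA : ∀ ψ : ↥(c.P : Subgroup L) →* ℂˣ,
      ∑ u : ↥(c.P : Subgroup L), c.ξ (u : L) * conj ((ψ u : ℂˣ) : ℂ) =
        (p : ℂ) * ((∑ φ ∈ Finset.univ.filter (fun φ => lam φ = ψ), m φ * d φ : ℕ) : ℂ) := by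
    intro ψ
    have h1 : ∀ u : ↥(c.P : Subgroup L), c.ξ (u : L) =
        ∑ φ : IrrCharacter ↥(Subgroup.centralizer ((c.P : Subgroup L) : Set L)),
          (m φ : ℂ) * (d φ : ℂ) * ((lam φ u : ℂˣ) : ℂ) := by
      intro u
      have h := hexp ⟨(u : L), hPC u.2⟩
      rw [show c.ξ (u : L) = c.ξ ((⟨(u : L), hPC u.2⟩ :
        ↥(Subgroup.centralizer ((c.P : Subgroup L) : Set L))) : L) from rfl, h]
      refine Finset.sum_congr rfl fun φ _ => ?_
      rw [hφu]
      ring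
    simp_rw [h1, Finset.sum_mul]
    rw [Finset.sum_comm]
    have h2 : ∀ φ : IrrCharacter ↥(Subgroup.centralizer ((c.P : Subgroup L) : Set L)),
        ∑ u : ↥(c.P : Subgroup L), (m φ : ℂ) * (d φ : ℂ) * ((lam φ u : ℂˣ) : ℂ) *
          conj ((ψ u : ℂˣ) : ℂ) =
        if lam φ = ψ then (p : ℂ) * ((m φ * d φ : ℕ) : ℂ) else 0 := by
      intro φ
      simp_rw [mul_assoc]
      rw [← Finset.mul_sum, ← Finset.mul_sum, hom_orth]
      split_ifs
      · rw [← Nat.card_eq_fintype_card, c.hP]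
        push_cast
        ring
      · simp
    rw [Finset.sum_congr rfl (fun φ _ => h2 φ), Finset.sum_ite, Finset.sum_const_zero, add_zero,
      ← Finset.mul_sum]
    push_cast
    rfl
  obtain ⟨B, hB⟩ : ∃ B : (↥(c.P : Subgroup L) →* ℂˣ) → ℕ, ∀ ψ, B ψ =
      ∑ φ ∈ Finset.univ.filter (fun φ => lam φ = ψ), m φ * d φ := ⟨_, fun _ => rfl⟩
  have hA' : ∀ ψ : ↥(c.P : Subgroup L) →* ℂˣ,
      ∑ u : ↥(c.P : Subgroup L), c.ξ (u : L) * conj ((ψ u : ℂˣ) : ℂ) = (p : ℂ) * (B ψ : ℂ) := by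
    intro ψ
    rw [hB]
    exact hA ψ
  have hpne : (p : ℂ) ≠ 0 := Nat.cast_ne_zero.mpr hp.ne_zero
  -- invariance under the normalizer
  have hinv : ∀ (n : ↥(Subgroup.normalizer ((c.P : Subgroup L) : Set L)))
      (ψ : ↥(c.P : Subgroup L) →* ℂˣ),
      B (ψ.comp (cjE (c.P : Subgroup L) n).toMonoidHom) = B ψ := by
    intro n ψ
    have h1 := hA' (ψ.comp (cjE (c.P : Subgroup L) n).toMonoidHom)
    have h2 := hA' ψ
    have h3 : ∑ u : ↥(c.P : Subgroup L), c.ξ (u : L) *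
          conj (((ψ.comp (cjE (c.P : Subgroup L) n).toMonoidHom) u : ℂˣ) : ℂ)
        = ∑ u : ↥(c.P : Subgroup L), c.ξ (u : L) * conj ((ψ u : ℂˣ) : ℂ) := by
      rw [← Equiv.sum_comp (cjE (c.P : Subgroup L) n).toEquiv
        (fun u => c.ξ (u : L) * conj ((ψ u : ℂˣ) : ℂ))]
      refine Finset.sum_congr rfl fun u _ => ?_
      have h4 : c.ξ (((cjE (c.P : Subgroup L) n) u : ↥(c.P : Subgroup L)) : L) = c.ξ (u : L) := by
        rw [cjE_apply]
        exact Cfsg.Agent.Lib.Helper81.Mult.char_conj hξchar _ _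
      show c.ξ (u : L) * conj ((ψ ((cjE (c.P : Subgroup L) n) u) : ℂˣ) : ℂ) =
        c.ξ (((cjE (c.P : Subgroup L) n) u : ↥(c.P : Subgroup L)) : L) *
          conj ((ψ ((cjE (c.P : Subgroup L) n) u) : ℂˣ) : ℂ)
      rw [h4]
    rw [h3, h2] at h1
    have h4 := mul_left_cancel₀ hpne h1
    exact (Nat.cast_injective h4).symm
  -- the orbit
  obtain ⟨O, hO⟩ : ∃ O : Finset (↥(c.P : Subgroup L) →* ℂˣ), O =
      Finset.univ.image (fun n : ↥(Subgroup.normalizer ((c.P : Subgroup L) : Set L)) =>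
        ψ₀.comp (cjE (c.P : Subgroup L) n).toMonoidHom) := ⟨_, rfl⟩
  have hOcard : charDegree c.ξ ≤ O.card := by
    rw [← hrel, hO]
    exact orbit_card_ge (c.P : Subgroup L) hp c.hP ψ₀ hψ₀
  have hmemO : ∀ φ, m φ * d φ ≠ 0 → lam φ ∈ O := by
    intro φ hne
    have hBpos : B (lam φ) ≠ 0 := by
      rw [hB]
      have hle : m φ * d φ ≤ ∑ φ' ∈ Finset.univ.filter (fun φ' => lam φ' = lam φ), m φ' * d φ' :=
        Finset.single_le_sum (f := fun φ' => m φ' * d φ') (fun _ _ => Nat.zero_le _)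
          (Finset.mem_filter.2 ⟨Finset.mem_univ φ, rfl⟩)
      omega
    have hAne : ∑ᶠ u : ↥(c.P : Subgroup L), c.ξ (u : L) * conj ((lam φ u : ℂˣ) : ℂ) ≠ 0 := by
      rw [finsum_eq_sum_of_fintype, hA']
      exact mul_ne_zero hpne (Nat.cast_ne_zero.mpr hBpos)
    obtain ⟨n, hn, hnψ⟩ := hsupp (lam φ) hAne
    rw [hO, Finset.mem_image]
    refine ⟨⟨n, hn⟩, Finset.mem_univ _, ?_⟩
    refine MonoidHom.ext fun u => ?_
    exact (hnψ u (cjE (c.P : Subgroup L) ⟨n, hn⟩ u) rfl).symm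
  have hBconst : ∀ ψ ∈ O, ∀ ψ' ∈ O, B ψ = B ψ' := by
    intro ψ hψ ψ' hψ'
    rw [hO] at hψ hψ'
    obtain ⟨n, -, rfl⟩ := Finset.mem_image.1 hψ
    obtain ⟨n', -, rfl⟩ := Finset.mem_image.1 hψ'
    rw [hinv, hinv]
  have hsumw : ∑ φ, m φ * d φ = charDegree c.ξ := by
    have h1 := hexp 1
    have h2 : (charDegree c.ξ : ℂ) = c.ξ 1 :=
      Cfsg.Agent.Lib.CT.Wedderburn.char_natCast_charDegree hξchar
    have h3 : ((∑ φ, m φ * d φ : ℕ) : ℂ) = (charDegree c.ξ : ℂ) := by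
      rw [h2]
      have h4 : c.ξ ((1 : ↥(Subgroup.centralizer ((c.P : Subgroup L) : Set L))) : L) = c.ξ 1 :=
        rfl
      rw [← h4, h1]
      push_cast
      refine Finset.sum_congr rfl fun φ _ => ?_
      rw [hdeg]
    exact Nat.cast_injective h3
  have hepos : 0 < charDegree c.ξ := Cfsg.Agent.Lib.CT.Wedderburn.irr_charDegree_pos c.hξ
  have hw1 : ∀ φ, m φ * d φ ≤ 1 :=
    count_core (fun φ => m φ * d φ) lam O (charDegree c.ξ) hsumw hmemO
      (fun ψ hψ ψ' hψ' => by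
        have := hBconst ψ hψ ψ' hψ'
        rw [hB, hB] at this
        exact this) hOcard hepos
  have hm1 : ∀ φ, m φ ≠ 0 → m φ = 1 ∧ d φ = 1 := by
    intro φ hne
    have h1 := hw1 φ
    have h2 := hdpos φ
    have h3 : 0 < m φ := Nat.pos_of_ne_zero hne
    have h4 : m φ ≤ m φ * d φ := Nat.le_mul_of_pos_right _ h2
    have h5 : d φ ≤ m φ * d φ := Nat.le_mul_of_pos_left _ h3
    omega
  -- the linear characters
  have hlinex : ∀ φ, m φ ≠ 0 →
      ∃ μ : ↥(Subgroup.centralizer ((c.P : Subgroup L) : Set L)) →* ℂˣ,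
        ∀ k, ((μ k : ℂˣ) : ℂ) = φ.1 k := by
    intro φ hne
    apply exists_hom_of_degree_one φ.1 (Cfsg.Agent.Lib.CT.Wedderburn.isCharacter_of_irr φ.2)
    rw [← hdeg, (hm1 φ hne).2, Nat.cast_one]
  obtain ⟨lin, hlinspec⟩ : ∃ lin : IrrCharacter ↥(Subgroup.centralizer ((c.P : Subgroup L) : Set L)) →
      (↥(Subgroup.centralizer ((c.P : Subgroup L) : Set L)) →* ℂˣ),
      ∀ φ, m φ ≠ 0 → ∀ k, ((lin φ k : ℂˣ) : ℂ) = φ.1 k := by
    refine ⟨fun φ => if h : m φ ≠ 0 then (hlinex φ h).choose else 1, ?_⟩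
    intro φ hne k
    simp only [dif_pos hne]
    exact (hlinex φ hne).choose_spec k
  obtain ⟨Supp, hSupp⟩ : ∃ Supp : Finset (IrrCharacter
      ↥(Subgroup.centralizer ((c.P : Subgroup L) : Set L))), Supp =
      Finset.univ.filter (fun φ => m φ ≠ 0) := ⟨_, rfl⟩
  have hinjOn : Set.InjOn lin (Supp : Set (IrrCharacter
      ↥(Subgroup.centralizer ((c.P : Subgroup L) : Set L)))) := by
    intro φ hφ φ' hφ' h
    rw [hSupp] at hφ hφ'
    have hφm : m φ ≠ 0 := (Finset.mem_filter.1 hφ).2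
    have hφ'm : m φ' ≠ 0 := (Finset.mem_filter.1 hφ').2
    apply Subtype.ext
    funext k
    rw [← hlinspec φ hφm k, ← hlinspec φ' hφ'm k, h]
  refine ⟨Supp.image lin, hψ₀, ?_, ?_, ?_⟩
  · rw [Finset.card_image_of_injOn hinjOn, ← hsumw, Finset.card_eq_sum_ones, hSupp,
      Finset.sum_filter]
    refine Finset.sum_congr rfl fun φ _ => ?_
    split_ifs with h
    · rw [(hm1 φ h).1, (hm1 φ h).2]
    · rw [not_not] at h
      rw [h, zero_mul]
  · intro k
    rw [Finset.sum_image hinjOn, hexp k, hSupp, Finset.sum_filter]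
    refine Finset.sum_congr rfl fun φ _ => ?_
    split_ifs with h
    · rw [hlinspec φ h k, (hm1 φ h).1, Nat.cast_one, one_mul]
    · rw [not_not] at h
      rw [h, Nat.cast_zero, zero_mul]
  · intro μ hμ
    obtain ⟨φ, hφ, rfl⟩ := Finset.mem_image.1 hμ
    rw [hSupp] at hφ
    have hφm : m φ ≠ 0 := (Finset.mem_filter.1 hφ).2
    have hw : m φ * d φ ≠ 0 := by
      rw [(hm1 φ hφm).1, (hm1 φ hφm).2]
      norm_num
    have hO' := hmemO φ hw
    rw [hO] at hO'
    obtain ⟨n, -, hn⟩ := Finset.mem_image.1 hO'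
    refine ⟨n, n.2, ?_⟩
    intro u u' k hk hu'
    apply Units.ext
    rw [hlinspec φ hφm k]
    have hk' : k = ⟨(u : L), hPC u.2⟩ := Subtype.ext hk
    rw [hk', hφu, (hm1 φ hφm).2, Nat.cast_one, mul_one, ← hn]
    have h5 : cjE (c.P : Subgroup L) n u = u' := Subtype.ext (by rw [cjE_apply, hu'])
    rw [← h5]
    rfl

theorem main (hT1T : Cfsg.Agent.Lib.Helper76.BrRB.T1T.{u})
    (hNCE : Cfsg.Agent.Lib.Helper76.BrRB.NCE.{u}) : Cfsg.Agent.Lib.Helper76.BrRB.ORB.{u} := by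
  intro L _ _ p _ c
  have hp : p.Prime := Fact.out
  have hdeg' : 2 * charDegree ((⟨c.ξ, c.hξ⟩ : IrrCharacter L) : L → ℂ) + 1 ≤ p :=
    le_of_eq c.hdeg
  rcases hT1T p c.P c.hP ⟨c.ξ, c.hξ⟩ hdeg' with h1 | h2
  · exfalso
    have hbot : ∀ x : L, x ∈ (c.P : Subgroup L) → x = 1 := fun x hx => c.hfaith x (h1 x hx)
    have hb : (c.P : Subgroup L) = ⊥ := (Subgroup.eq_bot_iff_forall _).2 hbot
    have h3 := c.hP
    rw [hb, Subgroup.card_bot] at h3
    exact hp.one_lt.ne h3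
  · have hrel := hNCE p c h2
    obtain ⟨hfle, hnorm, ψ₀, hψ₀, hsupp⟩ := h2
    obtain ⟨S, hS⟩ := core p c hrel ψ₀ hψ₀ hsupp
    exact ⟨hrel, S, ψ₀, hS⟩

end Cfsg.Agent.Lib.Helper60.BrRBORB
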