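import Mathlib
import Cfsg.Agent.Lib.Helper59.C2Stmt
import Cfsg.Agent.Lib.Helper44.NegPairs
import Cfsg.Agent.Lib.Helper90.EPNEGSQFIXB1

set_option autoImplicit false

/-!
S5974C piece BLOCK4 (helper60).  Generic statement `block_gen`: characteristic 2, `Q` a quadratic
form on `V`, `g` linear with `Q (g v) = Q v`, `g (g v) = v`, `A` a `g`-invariant nondegenerate
subspace with `β(a, g a) = 0` on `A`, `u ∈ A` with `g u ≠ u`: then `A` contains a `g`-invariant
nondegenerate 4-space `B = ⟨N u, N v, u, v⟩` (`N = g - 1`) with the totally singular plane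
`⟨N u, N v⟩`.
-/

namespace Cfsg.Agent.Lib.Helper60.C2BLOCK4

open Module QuadraticMap
open Cfsg.Agent.Lib.Helper90.EPNEGSQFIXB1 (finrank_sup_span)

universe u

section gen

variable {F : Type u} [Field F] {V : Type*} [AddCommGroup V] [Module F V]

theorem block_gen [FiniteDimensional F V] (Q : QuadraticForm F V) (g : V →ₗ[F] V)
    (h2 : (2 : F) = 0) (hgQ : ∀ v, Q (g v) = Q v) (hgg : ∀ v, g (g v) = v)
    (A : Submodule F V) (hinv : ∀ a ∈ A, g a ∈ A)
    (hnd : ∀ w ∈ A, w ≠ 0 → ∃ y ∈ A, polar Q y w ≠ 0)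
    (hA0 : ∀ a ∈ A, polar Q a (g a) = 0) (u : V) (hu : u ∈ A) (hgu : g u ≠ u) :
    ∃ B U : Submodule F V, B ≤ A ∧ U ≤ B ∧ (∀ b ∈ B, g b ∈ B) ∧
      (∀ w ∈ B, w ≠ 0 → ∃ y ∈ B, polar Q y w ≠ 0) ∧ (∀ s ∈ U, Q s = 0) ∧
      finrank F ↥U = 2 ∧ finrank F ↥B = 4 := by
  have hpaa : ∀ a, polar Q a a = 0 := fun a => by
    rw [QuadraticMap.polar_self, two_smul, ← two_mul, h2, zero_mul]
  have hpg : ∀ a b, polar Q (g a) (g b) = polar Q a b := fun a b => by
    simp only [QuadraticMap.polar, ← map_add, hgQ]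
  have hP2 : ∀ a b, polar Q a (g b) = polar Q (g a) b := fun a b => by
    rw [← hpg a (g b), hgg]
  obtain ⟨N, hN⟩ : ∃ N : V →ₗ[F] V, ∀ a, N a = g a - a := ⟨g - LinearMap.id, fun a => rfl⟩
  have hNN : ∀ a, N (N a) = 0 := fun a => by
    rw [hN, hN, map_sub, hgg]
    have : a - g a - (g a - a) = (2 : F) • (a - g a) := by rw [two_smul]; abel
    rw [this, h2, zero_smul]
  have hP3 : ∀ a b, polar Q a (N b) = polar Q (N a) b := fun a b => by
    rw [hN, hN, QuadraticMap.polar_sub_right, QuadraticMap.polar_sub_left, hP2]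
  have hP4 : ∀ a ∈ A, polar Q a (N a) = 0 := fun a ha => by
    rw [hN, QuadraticMap.polar_sub_right, hA0 a ha, hpaa, sub_zero]
  have hP4' : ∀ a ∈ A, polar Q (N a) a = 0 := fun a ha => by
    rw [QuadraticMap.polar_comm]; exact hP4 a ha
  have hP5 : ∀ a b, polar Q (N a) (N b) = 0 := fun a b => by
    rw [← hP3 a (N b), hNN, QuadraticMap.polar_zero_right]
  have hQ1 : ∀ a ∈ A, Q (N a) = 0 := fun a ha => by
    have h := QuadraticMap.map_add (⇑Q) (g a - a) a
    rw [sub_add_cancel, hgQ] at h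
    have h' : polar Q (g a - a) a = 0 := by
      rw [QuadraticMap.polar_sub_left, QuadraticMap.polar_comm Q (g a) a, hA0 a ha, hpaa,
        sub_zero]
    rw [h'] at h
    rw [hN]
    linear_combination -h
  have hNA : ∀ a ∈ A, N a ∈ A := fun a ha => by
    rw [hN]; exact A.sub_mem (hinv a ha) ha
  have hgN : ∀ a, g (N a) = N a := fun a => by
    have := hNN a
    rw [hN (N a)] at this
    exact sub_eq_zero.mp this
  have hga : ∀ a, g a = a + N a := fun a => by rw [hN]; abel
  have hNu0 : N u ≠ 0 := by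
    rw [hN]; exact sub_ne_zero.mpr hgu
  obtain ⟨v, hv, hvc⟩ := hnd (N u) (hNA u hu) hNu0
  obtain ⟨c, hc⟩ : ∃ c, c = polar Q v (N u) := ⟨_, rfl⟩
  rw [← hc] at hvc
  have e1 : polar Q v (N u) = c := hc.symm
  have e2 : polar Q (N u) v = c := by rw [QuadraticMap.polar_comm]; exact e1
  have e3 : polar Q (N v) u = c := by rw [← hP3 v u]; exact e1
  have e4 : polar Q u (N v) = c := by rw [QuadraticMap.polar_comm]; exact e3
  have hNv_notin : N v ∉ Submodule.span F {N u} := by
    intro h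
    obtain ⟨t, ht⟩ := Submodule.mem_span_singleton.mp h
    apply hvc
    rw [← e3, ← ht, QuadraticMap.polar_smul_left, hP4' u hu, smul_zero]
  have hu_notin : u ∉ Submodule.span F {N u} ⊔ Submodule.span F {N v} := by
    intro h
    obtain ⟨s, hs, t, ht, hst⟩ := Submodule.mem_sup.mp h
    obtain ⟨γ, rfl⟩ := Submodule.mem_span_singleton.mp hs
    obtain ⟨δ, rfl⟩ := Submodule.mem_span_singleton.mp ht
    apply hvc
    have h0 : polar Q (N v) (γ • N u + δ • N v) = 0 := by
      rw [QuadraticMap.polar_add_right, QuadraticMap.polar_smul_right,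
        QuadraticMap.polar_smul_right, hP5, hP5]
      simp
    rw [hst, e3] at h0
    exact h0
  have hv_notin : v ∉ (Submodule.span F {N u} ⊔ Submodule.span F {N v})
      ⊔ Submodule.span F {u} := by
    intro h
    obtain ⟨s, hs, t, ht, hst⟩ := Submodule.mem_sup.mp h
    obtain ⟨s1, hs1, s2, hs2, rfl⟩ := Submodule.mem_sup.mp hs
    obtain ⟨γ, rfl⟩ := Submodule.mem_span_singleton.mp hs1
    obtain ⟨δ, rfl⟩ := Submodule.mem_span_singleton.mp hs2
    obtain ⟨α, rfl⟩ := Submodule.mem_span_singleton.mp ht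
    apply hvc
    have h0 : polar Q (N u) (γ • N u + δ • N v + α • u) = 0 := by
      rw [QuadraticMap.polar_add_right, QuadraticMap.polar_add_right,
        QuadraticMap.polar_smul_right, QuadraticMap.polar_smul_right,
        QuadraticMap.polar_smul_right, hP5, hP5, hP4' u hu]
      simp
    rw [hst, e2] at h0
    exact h0
  set B : Submodule F V := ((Submodule.span F {N u} ⊔ Submodule.span F {N v})
      ⊔ Submodule.span F {u}) ⊔ Submodule.span F {v} with hBdef
  have mNu : N u ∈ B := Submodule.mem_sup_left (Submodule.mem_sup_left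
    (Submodule.mem_sup_left (Submodule.mem_span_singleton_self _)))
  have mNv : N v ∈ B := Submodule.mem_sup_left (Submodule.mem_sup_left
    (Submodule.mem_sup_right (Submodule.mem_span_singleton_self _)))
  have mu : u ∈ B := Submodule.mem_sup_left (Submodule.mem_sup_right
    (Submodule.mem_span_singleton_self _))
  have mv : v ∈ B := Submodule.mem_sup_right (Submodule.mem_span_singleton_self _)
  have hdec : ∀ w ∈ B, ∃ γ δ α β : F, w = γ • N u + δ • N v + α • u + β • v := by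
    intro w hw
    obtain ⟨s, hs, t, ht, rfl⟩ := Submodule.mem_sup.mp hw
    obtain ⟨s', hs', t', ht', rfl⟩ := Submodule.mem_sup.mp hs
    obtain ⟨s1, hs1, s2, hs2, rfl⟩ := Submodule.mem_sup.mp hs'
    obtain ⟨γ, rfl⟩ := Submodule.mem_span_singleton.mp hs1
    obtain ⟨δ, rfl⟩ := Submodule.mem_span_singleton.mp hs2
    obtain ⟨α, rfl⟩ := Submodule.mem_span_singleton.mp ht'
    obtain ⟨β, rfl⟩ := Submodule.mem_span_singleton.mp ht
    exact ⟨γ, δ, α, β, rfl⟩
  refine ⟨B, Submodule.span F {N u} ⊔ Submodule.span F {N v}, ?_, ?_, ?_, ?_, ?_, ?_, ?_⟩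
  · refine sup_le (sup_le (sup_le ?_ ?_) ?_) ?_
    · exact (Submodule.span_singleton_le_iff_mem _ _).mpr (hNA u hu)
    · exact (Submodule.span_singleton_le_iff_mem _ _).mpr (hNA v hv)
    · exact (Submodule.span_singleton_le_iff_mem _ _).mpr hu
    · exact (Submodule.span_singleton_le_iff_mem _ _).mpr hv
  · exact le_sup_left.trans le_sup_left
  · intro b hb
    obtain ⟨γ, δ, α, β, rfl⟩ := hdec b hb
    simp only [map_add, map_smul, hgN]
    rw [hga u, hga v]
    exact B.add_mem (B.add_mem (B.add_mem (B.smul_mem _ mNu) (B.smul_mem _ mNv))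
      (B.smul_mem _ (B.add_mem mu mNu))) (B.smul_mem _ (B.add_mem mv mNv))
  · intro w hw hw0
    obtain ⟨γ, δ, α, β, rfl⟩ := hdec w hw
    by_cases hα : α = 0
    · by_cases hβ : β = 0
      · by_cases hδ : δ = 0
        · have hγ : γ ≠ 0 := by
            rintro rfl
            exact hw0 (by simp [hα, hβ, hδ])
          refine ⟨v, mv, ?_⟩
          simp only [hα, hβ, hδ, zero_smul, add_zero, QuadraticMap.polar_smul_right, e1,
            smul_eq_mul]
          exact mul_ne_zero hγ hvc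
        · refine ⟨u, mu, ?_⟩
          simp only [hα, hβ, zero_smul, add_zero, QuadraticMap.polar_add_right,
            QuadraticMap.polar_smul_right, e4, hP4 u hu, smul_eq_mul, mul_zero, zero_add]
          exact mul_ne_zero hδ hvc
      · refine ⟨N u, mNu, ?_⟩
        simp only [QuadraticMap.polar_add_right, QuadraticMap.polar_smul_right, hP5,
          hP4' u hu, e2, smul_eq_mul, mul_zero, zero_add, add_zero]
        exact mul_ne_zero hβ hvc
    · refine ⟨N v, mNv, ?_⟩
      simp only [QuadraticMap.polar_add_right, QuadraticMap.polar_smul_right, hP5,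
        hP4' v hv, e3, smul_eq_mul, mul_zero, zero_add, add_zero]
      exact mul_ne_zero hα hvc
  · intro s hs
    obtain ⟨s1, hs1, s2, hs2, rfl⟩ := Submodule.mem_sup.mp hs
    obtain ⟨γ, rfl⟩ := Submodule.mem_span_singleton.mp hs1
    obtain ⟨δ, rfl⟩ := Submodule.mem_span_singleton.mp hs2
    rw [QuadraticMap.map_add (⇑Q), QuadraticMap.map_smul, QuadraticMap.map_smul, hQ1 u hu,
      hQ1 v hv, QuadraticMap.polar_smul_left, QuadraticMap.polar_smul_right, hP5]
    simp
  · rw [finrank_sup_span _ hNv_notin, finrank_span_singleton hNu0]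
  · rw [hBdef, finrank_sup_span _ hv_notin, finrank_sup_span _ hu_notin,
      finrank_sup_span _ hNv_notin, finrank_span_singleton hNu0]

end gen

theorem main : Cfsg.Agent.Lib.Helper59.C2Stmt.Block4.{u} := by
  intro F _ _ _ d x hx hxx A hstab hnd hA0 u hu hxu
  classical
  have h2 : (2 : F) = 0 := CharTwo.two_eq_zero
  obtain ⟨Q, hQ⟩ : ∃ Q : QuadraticForm F (Cfsg.Agent.Lib.Helper44.TPStmt.J d → F),
      Q = Cfsg.Agent.Lib.Helper44.NegPairs.plusQ d F := ⟨_, rfl⟩
  have hQc : ∀ v, Q v = Cfsg.quadFormPlus d F v := fun v => by rw [hQ]; rfl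
  have hpol : ∀ v w, polar Q v w = polar (Cfsg.quadFormPlus d F) v w := fun v w => by
    rw [hQ]; rfl
  obtain ⟨g, hg⟩ : ∃ g : (Cfsg.Agent.Lib.Helper44.TPStmt.J d → F) →ₗ[F]
      (Cfsg.Agent.Lib.Helper44.TPStmt.J d → F),
      g = Matrix.toLin' (x : Matrix (Cfsg.Agent.Lib.Helper44.TPStmt.J d)
        (Cfsg.Agent.Lib.Helper44.TPStmt.J d) F) := ⟨_, rfl⟩
  have hgQ : ∀ v, Q (g v) = Q v := by
    intro v
    rw [hQc, hQc, hg, Matrix.toLin'_apply]
    exact hx v v
  have hgg : ∀ v, g (g v) = v := by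
    intro v
    rw [hg, Matrix.toLin'_apply, Matrix.toLin'_apply, Matrix.mulVec_mulVec, hxx,
      Matrix.one_mulVec]
  obtain ⟨B, U, hBA, hUB, hinvB, hndB, htsU, hfrU, hfrB⟩ := block_gen Q g h2 hgQ hgg A
    (fun a ha => by
      rw [hg]
      exact hstab (Submodule.mem_map_of_mem ha))
    (fun w hw hw0 => by
      obtain ⟨⟨y, hy, hyw⟩, -⟩ := hnd w hw hw0
      exact ⟨y, hy, by rw [hpol]; exact hyw⟩)
    (fun a ha => by
      rw [hpol, hg, Matrix.toLin'_apply]
      exact hA0 a ha)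
    u hu
    (by
      rw [hg, Matrix.toLin'_apply]
      exact hxu)
  refine ⟨B, hBA, ?_, ?_, ⟨U, hUB, ?_, by rw [hfrU, hfrB]⟩, hfrB⟩
  · rintro _ ⟨w, hw, rfl⟩
    have := hinvB w hw
    rw [hg] at this
    exact this
  · intro w hw hw0
    obtain ⟨y, hy, hyw⟩ := hndB w hw hw0
    exact ⟨⟨y, hy, by rw [← hpol]; exact hyw⟩,
      ⟨y, hy, by rw [← hpol, QuadraticMap.polar_comm]; exact hyw⟩⟩
  · intro s hs
    rw [← hQc]
    exact htsU s hs

end Cfsg.Agent.Lib.Helper60.C2BLOCK4
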