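import Mathlib
import Cfsg.Agent.Lib.Helper10.C2MStmt
import Cfsg.Agent.Lib.Helper44.NegPairs
import Cfsg.Agent.Lib.Helper60.C2BLOCK4

set_option autoImplicit false

/-!
S5990C piece BLOCK4M (helper60): minus-form port of S5974C/BLOCK4, from the form-free
`Cfsg.Agent.Lib.Helper60.C2BLOCK4.block_gen`.
-/

namespace Cfsg.Agent.Lib.Helper60.C2MBLOCK4M

open Module QuadraticMap

universe u

theorem main : Cfsg.Agent.Lib.Helper10.C2MStmt.Block4M.{u} := by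
  intro F _ _ a₀ b₀ _ _ d x hx hxx A hstab hnd hA0 u hu hxu
  classical
  have h2 : (2 : F) = 0 := CharTwo.two_eq_zero
  obtain ⟨Q, hQ⟩ : ∃ Q : QuadraticForm F (Cfsg.Agent.Lib.Helper45.OMiStmt.M d → F),
      Q = Cfsg.Agent.Lib.Helper44.NegPairs.minusQ (d - 1) F a₀ b₀ := ⟨_, rfl⟩
  have hQc : ∀ v, Q v = Cfsg.quadFormMinus (d - 1) F a₀ b₀ v := fun v => by rw [hQ]; rfl
  have hpol : ∀ v w, polar Q v w = polar (Cfsg.quadFormMinus (d - 1) F a₀ b₀) v w :=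
    fun v w => by rw [hQ]; rfl
  obtain ⟨g, hg⟩ : ∃ g : (Cfsg.Agent.Lib.Helper45.OMiStmt.M d → F) →ₗ[F]
      (Cfsg.Agent.Lib.Helper45.OMiStmt.M d → F),
      g = Matrix.toLin' (x : Matrix (Cfsg.Agent.Lib.Helper45.OMiStmt.M d)
        (Cfsg.Agent.Lib.Helper45.OMiStmt.M d) F) := ⟨_, rfl⟩
  have hgQ : ∀ v, Q (g v) = Q v := by
    intro v
    rw [hQc, hQc, hg, Matrix.toLin'_apply]
    exact hx v v
  have hgg : ∀ v, g (g v) = v := by
    intro v
    rw [hg, Matrix.toLin'_apply, Matrix.toLin'_apply, Matrix.mulVec_mulVec, hxx,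
      Matrix.one_mulVec]
  obtain ⟨B, U, hBA, hUB, hinvB, hndB, htsU, hfrU, hfrB⟩ :=
    Cfsg.Agent.Lib.Helper60.C2BLOCK4.block_gen Q g h2 hgQ hgg A
    (fun a ha => by
      rw [hg]
      exact hstab (Submodule.mem_map_of_mem ha))
    (fun w hw hw0 => by
      obtain ⟨⟨y, hy, hyw⟩, -⟩ := hnd w hw hw0
      exact ⟨y, hy, by rw [hpol]; exact hyw⟩)
    (fun a ha => by
      rw [hpol, hg, Matrix.toLin'_apply]
      exact hA0 a ha)
    u hu
    (by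
      rw [hg, Matrix.toLin'_apply]
      exact hxu)
  refine ⟨B, hBA, ?_, ?_, ⟨U, hUB, ?_, by rw [hfrU, hfrB]⟩, hfrB⟩
  · rintro _ ⟨w, hw, rfl⟩
    have := hinvB w hw
    rw [hg] at this
    exact this
  · intro w hw hw0
    obtain ⟨y, hy, hyw⟩ := hndB w hw hw0
    exact ⟨⟨y, hy, by rw [← hpol]; exact hyw⟩,
      ⟨y, hy, by rw [← hpol, QuadraticMap.polar_comm]; exact hyw⟩⟩
  · intro s hs
    rw [← hQc]
    exact htsU s hs

end Cfsg.Agent.Lib.Helper60.C2MBLOCK4M
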