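import Mathlib
import Cfsg.Agent.Lib.Helper59.C2Stmt
import Cfsg.Agent.Lib.Helper44.NegPairs

set_option autoImplicit false

/-!
S5974C piece PLANE0 (helper60): singular `e`, `f` with `β(e, f) ≠ 0` span a nondegenerate
plus-type plane (any characteristic).
-/

namespace Cfsg.Agent.Lib.Helper60.C2PLANE0

open Module QuadraticMap

universe u

section gen

variable {F : Type u} [Field F] {V : Type*} [AddCommGroup V] [Module F V]

theorem plane_gen (Q : QuadraticForm F V) (e f : V) (he : Q e = 0) (hf : Q f = 0)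
    (hef : polar Q e f ≠ 0) :
    (∀ w ∈ Submodule.span F {e, f}, w ≠ 0 →
      (∃ x ∈ Submodule.span F {e, f}, polar Q x w ≠ 0) ∧
      (∃ x ∈ Submodule.span F {e, f}, polar Q w x ≠ 0)) ∧
    (∀ u ∈ Submodule.span F {e}, Q u = 0) ∧
    finrank F ↥(Submodule.span F {e}) = 1 ∧
    finrank F ↥(Submodule.span F {e, f}) = 2 := by
  have hee : polar Q e e = 0 := by
    rw [QuadraticMap.polar_self, he, smul_zero]
  have hff : polar Q f f = 0 := by
    rw [QuadraticMap.polar_self, hf, smul_zero]
  have hfe : polar Q f e ≠ 0 := by rw [QuadraticMap.polar_comm]; exact hef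
  have he0 : e ≠ 0 := by
    rintro rfl
    exact hef (by simp)
  have heS : e ∈ Submodule.span F {e, f} := Submodule.subset_span (by simp)
  have hfS : f ∈ Submodule.span F {e, f} := Submodule.subset_span (by simp)
  have hnd : ∀ w ∈ Submodule.span F {e, f}, w ≠ 0 →
      ∃ x ∈ Submodule.span F {e, f}, polar Q x w ≠ 0 := by
    intro w hw hw0
    obtain ⟨a, b, rfl⟩ := Submodule.mem_span_pair.mp hw
    by_cases hb : b = 0
    · subst hb
      have ha : a ≠ 0 := by
        rintro rfl
        exact hw0 (by simp)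
      refine ⟨f, hfS, ?_⟩
      simp only [zero_smul, add_zero, QuadraticMap.polar_smul_right, smul_eq_mul]
      exact mul_ne_zero ha hfe
    · refine ⟨e, heS, ?_⟩
      simp only [QuadraticMap.polar_add_right, QuadraticMap.polar_smul_right, smul_eq_mul, hee,
        mul_zero, zero_add]
      exact mul_ne_zero hb hef
  have hfnot : f ∉ Submodule.span F {e} := by
    intro h
    obtain ⟨c, rfl⟩ := Submodule.mem_span_singleton.mp h
    apply hef
    rw [QuadraticMap.polar_smul_right, hee, smul_zero]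
  have hfr1 : finrank F ↥(Submodule.span F {e}) = 1 := finrank_span_singleton he0
  refine ⟨?_, ?_, hfr1, ?_⟩
  · intro w hw hw0
    obtain ⟨x, hx, hxw⟩ := hnd w hw hw0
    exact ⟨⟨x, hx, hxw⟩, ⟨x, hx, by rw [QuadraticMap.polar_comm]; exact hxw⟩⟩
  · intro u hu
    obtain ⟨c, rfl⟩ := Submodule.mem_span_singleton.mp hu
    rw [QuadraticMap.map_smul, he, smul_zero]
  · have hf0 : f ≠ 0 := by
      rintro rfl
      exact hef (by simp)
    have hsup : Submodule.span F {e, f} = Submodule.span F {e} ⊔ Submodule.span F {f} := by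
      rw [Submodule.span_insert]
    have hd : Submodule.span F {e} ⊓ Submodule.span F {f} = ⊥ := by
      rw [← disjoint_iff]
      exact (Submodule.disjoint_span_singleton' hf0).mpr hfnot
    have h := Submodule.finrank_sup_add_finrank_inf_eq (Submodule.span F {e})
      (Submodule.span F {f})
    rw [hd, finrank_bot, finrank_span_singleton hf0, hfr1] at h
    rw [hsup]
    omega

end gen

theorem main : Cfsg.Agent.Lib.Helper59.C2Stmt.Plane0.{u} := by
  intro F _ _ d e f he hf hef
  classical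
  obtain ⟨Q, hQ⟩ : ∃ Q : QuadraticForm F (Cfsg.Agent.Lib.Helper44.TPStmt.J d → F),
      Q = Cfsg.Agent.Lib.Helper44.NegPairs.plusQ d F := ⟨_, rfl⟩
  have hQc : ∀ v, Q v = Cfsg.quadFormPlus d F v := fun v => by rw [hQ]; rfl
  have hpol : ∀ v w, polar Q v w = polar (Cfsg.quadFormPlus d F) v w := fun v w => by
    rw [hQ]; rfl
  obtain ⟨h1, h2, h3, h4⟩ := plane_gen Q e f (by rw [hQc]; exact he) (by rw [hQc]; exact hf)
    (by rw [hpol]; exact hef)
  refine ⟨?_, ⟨Submodule.span F {e}, ?_, ?_, ?_⟩, h4⟩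
  · intro w hw hw0
    obtain ⟨⟨x, hx, hxw⟩, ⟨y, hy, hyw⟩⟩ := h1 w hw hw0
    exact ⟨⟨x, hx, by rw [← hpol]; exact hxw⟩, ⟨y, hy, by rw [← hpol]; exact hyw⟩⟩
  · exact Submodule.span_mono (by simp)
  · intro u hu
    rw [← hQc]
    exact h2 u hu
  · rw [h3, h4]

end Cfsg.Agent.Lib.Helper60.C2PLANE0
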