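import Mathlib
import Cfsg.Agent.Lib.Helper57.FTStmt

set_option autoImplicit false

/-! Piece NILSYL of S3999 (helper57's call; helper60). -/

namespace Cfsg.Agent.Lib.Helper60.FTNILSYL

open Cfsg.Agent.Lib.Helper57.FTStmt

universe u

theorem main : NilSyl.{u} := by
  intro X _ _ K C hKn hnil hcompl hcop p hp hpK
  haveI := hKn
  have hsyl := ((Group.isNilpotent_of_finite_tfae (G := ↥K)).out 0 3).mp hnil
  obtain ⟨Q⟩ : Nonempty (Sylow p ↥K) := inferInstance
  haveI hQn : (Q : Subgroup ↥K).Normal := hsyl p hp Q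
  haveI hQc : (Q : Subgroup ↥K).Characteristic := Sylow.characteristic_of_normal Q hQn
  have hP₀n : ((Q : Subgroup ↥K).map K.subtype).Normal :=
    ConjAct.normal_of_characteristic_of_normal
  have hpC : ¬ p ∣ Nat.card C := by
    intro h
    have h1 : Nat.Coprime p (Nat.card C) := Nat.Coprime.coprime_dvd_left hpK hcop
    exact (Nat.Prime.coprime_iff_not_dvd hp.out).mp h1 h
  have hcardX : Nat.card X = Nat.card K * Nat.card C := (hcompl.card_mul_card).symm
  have hfac : (Nat.card X).factorization p = (Nat.card K).factorization p := by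
    rw [hcardX, Nat.factorization_mul Nat.card_pos.ne' Nat.card_pos.ne', Finsupp.add_apply,
      Nat.factorization_eq_zero_of_not_dvd hpC, add_zero]
  have hcard : Nat.card ((Q : Subgroup ↥K).map K.subtype) = p ^ (Nat.card X).factorization p := by
    rw [Subgroup.card_map_of_injective K.subtype_injective, hfac]
    exact Q.card_eq_multiplicity
  refine ⟨Sylow.ofCard _ hcard, ?_⟩
  rw [Sylow.coe_ofCard]
  exact hP₀n

end Cfsg.Agent.Lib.Helper60.FTNILSYL
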