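import Mathlib
import Cfsg.Agent.Lib.Helper87.FUSHStmt

set_option autoImplicit false

/-!
S1438 piece FUSHB (helper60): step B of the fusion lemma `FusHall`.
-/

namespace Cfsg.Agent.Lib.Helper60.FUSHB

universe u

open Cfsg.Agent.Lib.Helper23.HNStmt Cfsg.Agent.Lib.Helper87.FUSHStmt

open scoped Pointwise

theorem main (hU : HallNilUniq.{u}) (hC : HallConj.{u}) : StepB.{u} := by
  intro X _ _ hsolv S F D H _ hFS hSD hDnil hHS hHall x hx s hs hsx
  haveI := hsolv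
  obtain ⟨π, hπ⟩ : ∃ π : X →* X ⧸ F, π = QuotientGroup.mk' F := ⟨_, rfl⟩
  have hDnil' : Group.IsNilpotent ↥(D.map π) := by rw [hπ]; exact hDnil
  have hNnil : Group.IsNilpotent ↥(S.map π) := by
    have hle : S.map π ≤ D.map π := Subgroup.map_mono hSD
    haveI := hDnil'
    exact (Group.isNilpotent_congr (Subgroup.subgroupOfEquivOfLe hle)).mp inferInstance
  have hHsS : H.map (MulAut.conj s).toMonoidHom ≤ S := by
    rintro _ ⟨h, hh, rfl⟩
    simp only [MulEquiv.coe_toMonoidHom, MulAut.conj_apply]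
    exact S.mul_mem (S.mul_mem hs (hHS hh)) (S.inv_mem hs)
  have hBA : (H.map (MulAut.conj s).toMonoidHom).map π
      = (H.map π).map (MulAut.conj (π s)).toMonoidHom := by
    rw [Subgroup.map_map, Subgroup.map_map]
    congr 1
    ext y
    simp
  have hcardAB : Nat.card ↥(H.map π)
      = Nat.card ↥((H.map (MulAut.conj s).toMonoidHom).map π) := by
    rw [hBA]
    exact (Subgroup.card_map_of_injective (MulAut.conj (π s)).injective).symm
  have hrel : (H.map π).relIndex (S.map π) ∣ H.relIndex S := by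
    have h1 : ((H.subgroupOf S).map (π.subgroupMap S)) = (H.map π).subgroupOf (S.map π) := by
      ext ⟨y, hy⟩
      constructor
      · rintro ⟨⟨h, hhS⟩, hh, hheq⟩
        rw [Subgroup.mem_subgroupOf]
        have : π h = y := congrArg Subtype.val hheq
        exact ⟨h, Subgroup.mem_subgroupOf.mp hh, this⟩
      · intro hy'
        rw [Subgroup.mem_subgroupOf] at hy'
        obtain ⟨h, hh, hheq⟩ := hy'
        exact ⟨⟨h, hHS hh⟩, Subgroup.mem_subgroupOf.mpr hh, Subtype.ext hheq⟩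
    have h2 := Subgroup.index_map_dvd (H.subgroupOf S) (MonoidHom.subgroupMap_surjective π S)
    rw [h1] at h2
    exact h2
  have hcardA : Nat.card ↥(H.map π) ∣ Nat.card ↥H := Subgroup.card_map_dvd H π
  have hHallA : (Nat.card ↥(H.map π)).Coprime ((H.map π).relIndex (S.map π)) :=
    Nat.Coprime.coprime_dvd_left hcardA (Nat.Coprime.coprime_dvd_right hrel hHall)
  have hAB : H.map π = (H.map (MulAut.conj s).toMonoidHom).map π :=
    hU (S.map π) (H.map π) _ hNnil (Subgroup.map_mono hHS) (Subgroup.map_mono hHsS) hcardAB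
      hHallA
  have hHsHF : H.map (MulAut.conj s).toMonoidHom ≤ H ⊔ F := by
    intro y hy
    have h1 : π y ∈ (H.map (MulAut.conj s).toMonoidHom).map π := Subgroup.mem_map_of_mem π hy
    rw [← hAB] at h1
    obtain ⟨h, hh, hheq⟩ := h1
    have h2 : h⁻¹ * y ∈ F := by
      rw [hπ] at hheq
      exact QuotientGroup.eq.mp hheq
    have h3 : y = h * (h⁻¹ * y) := by group
    rw [h3]
    exact Subgroup.mul_mem_sup hh h2
  have hsolvHF : Group.IsSolvable ↥(H ⊔ F) := inferInstance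
  have hHallHF : (Nat.card ↥H).Coprime (H.relIndex (H ⊔ F)) :=
    Nat.Coprime.coprime_dvd_right
      (Dvd.intro _ (Subgroup.relIndex_mul_relIndex (H := H) (K := H ⊔ F) (L := S) le_sup_left
        (sup_le hHS hFS))) hHall
  obtain ⟨g, hg, hgeq⟩ := hC (H ⊔ F) H (H.map (MulAut.conj s).toMonoidHom) hsolvHF le_sup_left
    hHsHF (Subgroup.card_map_of_injective (MulAut.conj s).injective).symm hHallHF
  have hgmem : g ∈ ((F ⊔ H : Subgroup X) : Set X) := by rw [sup_comm]; exact hg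
  rw [Subgroup.normal_mul] at hgmem
  obtain ⟨f, hf, h, hh, rfl⟩ := Set.mem_mul.mp hgmem
  have K1 : ∀ z ∈ H, ∃ z' ∈ H, s * z * s⁻¹ = (f * h) * z' * (f * h)⁻¹ := by
    intro z hz
    have h1 : s * z * s⁻¹ ∈ H.map (MulAut.conj s).toMonoidHom := ⟨z, hz, rfl⟩
    rw [hgeq] at h1
    obtain ⟨z', hz', e⟩ := h1
    exact ⟨z', hz', by rw [← e]; simp only [MulEquiv.coe_toMonoidHom, MulAut.conj_apply]⟩
  have K2 : ∀ z' ∈ H, ∃ z ∈ H, (f * h) * z' * (f * h)⁻¹ = s * z * s⁻¹ := by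
    intro z' hz'
    have h1 : (f * h) * z' * (f * h)⁻¹ ∈ H.map (MulAut.conj (f * h)).toMonoidHom :=
      ⟨z', hz', rfl⟩
    rw [← hgeq] at h1
    obtain ⟨z, hz, e⟩ := h1
    exact ⟨z, hz, by rw [← e]; simp only [MulEquiv.coe_toMonoidHom, MulAut.conj_apply]⟩
  have hfwd : ∀ z ∈ H, (f⁻¹ * s) * z * (f⁻¹ * s)⁻¹ ∈ H := by
    intro z hz
    obtain ⟨z', hz', e⟩ := K1 z hz
    have h1 : (f⁻¹ * s) * z * (f⁻¹ * s)⁻¹ = f⁻¹ * (s * z * s⁻¹) * f := by group
    rw [h1, e]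
    have h2 : f⁻¹ * (f * h * z' * (f * h)⁻¹) * f = h * z' * h⁻¹ := by group
    rw [h2]
    exact H.mul_mem (H.mul_mem hh hz') (H.inv_mem hh)
  refine ⟨f⁻¹ * s, ?_, f, hf, hfwd x hx, by group⟩
  rw [Subgroup.mem_normalizer_iff]
  intro z
  refine ⟨hfwd z, fun hw => ?_⟩
  obtain ⟨z₂, hz₂, e⟩ := K2 (h⁻¹ * ((f⁻¹ * s) * z * (f⁻¹ * s)⁻¹) * h)
    (H.mul_mem (H.mul_mem (H.inv_mem hh) hw) hh)
  have h1 : (f * h) * (h⁻¹ * ((f⁻¹ * s) * z * (f⁻¹ * s)⁻¹) * h) * (f * h)⁻¹ = s * z * s⁻¹ := by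
    group
  rw [h1] at e
  have h2 : z = z₂ := by
    have e1 : s⁻¹ * (s * z * s⁻¹) * s = z := by group
    have e2 : s⁻¹ * (s * z₂ * s⁻¹) * s = z₂ := by group
    rw [← e1, e, e2]
  rw [h2]
  exact hz₂

end Cfsg.Agent.Lib.Helper60.FUSHB
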