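import Mathlib
import Cfsg.Agent.Lib.Helper40.GFStmt

set_option autoImplicit false

/-! Piece DETSURJ of S5886 (helper60, second seat): an `L`-linear automorphism of `L ^ k` with
prescribed `F`-determinant. -/

namespace Cfsg.Agent.Lib.Helper60.GFDETSURJ

open Cfsg.Agent.Lib.Helper40.GFStmt

universe u

theorem main : DetSurj.{u} := by
  intro F L _ _ _ _ k hk s hs
  obtain ⟨a, ha⟩ := FiniteField.norm_surjective F L s
  have ha0 : a ≠ 0 := by
    rintro rfl
    rw [Algebra.norm_zero] at ha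
    exact hs ha.symm
  obtain ⟨i0⟩ : Nonempty (Fin k) := ⟨⟨0, hk⟩⟩
  obtain ⟨f, hf⟩ : ∃ f : Module.Dual L (V k L), f = (a - 1) • LinearMap.proj i0 := ⟨_, rfl⟩
  obtain ⟨v, hv⟩ : ∃ v : V k L, v = Pi.single i0 1 := ⟨_, rfl⟩
  have hfv : 1 + f v = a := by
    rw [hf, hv]
    simp
  have hu : IsUnit (1 + f v) := by
    rw [hfv]
    exact isUnit_iff_ne_zero.mpr ha0
  refine ⟨LinearEquiv.dilatransvection hu, ?_⟩
  have h1 : (((LinearEquiv.dilatransvection hu).restrictScalars F : V k L ≃ₗ[F] V k L) :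
      V k L →ₗ[F] V k L) = (LinearMap.transvection f v).restrictScalars F := rfl
  rw [h1, LinearMap.det_restrictScalars, LinearMap.transvection.det, hfv, ha]

end Cfsg.Agent.Lib.Helper60.GFDETSURJ
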