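import Mathlib
import Cfsg.Agent.Lib.Helper40.GFStmt
import Cfsg.Agent.Lib.Helper8.GFZ1BStmt

set_option autoImplicit false

/-! Piece CONJ1 of S5886/Z1B (helper60, second seat). -/

namespace Cfsg.Agent.Lib.Helper60.GFZ1BCONJ1

open Cfsg.Agent.Lib.Helper40.GFStmt Cfsg.Agent.Lib.Helper8.GFZ1BStmt

universe u

theorem main : Conj1.{u} := by
  intro F L _ _ _ _ c h v v₂ ψ χ A D X d A' hA' a
  obtain ⟨e, heM, he⟩ := inSig_mulLeft c v ψ d.psi_v a
  have hA'inj : Function.Injective A' := by
    have hsurj : Function.Surjective A' := fun t => ⟨A t, hA' t⟩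
    exact Finite.injective_iff_surjective.mpr hsurj
  have hAA' : ∀ s, A (A' s) = s := fun s => hA'inj (hA' (A' s))
  have hψh : ∀ x, ψ (h x) = D (ψ x) := by
    intro x
    have hx := d.dec x
    have h1 : h x = (A (χ x) + X (ψ x)) • v + D (ψ x) • v₂ := by
      conv_lhs => rw [hx]
      exact d.act _ _
    rw [h1, map_add, map_smul, map_smul, d.psi_v, d.psi_v2, smul_zero, zero_add, smul_eq_mul,
      mul_one]
  have hhv : ∀ s, h (A' s • v) = s • v := by
    intro s
    have h1 := d.act (A' s) 0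
    rw [zero_smul, add_zero, map_zero, map_zero, add_zero, zero_smul, add_zero, hAA'] at h1
    exact h1
  refine ⟨h⁻¹ * e * h, c.M.mul_mem (c.M.mul_mem (c.M.inv_mem d.hM) heM) d.hM, fun x => ?_⟩
  apply h.injective
  have h1 : h ((h⁻¹ * e * h) x) = e (h x) := by
    show h (h.symm (e (h x))) = e (h x)
    exact h.apply_symm_apply _
  rw [h1, he, hψh, map_add]
  simp only [LinearMap.comp_apply, LinearMap.mulLeft_apply]
  rw [hhv]

end Cfsg.Agent.Lib.Helper60.GFZ1BCONJ1
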