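import Mathlib
import Cfsg.Agent.Lib.Helper40.GFStmt
import Cfsg.Agent.Lib.Helper8.GFZ1BStmt

set_option autoImplicit false

/-! Piece NORM1 of S5886/Z1B (helper60, second seat). -/

namespace Cfsg.Agent.Lib.Helper60.GFZ1BNORM1

open Cfsg.Agent.Lib.Helper40.GFStmt Cfsg.Agent.Lib.Helper8.GFZ1BStmt

universe u

theorem main (hT : GLTrans.{u}) : Norm1.{u} := by
  intro F L _ _ _ _ c hF hfin h hh hnot x₀ hx₀ hL
  classical
  have hFin : Finite F := Nat.finite_of_card_ne_zero (by rw [hF]; norm_num)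
  haveI : Fintype F := Fintype.ofFinite F
  have hFc : Fintype.card F = 2 := by rw [Fintype.card_eq_nat_card, hF]
  have hF01 : ∀ s : F, s = 0 ∨ s = 1 := by
    intro s
    have h := FiniteField.pow_card s
    rw [hFc] at h
    have h' : s * (s - 1) = 0 := by linear_combination h
    rcases mul_eq_zero.mp h' with h0 | h1
    · exact Or.inl h0
    · exact Or.inr (sub_eq_zero.mp h1)
  have hy : h x₀ ≠ 0 := (LinearEquiv.map_ne_zero_iff h).mpr hx₀
  obtain ⟨g, hg⟩ := hT L 2 (h x₀) x₀ hy hx₀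
  have hgM : g.restrictScalars F ∈ c.M := by
    apply c.hsub
    have hu : IsUnit (LinearMap.det (g : V 2 L →ₗ[L] V 2 L)) := LinearEquiv.isUnit_det' g
    have hu' := hu.map (Algebra.norm F)
    rcases hF01 (Algebra.norm F (LinearMap.det (g : V 2 L →ₗ[L] V 2 L))) with h0 | h1
    · rw [h0] at hu'
      exact absurd hu' not_isUnit_zero
    · exact h1
  have key : ∀ x, (g.restrictScalars F * h) x = g (h x) := fun x => rfl
  refine ⟨g.restrictScalars F * h, c.M.mul_mem hgM hh, x₀, hx₀, ?_, ?_, ?_⟩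
  · intro hall
    apply hnot
    intro x a
    obtain ⟨a', ha'⟩ := hall x a
    refine ⟨a', ?_⟩
    rw [key, key, ← g.map_smul] at ha'
    exact g.injective ha'
  · rw [key]
    exact hg
  · intro a
    obtain ⟨a', ha'⟩ := hL a
    exact ⟨a', by rw [key, ha', g.map_smul, hg]⟩

end Cfsg.Agent.Lib.Helper60.GFZ1BNORM1
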