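import Mathlib
import Cfsg.Agent.Lib.Helper40.GFStmt
import Cfsg.Agent.Lib.Helper8.GFZ1BStmt

set_option autoImplicit false

/-! Piece NORM2 of S5886/Z1B (helper60, extra seat): the normalized coordinates. -/

namespace Cfsg.Agent.Lib.Helper60.GFZ1BNORM2

open Cfsg.Agent.Lib.Helper40.GFStmt Cfsg.Agent.Lib.Helper8.GFZ1BStmt

universe u

/-- `x ↦ x 0 * w 1 - x 1 * w 0` -/
def dt {L : Type u} [Field L] (w : V 2 L) : V 2 L →ₗ[L] L :=
  (w 1) • (LinearMap.proj 0 : V 2 L →ₗ[L] L) - (w 0) • (LinearMap.proj 1 : V 2 L →ₗ[L] L)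

theorem dt_apply {L : Type u} [Field L] (w x : V 2 L) : dt w x = x 0 * w 1 - x 1 * w 0 := by
  simp [dt]
  ring

theorem main : Norm2.{u} := by
  intro F L _ _ _ _ c h hM v hv hhv hline
  classical
  have hψv : dt v v = 0 := by
    rw [dt_apply]
    ring
  obtain ⟨y, hy⟩ : ∃ y : V 2 L, dt v y ≠ 0 := by
    by_cases h0 : v 0 = 0
    · have h1 : v 1 ≠ 0 := by
        intro h1
        apply hv
        funext i
        fin_cases i
        · exact h0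
        · exact h1
      refine ⟨Pi.single 0 1, ?_⟩
      rw [dt_apply]
      simpa using h1
    · refine ⟨Pi.single 1 1, ?_⟩
      rw [dt_apply]
      simpa using h0
  obtain ⟨v₂, hv₂⟩ : ∃ v₂ : V 2 L, v₂ = (dt v y)⁻¹ • y := ⟨_, rfl⟩
  have hψv₂ : dt v v₂ = 1 := by
    rw [hv₂, map_smul, smul_eq_mul, inv_mul_cancel₀ hy]
  have hΔ : v₂ 0 * v 1 - v₂ 1 * v 0 = 1 := by
    rw [← dt_apply]
    exact hψv₂
  obtain ⟨χ, hχ⟩ : ∃ χ : V 2 L →ₗ[L] L, ∀ x, χ x = -(x 0 * v₂ 1 - x 1 * v₂ 0) :=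
    ⟨-(dt v₂), fun x => by rw [LinearMap.neg_apply, dt_apply]⟩
  have hχv : χ v = 1 := by
    rw [hχ]
    linear_combination hΔ
  have hχv₂ : χ v₂ = 0 := by
    rw [hχ]
    ring
  have hdec : ∀ x : V 2 L, x = χ x • v + dt v x • v₂ := by
    intro x
    funext i
    fin_cases i
    · simp only [Pi.add_apply, Pi.smul_apply, smul_eq_mul, hχ, dt_apply]
      show x 0 = -(x 0 * v₂ 1 - x 1 * v₂ 0) * v 0 + (x 0 * v 1 - x 1 * v 0) * v₂ 0
      linear_combination (-(x 0)) * hΔ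
    · simp only [Pi.add_apply, Pi.smul_apply, smul_eq_mul, hχ, dt_apply]
      show x 1 = -(x 0 * v₂ 1 - x 1 * v₂ 0) * v 1 + (x 0 * v 1 - x 1 * v 0) * v₂ 1
      linear_combination (-(x 1)) * hΔ
  obtain ⟨A, hA⟩ : ∃ A : L →ₗ[F] L, ∀ a, A a = χ (h (a • v)) :=
    ⟨(χ.restrictScalars F) ∘ₗ (h : V 2 L →ₗ[F] V 2 L) ∘ₗ
      (LinearMap.toSpanSingleton L (V 2 L) v).restrictScalars F, fun a => rfl⟩
  obtain ⟨X, hX⟩ : ∃ X : L →ₗ[F] L, ∀ b, X b = χ (h (b • v₂)) :=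
    ⟨(χ.restrictScalars F) ∘ₗ (h : V 2 L →ₗ[F] V 2 L) ∘ₗ
      (LinearMap.toSpanSingleton L (V 2 L) v₂).restrictScalars F, fun a => rfl⟩
  obtain ⟨D, hD⟩ : ∃ D : L →ₗ[F] L, ∀ b, D b = dt v (h (b • v₂)) :=
    ⟨((dt v).restrictScalars F) ∘ₗ (h : V 2 L →ₗ[F] V 2 L) ∘ₗ
      (LinearMap.toSpanSingleton L (V 2 L) v₂).restrictScalars F, fun a => rfl⟩
  have hAv : ∀ a, h (a • v) = A a • v := by
    intro a
    obtain ⟨a', ha'⟩ := hline a
    rw [hA, ha', map_smul, hχv, smul_eq_mul, mul_one]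
  have hAinj : Function.Injective A := by
    intro a a' haa
    have h1 : h (a • v) = h (a' • v) := by rw [hAv, hAv, haa]
    exact smul_left_injective L hv (h.injective h1)
  have hXD : ∀ b, h (b • v₂) = X b • v + D b • v₂ := by
    intro b
    rw [hX, hD]
    exact hdec (h (b • v₂))
  refine ⟨v₂, dt v, χ, A, D, X, ?_⟩
  refine ⟨hM, hv, hψv, hψv₂, hχv, hχv₂, hdec, ?_, ?_, hAinj, ?_⟩
  · intro a b
    rw [map_add, hAv, hXD, add_smul, add_assoc]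
  · rw [hA, one_smul, hhv, hχv]
  · rw [injective_iff_map_eq_zero]
    intro b hb
    obtain ⟨a, ha⟩ := (Finite.injective_iff_surjective.mp hAinj) (X b)
    have h1 : h (a • v) = h (b • v₂) := by
      rw [hAv, hXD, hb, zero_smul, add_zero, ha]
    have h2 : a • v = b • v₂ := h.injective h1
    have h3 := congrArg (dt v) h2
    rw [map_smul, map_smul, hψv, hψv₂, smul_zero, smul_eq_mul, mul_one] at h3
    exact h3.symm

end Cfsg.Agent.Lib.Helper60.GFZ1BNORM2
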