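import Mathlib
import Cfsg.Agent.Lib.Helper40.GFStmt

set_option autoImplicit false

/-! Piece Z3 of S5886 (helper60, third seat): `|F| = 2`, `|L| = 4`, `k = 2`. -/

namespace Cfsg.Agent.Lib.Helper60.GFZ3

open Cfsg.Agent.Lib.Helper40.GFStmt

universe u

theorem lineAt_of {F L : Type u} [Field F] [Field L] [Algebra F L] {k : ℕ}
    (g : V k L ≃ₗ[F] V k L) (x : V k L) (a₀ b₀ : L)
    (hE : ∀ a : L, a = 0 ∨ a = 1 ∨ a = a₀ ∨ a = a₀ + 1) (h : g (a₀ • x) = b₀ • g x) :
    LineAt g x := by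
  intro a
  rcases hE a with rfl | rfl | rfl | rfl
  · exact ⟨0, by rw [zero_smul, map_zero, zero_smul]⟩
  · exact ⟨1, by rw [one_smul, one_smul]⟩
  · exact ⟨b₀, h⟩
  · exact ⟨b₀ + 1, by rw [add_smul, one_smul, map_add, h, add_smul, one_smul]⟩

theorem main (hSpread : Spread.{u}) (hZ2 : Z2.{u}) : Z3.{u} := by
  intro F L _ _ _ _ c hF hfin g hg hnot
  classical
  haveI : Finite F := Nat.finite_of_card_ne_zero (by rw [hF]; norm_num)
  haveI : Fintype F := Fintype.ofFinite F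
  haveI : Fintype L := Fintype.ofFinite L
  have hFc : Fintype.card F = 2 := by rw [Fintype.card_eq_nat_card, hF]
  have hLc : Fintype.card L = 4 := by
    rw [Module.card_eq_pow_finrank (K := F) (V := L), hFc, hfin]
    norm_num
  have hF01 : ∀ s : F, s = 0 ∨ s = 1 := by
    intro s
    have h := FiniteField.pow_card s
    rw [hFc] at h
    have h' : s * (s - 1) = 0 := by linear_combination h
    rcases mul_eq_zero.mp h' with h0 | h1
    · exact Or.inl h0
    · exact Or.inr (sub_eq_zero.mp h1)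
  have h2F : (1 : F) + 1 = 0 := by
    rcases hF01 (1 + 1) with h | h
    · exact h
    · exfalso
      exact one_ne_zero (by linear_combination h : (1 : F) = 0)
  have h2L : (1 : L) + 1 = 0 := by
    have h := congrArg (algebraMap F L) h2F
    simpa using h
  have hVV : ∀ z : V 2 L, z + z = 0 := by
    intro z
    have h : z + z = ((1 : L) + 1) • z := by rw [add_smul, one_smul]
    rw [h, h2L, zero_smul]
  have hneg : ∀ z : V 2 L, -z = z := fun z => neg_eq_of_add_eq_zero_left (hVV z)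
  have heq : ∀ z w : V 2 L, z + w = 0 → z = w := by
    intro z w h
    rw [← hneg w]
    exact eq_neg_of_add_eq_zero_left h
  obtain ⟨ω, hω0, hω1⟩ : ∃ ω : L, ω ≠ 0 ∧ ω ≠ 1 := by
    by_contra H
    push_neg at H
    have hsub : (Finset.univ : Finset L) ⊆ {0, 1} := by
      intro a _
      by_cases ha : a = 0
      · simp [ha]
      · simp [H a ha]
    have h1 := Finset.card_le_card hsub
    rw [Finset.card_univ, hLc] at h1
    have h2 : ({0, 1} : Finset L).card ≤ 2 := Finset.card_le_two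
    omega
  have hω3 : ω ^ 3 = 1 := by
    have h := FiniteField.pow_card_sub_one_eq_one ω hω0
    rwa [hLc] at h
  have hω2 : ω ^ 2 + ω + 1 = 0 := by
    have h : (ω - 1) * (ω ^ 2 + ω + 1) = 0 := by linear_combination hω3
    rcases mul_eq_zero.mp h with h | h
    · exact absurd (sub_eq_zero.mp h) hω1
    · exact h
  have hsq : ω ^ 2 = ω + 1 := by linear_combination hω2 - (ω + 1) * h2L
  have hE : ∀ a : L, a = 0 ∨ a = 1 ∨ a = ω ∨ a = ω + 1 := by
    intro a
    have h4 := FiniteField.pow_card a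
    rw [hLc] at h4
    have h : a * (a - 1) * (a - ω) * (a - (ω + 1)) = 0 := by
      linear_combination h4 + a * (a - 1) * hω2 - a * (a - 1) * (a + ω * a + 1) * h2L
    rcases mul_eq_zero.mp h with h | h
    · rcases mul_eq_zero.mp h with h | h
      · rcases mul_eq_zero.mp h with h | h
        · exact Or.inl h
        · exact Or.inr (Or.inl (sub_eq_zero.mp h))
      · exact Or.inr (Or.inr (Or.inl (sub_eq_zero.mp h)))
    · exact Or.inr (Or.inr (Or.inr (sub_eq_zero.mp h)))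
  have hE' : ∀ a : L, a = 0 ∨ a = 1 ∨ a = ω + 1 ∨ a = ω + 1 + 1 := by
    intro a
    rcases hE a with h | h | h | h
    · exact Or.inl h
    · exact Or.inr (Or.inl h)
    · refine Or.inr (Or.inr (Or.inr ?_))
      rw [h, add_assoc, h2L, add_zero]
    · exact Or.inr (Or.inr (Or.inl h))
  -- multiplication by `ω` lies in `c.M`
  obtain ⟨Ω, hΩ⟩ : ∃ Ω : V 2 L ≃ₗ[L] V 2 L, ∀ x, Ω x = ω • x :=
    ⟨LinearEquiv.smulOfNeZero L (V 2 L) ω hω0, fun x => rfl⟩
  have hΩM : Ω.restrictScalars F ∈ c.M := by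
    apply c.hsub
    have hu : IsUnit (LinearMap.det (Ω : V 2 L →ₗ[L] V 2 L)) := LinearEquiv.isUnit_det' Ω
    have hu' : IsUnit (Algebra.norm F (LinearMap.det (Ω : V 2 L →ₗ[L] V 2 L))) :=
      hu.map (Algebra.norm F)
    rcases hF01 (Algebra.norm F (LinearMap.det (Ω : V 2 L →ₗ[L] V 2 L))) with h | h
    · rw [h] at hu'
      exact absurd hu' not_isUnit_zero
    · exact h
  obtain ⟨h₀, hh₀def⟩ : ∃ h₀ : V 2 L ≃ₗ[F] V 2 L, h₀ = g⁻¹ * Ω.restrictScalars F * g :=
    ⟨_, rfl⟩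
  have hh₀M : h₀ ∈ c.M := by
    rw [hh₀def]
    exact c.M.mul_mem (c.M.mul_mem (c.M.inv_mem hg) hΩM) hg
  have hh₀ : ∀ x, h₀ x = g.symm (ω • g x) := by
    intro x
    rw [hh₀def, ← hΩ]
    rfl
  have hZ : ∀ x, h₀ (h₀ x) + h₀ x + x = 0 := by
    intro x
    rw [hh₀ (h₀ x), hh₀ x, g.apply_symm_apply]
    have h1 : g.symm (ω • ω • g x) + g.symm (ω • g x) + x =
        g.symm ((ω ^ 2 + ω + 1) • g x) := by
      rw [add_smul, add_smul, one_smul, map_add, map_add, g.symm_apply_apply, pow_two, mul_smul]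
    rw [h1, hω2, zero_smul, map_zero]
  have hZ' : ∀ x, h₀ (h₀ x) = h₀ x + x := by
    intro x
    apply heq
    rw [← add_assoc]
    exact hZ x
  obtain ⟨x₁, hx₁, hL₁⟩ := hZ2 F L hF hfin h₀ hZ
  by_cases hall : ∀ x, LineAt h₀ x
  swap
  · exact ⟨h₀, hh₀M, hall, x₁, hx₁, hL₁⟩
  obtain ⟨c', hc'⟩ := hSpread F L 2 le_rfl h₀ hall ω
  have hy₁ : h₀ x₁ ≠ 0 := (LinearEquiv.map_ne_zero_iff h₀).mpr hx₁
  have hωx₁ : ω • x₁ ≠ 0 := smul_ne_zero hω0 hx₁
  have hc : ∀ x, h₀ (ω • x) = ω • h₀ x := by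
    rcases hE c' with h | h | h | h
    · exfalso
      have h1 := hc' x₁
      rw [h, zero_smul] at h1
      exact hωx₁ ((LinearEquiv.map_eq_zero_iff h₀).mp h1)
    · exfalso
      have h1 := hc' x₁
      rw [h, one_smul] at h1
      have h2 : ω • x₁ = x₁ := h₀.injective h1
      have h3 : (ω - 1) • x₁ = 0 := by rw [sub_smul, one_smul, h2, sub_self]
      rcases smul_eq_zero.mp h3 with h4 | h4
      · exact hω1 (sub_eq_zero.mp h4)
      · exact hx₁ h4
    · intro x
      rw [hc' x, h]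
    · exfalso
      rw [← hsq] at h
      -- `h₀` would be semilinear
      have e1 : h₀ (h₀ (ω • x₁)) = ω ^ 2 • h₀ x₁ + ω • x₁ := by
        rw [hZ', hc', h]
      have e2 : h₀ (h₀ (ω • x₁)) = ω • h₀ x₁ + ω • x₁ := by
        rw [hc' x₁, h, pow_two, mul_smul, hc', hc', h, hZ', smul_smul]
        have h5 : ω ^ 2 * ω ^ 2 = ω := by linear_combination ω * hω3
        rw [h5, smul_add]
      rw [e1] at e2
      have e3 : ω ^ 2 • h₀ x₁ = ω • h₀ x₁ := add_right_cancel e2
      have e4 : (ω ^ 2 - ω) • h₀ x₁ = 0 := by rw [sub_smul, e3, sub_self]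
      rcases smul_eq_zero.mp e4 with h4 | h4
      · have h6 : ω * (ω - 1) = 0 := by linear_combination h4
        rcases mul_eq_zero.mp h6 with h7 | h7
        · exact hω0 h7
        · exact hω1 (sub_eq_zero.mp h7)
      · exact hy₁ h4
  have hcc : ∀ x, h₀ (ω ^ 2 • x) = ω ^ 2 • h₀ x := by
    intro x
    rw [pow_two, mul_smul, hc, hc, smul_smul]
  by_cases hy : ∃ y, h₀ y + ω ^ 2 • y ≠ 0
  · obtain ⟨y, hy⟩ := hy
    have hx : h₀ (h₀ y + ω ^ 2 • y) = ω • (h₀ y + ω ^ 2 • y) := by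
      rw [map_add, hZ', hcc, smul_add, smul_smul]
      have h5 : ω * ω ^ 2 = 1 := by linear_combination hω3
      rw [h5, one_smul]
      have h6 : h₀ y + ω ^ 2 • h₀ y = ω • h₀ y := by
        have h7 : h₀ y + ω ^ 2 • h₀ y = (1 + ω ^ 2) • h₀ y := by rw [add_smul, one_smul]
        have h8 : 1 + ω ^ 2 = ω := by linear_combination hω2 - ω * h2L
        rw [h7, h8]
      rw [add_right_comm, h6]
    have hgx : g (ω • (h₀ y + ω ^ 2 • y)) = ω • g (h₀ y + ω ^ 2 • y) := by
      rw [← hx, hh₀ (h₀ y + ω ^ 2 • y), g.apply_symm_apply]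
    exact ⟨g, hg, hnot, _, hy, lineAt_of g _ ω ω hE hgx⟩
  · exfalso
    push_neg at hy
    apply hnot
    intro y
    have h1 : h₀ y = ω ^ 2 • y := heq _ _ (hy y)
    have h2 : g (ω ^ 2 • y) = ω • g y := by
      rw [← h1, hh₀ y, g.apply_symm_apply]
    rw [hsq] at h2
    exact lineAt_of g y (ω + 1) ω hE' h2

end Cfsg.Agent.Lib.Helper60.GFZ3
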