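import Cfsg.Agent.Lib.Helper60.GL4D5b

set_option autoImplicit false
set_option maxRecDepth 100000

/-!
# GL(4,2) (helper60): the subgroups that contain a fixed subgroup of order 5: outcomes

Generated data; every `decide +kernel` is a certificate check by the kernel.
-/

namespace Cfsg.Agent.Lib.Helper60.GL4

namespace D5

theorem out0 : Out 0 (gs0, M0) :=
  Or.inl (bad_sound (m := 5) cert0 cert0 (by decide +kernel))

theorem out1 : Out 0 (gs1, M1) :=
  Or.inl (bad_sound (m := 5) cert1 cert0 (by decide +kernel))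

def WL2 : List (ℕ × ℕ) := [(4680, 4680), (4699, 55880), (4730, 24136), (19547, 51322)]
theorem out2 : Out 0 (gs2, M2) :=
  Or.inr (Or.inl (Or.inl ⟨5, by norm_num, by norm_num,
    alt_iso cert2 certJ1 5 WL2 (by decide +kernel) (by decide) (by decide)⟩))

def WL3 : List (ℕ × ℕ) := [(4751, 12104), (4806, 30024), (5167, 62504), (5250, 9240), (5676, 30248), (5765, 10712)]
theorem out3 : Out 0 (gs3, M3) :=
  Or.inr (Or.inl (Or.inl ⟨7, by norm_num, by norm_num,
    alt_iso cert3 cert9 7 WL3 (by decide +kernel) (by decide) (by decide)⟩))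

def WL4 : List (ℕ × ℕ) := [(4750, 10056), (4805, 47432), (5258, 9272), (5286, 29784), (5772, 9080), (5795, 48536)]
theorem out4 : Out 0 (gs4, M4) :=
  Or.inr (Or.inl (Or.inl ⟨7, by norm_num, by norm_num,
    alt_iso cert4 cert7 7 WL4 (by decide +kernel) (by decide) (by decide)⟩))

def WL5 : List (ℕ × ℕ) := [(4749, 11080), (4807, 64840), (5263, 9464), (5282, 13336), (5771, 12216), (5797, 63960)]
theorem out5 : Out 0 (gs5, M5) :=
  Or.inr (Or.inl (Or.inl ⟨7, by norm_num, by norm_num,
    alt_iso cert5 cert7 7 WL5 (by decide +kernel) (by decide) (by decide)⟩))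

def WL6 : List (ℕ × ℕ) := [(4680, 4680), (4699, 55880), (4941, 45768), (35439, 36555)]
theorem out6 : Out 0 (gs6, M6) :=
  Or.inr (Or.inl (Or.inl ⟨5, by norm_num, by norm_num,
    alt_iso cert6 certJ4 5 WL6 (by decide +kernel) (by decide) (by decide)⟩))

def WL7 : List (ℕ × ℕ) := [(4941, 45768), (5161, 37928), (5418, 15400), (5672, 5672), (5931, 48680)]
theorem out7 : Out 0 (gs7, M7) :=
  Or.inr (Or.inl (Or.inl ⟨6, by norm_num, by norm_num,
    alt_iso cert7 cert2 6 WL7 (by decide +kernel) (by decide) (by decide)⟩))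

theorem out8 : Out 0 (gs8, M8) :=
  Or.inl (bad_sound (m := 5) cert8 cert0 (by decide +kernel))

def WL9 : List (ℕ × ℕ) := [(4999, 9672), (7242, 25208), (7524, 53560), (7750, 21048), (8043, 58744)]
theorem out9 : Out 0 (gs9, M9) :=
  Or.inr (Or.inl (Or.inl ⟨6, by norm_num, by norm_num,
    alt_iso cert9 cert2 6 WL9 (by decide +kernel) (by decide) (by decide)⟩))

def WL10 : List (ℕ × ℕ) := [(4681, 37448), (4682, 21064), (4683, 53832), (4684, 12872), (4685, 45640), (4686, 29256), (4687, 62024)]
theorem out10 : Out 0 (DT.gs, DT.M) :=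
  Or.inr (Or.inl (Or.inl ⟨8, by norm_num, by norm_num,
    alt_iso DT.cert cert3 8 WL10 (by decide +kernel) (by decide) (by decide)⟩))

def WL11 : List (ℕ × ℕ) := [(5066, 57288), (6250, 18264), (6475, 49752), (6723, 53912), (7011, 23448)]
theorem out11 : Out 0 (gs11, M11) :=
  Or.inr (Or.inl (Or.inl ⟨6, by norm_num, by norm_num,
    alt_iso cert11 cert2 6 WL11 (by decide +kernel) (by decide) (by decide)⟩))

def WL12 : List (ℕ × ℕ) := [(4680, 4680), (4699, 55880), (12951, 59724), (12966, 25932)]
theorem out12 : Out 0 (gs12, M12) :=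
  Or.inr (Or.inl (Or.inl ⟨5, by norm_num, by norm_num,
    alt_iso cert12 certJ7 5 WL12 (by decide +kernel) (by decide) (by decide)⟩))

def WL13 : List (ℕ × ℕ) := [(4680, 4680), (8068, 8696), (9359, 9359), (9626, 40843)]
theorem out13 : Out 0 (gs13, M13) :=
  Or.inr (Or.inl (Or.inl ⟨5, by norm_num, by norm_num,
    alt_iso cert13 certJ8 5 WL13 (by decide +kernel) (by decide) (by decide)⟩))

theorem out14 : Out 0 (gs14, M14) :=
  Or.inl (bad_sound (m := 5) cert14 cert0 (by decide +kernel))

theorem out15 : Out 0 (gs15, M15) :=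
  Or.inl (bad_sound (m := 3) cert15 certN9 (by decide +kernel))

theorem out16 : Out 0 (gs16, M16) :=
  Or.inl (bad_sound (m := 3) cert16 certN9 (by decide +kernel))

theorem out17 : Out 0 (gs17, M17) :=
  Or.inl (bad_sound (m := 5) cert17 cert0 (by decide +kernel))

def WL18 : List (ℕ × ℕ) := [(4680, 4680), (4699, 55880), (4730, 24136), (18650, 18526)]
theorem out18 : Out 0 (gs18, M18) :=
  Or.inr (Or.inl (Or.inr (Or.inl (
    sym_iso cert18 certJ10 5 WL18 (by decide +kernel) (by decide) (by decide)))))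

def WL19 : List (ℕ × ℕ) := [(4699, 55880), (4713, 38472), (4730, 24136), (18613, 18681)]
theorem out19 : Out 0 (gs19, M19) :=
  Or.inr (Or.inl (Or.inr (Or.inl (
    sym_iso cert19 certJ11 5 WL19 (by decide +kernel) (by decide) (by decide)))))

theorem out20 : Out 0 (gs20, M20) :=
  Or.inl (bad_sound (m := 3) cert20 certN9 (by decide +kernel))

def WL21 : List (ℕ × ℕ) := [(4699, 55880), (4713, 38472), (4730, 24136), (18599, 18543)]
theorem out21 : Out 0 (gs21, M21) :=
  Or.inr (Or.inl (Or.inr (Or.inl (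
    sym_iso cert21 certJ12 5 WL21 (by decide +kernel) (by decide) (by decide)))))

def WL22 : List (ℕ × ℕ) := [(4680, 4680), (4699, 55880), (4941, 45768), (33483, 35405)]
theorem out22 : Out 0 (gs22, M22) :=
  Or.inr (Or.inl (Or.inr (Or.inl (
    sym_iso cert22 certJ13 5 WL22 (by decide +kernel) (by decide) (by decide)))))

def WL23 : List (ℕ × ℕ) := [(4681, 37448), (5160, 5160), (5161, 37928), (5672, 5672), (5673, 38440)]
theorem out23 : Out 0 (gs23, M23) :=
  Or.inr (Or.inl (Or.inr (Or.inr (Or.inl (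
    sym_iso cert23 cert18 6 WL23 (by decide +kernel) (by decide) (by decide))))))

theorem out24 : Out 0 (gs24, M24) :=
  Or.inl (bad_sound (m := 3) cert24 certN9 (by decide +kernel))

def WL25 : List (ℕ × ℕ) := [(4682, 21064), (7238, 25144), (7242, 25208), (7750, 21048), (7752, 4728)]
theorem out25 : Out 0 (gs25, M25) :=
  Or.inr (Or.inl (Or.inr (Or.inr (Or.inl (
    sym_iso cert25 cert19 6 WL25 (by decide +kernel) (by decide) (by decide))))))

def WL26 : List (ℕ × ℕ) := [(4683, 53832), (6243, 19352), (6250, 18264), (6723, 53912), (6728, 4696)]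
theorem out26 : Out 0 (gs26, M26) :=
  Or.inr (Or.inl (Or.inr (Or.inr (Or.inl (
    sym_iso cert26 cert21 6 WL26 (by decide +kernel) (by decide) (by decide))))))

def WL27 : List (ℕ × ℕ) := [(4683, 53832), (6467, 49816), (12950, 58700), (12951, 59724)]
theorem out27 : Out 0 (gs27, M27) :=
  Or.inr (Or.inl (Or.inr (Or.inl (
    sym_iso cert27 certJ17 5 WL27 (by decide +kernel) (by decide) (by decide)))))

def WL28 : List (ℕ × ℕ) := [(4680, 4680), (8068, 8696), (9355, 9355), (9626, 40843)]
theorem out28 : Out 0 (gs28, M28) :=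
  Or.inr (Or.inl (Or.inr (Or.inl (
    sym_iso cert28 certJ18 5 WL28 (by decide +kernel) (by decide) (by decide)))))

theorem out29 : Out 0 (gs29, M29) :=
  Or.inl (bad_sound (m := 3) cert29 certN9 (by decide +kernel))

theorem outs : ∀ q ∈ fam, Out 0 q := by
  unfold fam
  exact forall_cons out0 (forall_cons out1 (forall_cons out2 (forall_cons out3 (forall_cons out4 (forall_cons out5 (forall_cons out6 (forall_cons out7 (forall_cons out8 (forall_cons out9 (forall_cons out10 (forall_cons out11 (forall_cons out12 (forall_cons out13 (forall_cons out14 (forall_cons out15 (forall_cons out16 (forall_cons out17 (forall_cons out18 (forall_cons out19 (forall_cons out20 (forall_cons out21 (forall_cons out22 (forall_cons out23 (forall_cons out24 (forall_cons out25 (forall_cons out26 (forall_cons out27 (forall_cons out28 (forall_cons out29 (forall_nil))))))))))))))))))))))))))))))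

theorem final (H : Subgroup G) (hpH : 5 ∣ Nat.card H)
    (hO : Cfsg.pPrimeCore 2 ↥H = ⊥) (hO2 : Cfsg.pCore 2 ↥H = ⊥) : Good H ∨ 0 ∣ Nat.card H := by
  have : Fact (Nat.Prime 5) := ⟨by norm_num⟩
  exact final_of_fam 5 0 (by norm_num) 4699 fam M0 mem0 cert0.card steps outs H hpH hO hO2

end D5

end Cfsg.Agent.Lib.Helper60.GL4
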