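import Mathlib
import Cfsg.Agent.Lib.Helper96.HallDStmt

/-!
# S2534, piece `X7`: a `{2, 3}`-subgroup of `A₇` without invariant `3`-set

The group is a copy of `A₄` acting on the six edges of a tetrahedron (and fixing the point `6`).
-/

set_option autoImplicit false

namespace Cfsg.Agent.Lib.Helper60.HDX7

open Equiv Cfsg.Agent.Lib.Helper96.HallConjStmt Cfsg.Agent.Lib.Helper96.HallDStmt
open scoped Pointwise

/-- `(0 1 2)(3 4 5)` -/
def a : Perm (Fin 7) := swap 0 1 * swap 1 2 * (swap 3 4 * swap 4 5)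

/-- `(1 4)(2 5)` -/
def b : Perm (Fin 7) := swap 1 4 * swap 2 5

/-- the elements `a ^ i * b ^ e * a ^ j` -/
def w (t : Fin 3 × Fin 2 × Fin 3) : Perm (Fin 7) :=
  a ^ (t.1 : ℕ) * b ^ (t.2.1 : ℕ) * a ^ (t.2.2 : ℕ)

theorem hmul : ∀ s t : Fin 3 × Fin 2 × Fin 3, ∃ r : Fin 3 × Fin 2 × Fin 3, w r = w s * w t := by
  decide +kernel

theorem hinv : ∀ s : Fin 3 × Fin 2 × Fin 3, ∃ r : Fin 3 × Fin 2 × Fin 3, w r = (w s)⁻¹ := by
  decide +kernel

theorem hcard : (Finset.univ.image w).card = 12 := by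
  decide +kernel

theorem htrans : ∀ x y : Fin 7, x ≠ 6 → y ≠ 6 → ∃ t : Fin 3 × Fin 2 × Fin 3, w t x = y := by
  decide +kernel

/-- the group -/
def T : Subgroup (Perm (Fin 7)) where
  carrier := Set.range w
  mul_mem' := by
    rintro _ _ ⟨s, rfl⟩ ⟨t, rfl⟩
    exact hmul s t
  one_mem' := ⟨(0, 0, 0), by simp [w]⟩
  inv_mem' := by
    rintro _ ⟨s, rfl⟩
    exact hinv s

theorem a_mem : a ∈ alternatingGroup (Fin 7) := by
  rw [Equiv.Perm.mem_alternatingGroup]
  unfold a
  rw [Equiv.Perm.sign_mul, Equiv.Perm.sign_mul, Equiv.Perm.sign_mul,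
    Equiv.Perm.sign_swap (by decide), Equiv.Perm.sign_swap (by decide),
    Equiv.Perm.sign_swap (by decide), Equiv.Perm.sign_swap (by decide)]
  decide

theorem b_mem : b ∈ alternatingGroup (Fin 7) := by
  rw [Equiv.Perm.mem_alternatingGroup]
  unfold b
  rw [Equiv.Perm.sign_mul, Equiv.Perm.sign_swap (by decide), Equiv.Perm.sign_swap (by decide)]
  decide

theorem T_le : T ≤ alternatingGroup (Fin 7) := by
  rintro _ ⟨t, rfl⟩
  exact mul_mem (mul_mem (pow_mem a_mem _) (pow_mem b_mem _)) (pow_mem a_mem _)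

theorem card_T : Nat.card T = 12 := by
  have h1 : ((T : Subgroup (Perm (Fin 7))) : Set (Perm (Fin 7))) =
      ((Finset.univ.image w : Finset (Perm (Fin 7))) : Set (Perm (Fin 7))) := by
    rw [Finset.coe_image, Finset.coe_univ, Set.image_univ]
    rfl
  have h2 : Nat.card T = ((T : Subgroup (Perm (Fin 7))) : Set (Perm (Fin 7))).ncard := rfl
  rw [h2, h1, Set.ncard_coe_finset, hcard]

theorem main : Cfsg.Agent.Lib.Helper96.HallDStmt.X7' := by
  intro _ π h2 h3
  refine ⟨T.subgroupOf (alternatingGroup (Fin 7)), ?_, ?_⟩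
  · intro p hp hdvd
    have hc : Nat.card (T.subgroupOf (alternatingGroup (Fin 7))) = 12 := by
      rw [Nat.card_congr (Subgroup.subgroupOfEquivOfLe T_le).toEquiv, card_T]
    rw [hc] at hdvd
    have hle : p ≤ 12 := Nat.le_of_dvd (by norm_num) hdvd
    interval_cases p <;>
      first
        | exact h2
        | exact h3
        | (exfalso; revert hp; decide)
        | (exfalso; revert hdvd; decide)
  · intro Δ hΔ
    by_contra hcon
    have hcon' : ∀ g ∈ T.subgroupOf (alternatingGroup (Fin 7)), (g : Perm (Fin 7)) • Δ = Δ := by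
      intro g hg
      by_contra hne
      exact hcon ⟨g, hg, hne⟩
    have hinvΔ : ∀ t, w t • Δ = Δ := by
      intro t
      exact hcon' ⟨w t, T_le ⟨t, rfl⟩⟩ (Subgroup.mem_subgroupOf.2 ⟨t, rfl⟩)
    by_cases hx : ∃ x ∈ Δ, x ≠ 6
    · obtain ⟨x, hxΔ, hx6⟩ := hx
      have hsub : ({6} : Set (Fin 7))ᶜ ⊆ Δ := by
        intro y hy
        have hy6 : y ≠ 6 := hy
        obtain ⟨t, ht⟩ := htrans x y hx6 hy6
        rw [← hinvΔ t, ← ht]
        exact Set.smul_mem_smul_set hxΔ
      have h6 : (({6} : Set (Fin 7))ᶜ).ncard = 6 := by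
        rw [Set.ncard_compl, Set.ncard_singleton]
        simp
      have := Set.ncard_le_ncard hsub (Set.toFinite Δ)
      omega
    · have hsub : Δ ⊆ {6} := by
        intro x hxΔ
        by_contra hne
        exact hx ⟨x, hxΔ, hne⟩
      have := Set.ncard_le_ncard hsub (Set.toFinite _)
      rw [Set.ncard_singleton] at this
      omega

end Cfsg.Agent.Lib.Helper60.HDX7
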