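import Mathlib
import Cfsg.Agent.Lib.Helper96.HallDStmt

/-!
# S2534, piece `XP`: for `n ≥ 5` prime, a `{2, 3}`-subgroup of `A_n` moving every point

The group of the even permutations preserving the fibres of a map `f` with fibres of sizes
`2, …, 2, 3`.
-/

set_option autoImplicit false

namespace Cfsg.Agent.Lib.Helper60.HDXP

open Equiv Cfsg.Agent.Lib.Helper96.HallConjStmt Cfsg.Agent.Lib.Helper96.HallDStmt
open scoped Pointwise

theorem abstract_core (hPINV : PINV) (n : ℕ) (f : Fin n → ℕ)
    (h1 : ∀ c : ℕ, ({i : Fin n | f i = c} : Set (Fin n)).ncard ≤ 3)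
    (h2 : ∀ x : Fin n, ∃ x' : Fin n, x' ≠ x ∧ f x' = f x)
    (h3 : ∀ x : Fin n, ∃ y y' : Fin n, y ≠ y' ∧ f y = f y' ∧ f y ≠ f x)
    (π : Set ℕ) (hπ2 : 2 ∈ π) (hπ3 : 3 ∈ π) :
    ∃ L : Subgroup ↥(alternatingGroup (Fin n)), Cfsg.IsPiSubgroup π L ∧
      ∀ x : Fin n, ∃ g ∈ L, (g : Perm (Fin n)) • x ≠ x := by
  let L₀ : Subgroup (Perm (Fin n)) :=
    { carrier := {g | ∀ i, f (g i) = f i}
      mul_mem' := by
        intro a b ha hb i
        show f (a (b i)) = f i
        rw [ha, hb]
      one_mem' := fun i => rfl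
      inv_mem' := by
        intro a ha i
        have h := ha (a⁻¹ i)
        have h' : a (a⁻¹ i) = i := by
          show (a * a⁻¹) i = i
          rw [mul_inv_cancel]
          rfl
        rw [h'] at h
        exact h.symm }
  have hL₀ : ∀ g : Perm (Fin n), g ∈ L₀ ↔ ∀ i, f (g i) = f i := fun g => Iff.rfl
  refine ⟨L₀.subgroupOf (alternatingGroup (Fin n)), ?_, ?_⟩
  · intro p hp hdvd
    by_contra hpπ
    have : Fact p.Prime := ⟨hp⟩
    obtain ⟨g, hg⟩ := exists_prime_orderOf_dvd_card' p hdvd
    have hp5 : 3 < p := by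
      have h2' : p ≠ 2 := fun h => hpπ (by rw [h]; exact hπ2)
      have h3' : p ≠ 3 := fun h => hpπ (by rw [h]; exact hπ3)
      have := hp.two_le
      omega
    have hgp : ((g : ↥(alternatingGroup (Fin n))) : Perm (Fin n)) ^ p = 1 := by
      have h1' : g ^ p = 1 := by rw [← hg]; exact pow_orderOf_eq_one g
      have := congrArg (fun z : ↥(L₀.subgroupOf (alternatingGroup (Fin n))) =>
        ((z : ↥(alternatingGroup (Fin n))) : Perm (Fin n))) h1'
      simpa using this
    have hgL : ((g : ↥(alternatingGroup (Fin n))) : Perm (Fin n)) ∈ L₀ :=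
      Subgroup.mem_subgroupOf.1 g.2
    have hfix : ∀ x, ((g : ↥(alternatingGroup (Fin n))) : Perm (Fin n)) x = x := by
      intro x
      apply hPINV (Fin n) _ p hp hgp {i | f i = f x}
      · intro y hy
        show f (((g : ↥(alternatingGroup (Fin n))) : Perm (Fin n)) y) = f x
        rw [(hL₀ _).1 hgL y]
        exact hy
      · exact lt_of_le_of_lt (h1 (f x)) hp5
      · rfl
    have hg1 : g = 1 := by
      apply Subtype.ext
      apply Subtype.ext
      exact Perm.ext hfix
    rw [hg1, orderOf_one] at hg
    exact hp.one_lt.ne hg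
  · intro x
    obtain ⟨x', hx', hfx'⟩ := h2 x
    obtain ⟨y, y', hyy', hfy, hfyx⟩ := h3 x
    have hs : ∀ (a b : Fin n), f a = f b → ∀ j, f (swap a b j) = f j := by
      intro a b hab j
      rw [Equiv.swap_apply_def]
      split_ifs with h1 h2
      · rw [h1, hab]
      · rw [h2, hab]
      · rfl
    have hmem0 : swap x x' * swap y y' ∈ L₀ := by
      rw [hL₀]
      intro i
      show f ((swap x x') ((swap y y') i)) = f i
      rw [hs x x' hfx'.symm, hs y y' hfy]
    have hmemA : swap x x' * swap y y' ∈ alternatingGroup (Fin n) := by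
      rw [Equiv.Perm.mem_alternatingGroup, Equiv.Perm.sign_mul, Equiv.Perm.sign_swap hx'.symm,
        Equiv.Perm.sign_swap hyy']
      decide
    refine ⟨⟨swap x x' * swap y y', hmemA⟩, Subgroup.mem_subgroupOf.2 hmem0, ?_⟩
    show (swap x x' * swap y y') x ≠ x
    have hxy : x ≠ y := fun h => hfyx (by rw [h])
    have hxy' : x ≠ y' := fun h => hfyx (by rw [hfy, h])
    rw [Perm.mul_apply, Equiv.swap_apply_of_ne_of_ne hxy hxy', Equiv.swap_apply_left]
    exact hx'

theorem main : Cfsg.Agent.Lib.Helper96.HallDStmt.XP' := by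
  intro hPINV n hn h5 π h2 h3
  obtain ⟨m, hm⟩ : ∃ m, n = 2 * m + 3 := by
    rcases hn.eq_two_or_odd' with h | h
    · omega
    · obtain ⟨k, hk⟩ := h
      exact ⟨k - 1, by omega⟩
  have hm1 : 1 ≤ m := by omega
  subst hm
  apply abstract_core hPINV (2 * m + 3) (fun i => if i.val < 2 * m then i.val / 2 else m)
  · intro c
    have hsub : ∀ i ∈ ({i : Fin (2 * m + 3) | (if i.val < 2 * m then i.val / 2 else m) = c} :
        Set (Fin (2 * m + 3))),
        (i : ℕ) ∈ ((Finset.Icc (2 * c) (2 * c + 2) : Finset ℕ) : Set ℕ) := by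
      intro i hi
      have hi : (if i.val < 2 * m then i.val / 2 else m) = c := hi
      rw [Finset.mem_coe, Finset.mem_Icc]
      have := i.2
      split_ifs at hi with h <;> omega
    have := Set.ncard_le_ncard_of_injOn (fun i : Fin (2 * m + 3) => (i : ℕ)) hsub
      (fun a _ b _ hab => Fin.ext hab) (Finset.finite_toSet _)
    rw [Set.ncard_coe_finset, Nat.card_Icc] at this
    omega
  · intro x
    have hx := x.2
    by_cases hlast : x.val = 2 * m + 2
    · refine ⟨⟨2 * m + 1, by omega⟩, ?_, ?_⟩
      · intro h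
        have := congrArg Fin.val h
        dsimp only at this
        omega
      · dsimp only
        split_ifs <;> omega
    · by_cases hev : x.val % 2 = 0
      · refine ⟨⟨x.val + 1, by omega⟩, ?_, ?_⟩
        · intro h
          have := congrArg Fin.val h
          dsimp only at this
          omega
        · dsimp only
          split_ifs <;> omega
      · refine ⟨⟨x.val - 1, by omega⟩, ?_, ?_⟩
        · intro h
          have := congrArg Fin.val h
          dsimp only at this
          omega
        · dsimp only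
          split_ifs <;> omega
  · intro x
    have hx := x.2
    by_cases hx0 : x.val < 2
    · refine ⟨⟨2 * m + 1, by omega⟩, ⟨2 * m + 2, by omega⟩, ?_, ?_, ?_⟩
      · intro h
        have := congrArg Fin.val h
        dsimp only at this
        omega
      · dsimp only
        split_ifs <;> omega
      · dsimp only
        split_ifs <;> omega
    · refine ⟨⟨0, by omega⟩, ⟨1, by omega⟩, ?_, ?_, ?_⟩
      · intro h
        have := congrArg Fin.val h
        dsimp only at this
        omega
      · dsimp only
        split_ifs <;> omega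
      · dsimp only
        split_ifs <;> omega
  · exact h2
  · exact h3

end Cfsg.Agent.Lib.Helper60.HDXP
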