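import Mathlib
import Cfsg.Agent.Lib.Helper40.HPStmt
import Cfsg.Agent.Lib.Helper44.NegPairs
import Cfsg.Agent.Lib.Helper90.EPNEGSQFIXB1

set_option autoImplicit false

/-!
S5974 piece NEGSQFIX1 (helper60).  Generic statement `build`: `Q` a quadratic form on `V`,
`2 ≠ 0`, `ι * ι = -1`, `g` linear with `Q (g v) = Q v`, `g (g v) = -v`; then every `g`-invariant
nondegenerate `W` with `2 k ≤ dim W` contains a `g`-invariant nondegenerate `W'` of dimension
`2 k` with a totally singular subspace of dimension `k` (orthogonal sum of `k` invariant planes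
`⟨v, g v⟩`, `Q v ≠ 0`, each containing the singular vector `v + ι g v`).
-/

namespace Cfsg.Agent.Lib.Helper60.HPNEGSQFIX1

open Module QuadraticMap
open Cfsg.Agent.Lib.Helper90.EPNEGSQFIXB1

universe u

section gen

variable {F : Type u} [Field F] {V : Type*} [AddCommGroup V] [Module F V]

variable (Q : QuadraticForm F V) (g : V →ₗ[F] V)

theorem build [FiniteDimensional F V] (h2 : (2 : F) ≠ 0) (ι : F) (hι : ι * ι = -1)
    (hgQ : ∀ v, Q (g v) = Q v) (hgg : ∀ v, g (g v) = -v) :
    ∀ (k : ℕ) (W : Submodule F V), 2 * k ≤ finrank F ↥W → (∀ w ∈ W, g w ∈ W) →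
      (∀ w ∈ W, w ≠ 0 → ∃ x ∈ W, polar Q x w ≠ 0) →
      ∃ W' U : Submodule F V, W' ≤ W ∧ U ≤ W' ∧ finrank F ↥W' = 2 * k ∧
        (∀ w ∈ W', g w ∈ W') ∧ (∀ w ∈ W', w ≠ 0 → ∃ x ∈ W', polar Q x w ≠ 0) ∧
        (∀ u ∈ U, Q u = 0) ∧ finrank F ↥U = k := by
  intro k
  induction k with
  | zero =>
    intro W _ _ _
    refine ⟨⊥, ⊥, bot_le, le_rfl, by simp, ?_, ?_, ?_, by simp⟩
    · intro w hw
      rw [(Submodule.mem_bot F).mp hw, map_zero]
      exact Submodule.zero_mem _
    · intro w hw hw0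
      exact absurd ((Submodule.mem_bot F).mp hw) hw0
    · intro u hu
      rw [(Submodule.mem_bot F).mp hu, map_zero]
  | succ k ih =>
    intro W hW hinv hnd
    have hWne : W ≠ ⊥ := by
      rintro rfl
      rw [finrank_bot] at hW
      omega
    obtain ⟨v, hvW, hQv⟩ := exists_nonsing Q hWne hnd
    obtain ⟨W₁, hW₁W, hinv₁, hnd₁, hfr₁, horth⟩ := step Q g h2 hgQ hgg hinv hnd hvW hQv
    obtain ⟨W₂, U₂, hW₂, hU₂, hfr₂, hinv₂, hnd₂, hts₂, hfrU₂⟩ :=
      ih W₁ (by omega) hinv₁ hnd₁
    have hc : (2 : F) * Q v ≠ 0 := mul_ne_zero h2 hQv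
    have hvv : polar Q v v = 2 * Q v := polar_self' Q v
    have hgv : polar Q v (g v) = 0 := polar_self_g Q g h2 hgQ hgg v
    have hgv' : polar Q (g v) v = 0 := by rw [QuadraticMap.polar_comm]; exact hgv
    have hgvgv : polar Q (g v) (g v) = 2 * Q v := by rw [polar_self' Q (g v), hgQ]
    have ho1 : ∀ y ∈ W₂, polar Q v y = 0 := fun y hy => (horth y (hW₂ hy)).1
    have ho2 : ∀ y ∈ W₂, polar Q (g v) y = 0 := fun y hy => (horth y (hW₂ hy)).2
    have ho1' : ∀ y ∈ W₂, polar Q y v = 0 := fun y hy => by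
      rw [QuadraticMap.polar_comm]; exact ho1 y hy
    have ho2' : ∀ y ∈ W₂, polar Q y (g v) = 0 := fun y hy => by
      rw [QuadraticMap.polar_comm]; exact ho2 y hy
    have hv_notin : v ∉ W₂ := fun h => hc (by rw [← hvv]; exact ho1 v h)
    have hgv_notin : g v ∉ W₂ ⊔ Submodule.span F {v} := by
      intro h
      obtain ⟨y, hy, t, ht, hyt⟩ := Submodule.mem_sup.mp h
      obtain ⟨c, rfl⟩ := Submodule.mem_span_singleton.mp ht
      have h0 : polar Q (g v) (y + c • v) = 0 := by
        rw [QuadraticMap.polar_add_right, QuadraticMap.polar_smul_right, ho2 y hy, hgv']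
        simp
      rw [hyt, hgvgv] at h0
      exact hc h0
    have hvW' : v ∈ (W₂ ⊔ Submodule.span F {v}) ⊔ Submodule.span F {g v} :=
      Submodule.mem_sup_left (Submodule.mem_sup_right (Submodule.mem_span_singleton_self v))
    have hgvW' : g v ∈ (W₂ ⊔ Submodule.span F {v}) ⊔ Submodule.span F {g v} :=
      Submodule.mem_sup_right (Submodule.mem_span_singleton_self (g v))
    have hW₂W' : W₂ ≤ (W₂ ⊔ Submodule.span F {v}) ⊔ Submodule.span F {g v} :=
      le_sup_left.trans le_sup_left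
    have hsing : Q (v + ι • g v) = 0 := by
      rw [QuadraticMap.map_add (⇑Q) v (ι • g v), QuadraticMap.map_smul, hgQ,
        QuadraticMap.polar_smul_right, hgv, hι]
      simp
    have hpv : polar Q v (v + ι • g v) = 2 * Q v := by
      rw [QuadraticMap.polar_add_right, QuadraticMap.polar_smul_right, hgv, hvv]
      simp
    have hu_notin : v + ι • g v ∉ U₂ := by
      intro h
      have h0 := ho1 _ (hU₂ h)
      rw [hpv] at h0
      exact hc h0
    refine ⟨(W₂ ⊔ Submodule.span F {v}) ⊔ Submodule.span F {g v},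
      U₂ ⊔ Submodule.span F {v + ι • g v}, ?_, ?_, ?_, ?_, ?_, ?_, ?_⟩
    · refine sup_le (sup_le (hW₂.trans hW₁W) ?_) ?_
      · exact (Submodule.span_singleton_le_iff_mem v W).mpr hvW
      · exact (Submodule.span_singleton_le_iff_mem (g v) W).mpr (hinv v hvW)
    · refine sup_le (hU₂.trans hW₂W') ?_
      rw [Submodule.span_singleton_le_iff_mem]
      exact Submodule.add_mem _ hvW' (Submodule.smul_mem _ _ hgvW')
    · rw [finrank_sup_span _ hgv_notin, finrank_sup_span _ hv_notin, hfr₂]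
      ring
    · intro w hw
      obtain ⟨s, hs, t, ht, rfl⟩ := Submodule.mem_sup.mp hw
      obtain ⟨y, hy, t', ht', rfl⟩ := Submodule.mem_sup.mp hs
      obtain ⟨a, rfl⟩ := Submodule.mem_span_singleton.mp ht'
      obtain ⟨b, rfl⟩ := Submodule.mem_span_singleton.mp ht
      rw [map_add, map_add, map_smul, map_smul, hgg]
      refine Submodule.add_mem _ (Submodule.add_mem _ (hW₂W' (hinv₂ y hy)) ?_) ?_
      · exact Submodule.smul_mem _ _ hgvW'
      · exact Submodule.smul_mem _ _ (Submodule.neg_mem _ hvW')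
    · intro w hw hw0
      obtain ⟨s, hs, t, ht, rfl⟩ := Submodule.mem_sup.mp hw
      obtain ⟨y, hy, t', ht', rfl⟩ := Submodule.mem_sup.mp hs
      obtain ⟨a, rfl⟩ := Submodule.mem_span_singleton.mp ht'
      obtain ⟨b, rfl⟩ := Submodule.mem_span_singleton.mp ht
      by_cases hy0 : y = 0
      · subst hy0
        by_cases ha : a = 0
        · subst ha
          have hb : b ≠ 0 := by
            rintro rfl
            exact hw0 (by simp)
          refine ⟨g v, hgvW', ?_⟩
          simp only [QuadraticMap.polar_add_right, QuadraticMap.polar_smul_right,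
            QuadraticMap.polar_zero_right, hgv', hgvgv, smul_eq_mul, zero_smul, add_zero,
            zero_add, mul_zero]
          exact mul_ne_zero hb hc
        · refine ⟨v, hvW', ?_⟩
          simp only [QuadraticMap.polar_add_right, QuadraticMap.polar_smul_right,
            QuadraticMap.polar_zero_right, hgv, hvv, smul_eq_mul, add_zero,
            zero_add, mul_zero]
          exact mul_ne_zero ha hc
      · obtain ⟨x, hx, hxy⟩ := hnd₂ y hy hy0
        refine ⟨x, hW₂W' hx, ?_⟩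
        simp only [QuadraticMap.polar_add_right, QuadraticMap.polar_smul_right,
          ho1' x hx, ho2' x hx, smul_eq_mul, add_zero, mul_zero]
        exact hxy
    · apply ts_sup_span Q hts₂ hsing
      intro s hs
      rw [QuadraticMap.polar_add_right, QuadraticMap.polar_smul_right, ho1' s (hU₂ hs),
        ho2' s (hU₂ hs)]
      simp
    · rw [finrank_sup_span _ hu_notin, hfrU₂]

end gen

open Cfsg.Agent.Lib.Helper40.HPStmt in
theorem main : Cfsg.Agent.Lib.Helper40.HPStmt.NegSqFix1.{u} := by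
  intro F _ _ hcard d m hd hm2 hme hmd x hx hxx
  classical
  have h2 : (2 : F) ≠ 0 := by
    intro h
    have hc := @ringChar.eq F _ 2 (CharTwo.of_one_ne_zero_of_two_eq_zero one_ne_zero h)
    have := FiniteField.even_card_iff_char_two.mp hc
    omega
  obtain ⟨ι, hι⟩ : ∃ ι : F, ι * ι = -1 := by
    have h := (FiniteField.isSquare_neg_one_iff (F := F)).mpr (by omega)
    obtain ⟨ι, hι⟩ := h
    exact ⟨ι, hι.symm⟩
  obtain ⟨Q, hQ⟩ : ∃ Q : QuadraticForm F (Cfsg.Agent.Lib.Helper94.OPStmt.P d → F),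
      Q = Cfsg.Agent.Lib.Helper44.NegPairs.plusQ d F := ⟨_, rfl⟩
  have hQc : ∀ v, Q v = Cfsg.quadFormPlus d F v := fun v => by rw [hQ]; rfl
  have hpol : ∀ v w, polar Q v w = polar (Cfsg.quadFormPlus d F) v w := fun v w => by
    rw [hQ]; rfl
  obtain ⟨g, hg⟩ : ∃ g : (Cfsg.Agent.Lib.Helper94.OPStmt.P d → F) →ₗ[F]
      (Cfsg.Agent.Lib.Helper94.OPStmt.P d → F),
      g = Matrix.toLin' (x : Matrix (Cfsg.Agent.Lib.Helper94.OPStmt.P d)
        (Cfsg.Agent.Lib.Helper94.OPStmt.P d) F) := ⟨_, rfl⟩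
  have hgQ : ∀ v, Q (g v) = Q v := by
    intro v
    rw [hQc, hQc, hg, Matrix.toLin'_apply]
    exact hx v v
  have hgg : ∀ v, g (g v) = -v := by
    intro v
    rw [hg, Matrix.toLin'_apply, Matrix.toLin'_apply, Matrix.mulVec_mulVec, hxx,
      Matrix.neg_mulVec, Matrix.one_mulVec]
  have hsep := Cfsg.Agent.Lib.Helper44.NegPairs.sep_plusQ (F := F) d
  obtain ⟨k, hk⟩ := hme
  have htop : finrank F ↥(⊤ : Submodule F (Cfsg.Agent.Lib.Helper94.OPStmt.P d → F)) = 2 * d := by
    rw [finrank_top, Module.finrank_fintype_fun_eq_card]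
    simp [Cfsg.Agent.Lib.Helper94.OPStmt.P]
    omega
  obtain ⟨W, U, -, hUW, hfrW, hinvW, hndW, htsU, hfrU⟩ := build Q g h2 ι hι hgQ hgg k ⊤
    (by rw [htop]; omega) (fun w _ => Submodule.mem_top)
    (fun w _ hw0 => by
      by_contra hcon
      push Not at hcon
      apply hw0
      apply hsep w
      intro y
      rw [← hQ, QuadraticMap.polar_comm]
      exact hcon y Submodule.mem_top)
  refine ⟨W, ⟨by rw [hfrW]; omega, ?_, U, hUW, by rw [hfrU]; omega, ?_⟩, ?_⟩
  · intro u hu hu0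
    obtain ⟨y, hy, hyu⟩ := hndW u hu hu0
    refine ⟨y, hy, ?_⟩
    rw [← hpol, QuadraticMap.polar_comm]
    exact hyu
  · intro u hu
    rw [← hQc]
    exact htsU u hu
  · rintro _ ⟨w, hw, rfl⟩
    have := hinvW w hw
    rw [hg] at this
    exact this

end Cfsg.Agent.Lib.Helper60.HPNEGSQFIX1
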