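import Cfsg.Agent.Lib.Helper60.J1Pack

set_option autoImplicit false
set_option linter.unusedVariables false

namespace Cfsg.Agent.Lib.Helper60.J1

namespace M7

/-- packed matrix product -/
def mul (A C : M7) : M7 :=
  ⟨mulVec7 A C.c0, mulVec7 A C.c1, mulVec7 A C.c2, mulVec7 A C.c3, mulVec7 A C.c4, mulVec7 A C.c5,
    mulVec7 A C.c6⟩

theorem isRed_mul (A C : M7) : (A.mul C).IsRed :=
  ⟨red_mulVec7 _ _, red_mulVec7 _ _, red_mulVec7 _ _, red_mulVec7 _ _, red_mulVec7 _ _,
    red_mulVec7 _ _, red_mulVec7 _ _⟩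

theorem col_mul (A C : M7) (j : Fin 7) : (A.mul C).col j = mulVec7 A (C.col j) := by
  fin_cases j <;> simp [col, mul]

theorem toMat_mul (A C : M7) (hA : A.IsRed) : (A.mul C).toMat = A.toMat * C.toMat := by
  ext i j
  show vec ((A.mul C).col j) i = (A.toMat * C.toMat) i j
  rw [col_mul, vec_mulVec7 A hA]
  rfl

theorem isRed_one : one.IsRed := by decide

theorem toMat_one : one.toMat = 1 := by
  ext i j
  fin_cases i <;> fin_cases j <;>
    simp [toMat, col, one, vec, dg0, dg1, dg2, dg3, dg4, dg5, dg6]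

theorem toMat_inj {A C : M7} (hA : A.IsRed) (hC : C.IsRed) (h : A.toMat = C.toMat) : A = C := by
  have hc : ∀ j, vec (A.col j) = vec (C.col j) := fun j => funext fun i => congrFun (congrFun h i) j
  obtain ⟨a0, a1, a2, a3, a4, a5, a6⟩ := hA
  obtain ⟨b0, b1, b2, b3, b4, b5, b6⟩ := hC
  have e0 := red_eq_of_vec_eq (hc 0)
  have e1 := red_eq_of_vec_eq (hc 1)
  have e2 := red_eq_of_vec_eq (hc 2)
  have e3 := red_eq_of_vec_eq (hc 3)
  have e4 := red_eq_of_vec_eq (hc 4)
  have e5 := red_eq_of_vec_eq (hc 5)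
  have e6 := red_eq_of_vec_eq (hc 6)
  simp only [col, Matrix.cons_val_zero, Matrix.cons_val_one, Matrix.cons_val] at e0 e1 e2 e3 e4 e5 e6
  rw [a0, b0] at e0; rw [a1, b1] at e1; rw [a2, b2] at e2; rw [a3, b3] at e3
  rw [a4, b4] at e4; rw [a5, b5] at e5; rw [a6, b6] at e6
  cases A; cases C; simp_all

/-- powers -/
def pow (A : M7) : ℕ → M7
  | 0 => one
  | n + 1 => A.mul (pow A n)

theorem isRed_pow (A : M7) (n : ℕ) : (A.pow n).IsRed := by
  cases n with
  | zero => exact isRed_one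
  | succ n => exact isRed_mul _ _

theorem toMat_pow (A : M7) (hA : A.IsRed) (n : ℕ) : (A.pow n).toMat = A.toMat ^ n := by
  induction n with
  | zero => simp [pow, toMat_one]
  | succ n ih => rw [pow, toMat_mul _ _ hA, ih, pow_succ']

end M7

/-! ### normal form of a line -/

/-- first nonzero coordinate -/
def lead (u : Vec) : ZMod 11 :=
  if u 0 ≠ 0 then u 0 else if u 1 ≠ 0 then u 1 else if u 2 ≠ 0 then u 2 else if u 3 ≠ 0 then u 3
  else if u 4 ≠ 0 then u 4 else if u 5 ≠ 0 then u 5 else u 6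

/-- normal form of the line through `u` -/
def normV (u : Vec) : Vec := (lead u)⁻¹ • u

theorem lead_smul (c : ZMod 11) (hc : c ≠ 0) (u : Vec) : lead (c • u) = c * lead u := by
  have : Fact (Nat.Prime 11) := ⟨by norm_num⟩
  unfold lead
  simp only [Pi.smul_apply, smul_eq_mul, ne_eq, mul_eq_zero, hc, false_or]
  split_ifs <;> rfl

theorem normV_smul (c : ZMod 11) (hc : c ≠ 0) (u : Vec) : normV (c • u) = normV u := by
  have : Fact (Nat.Prime 11) := ⟨by norm_num⟩
  unfold normV
  rw [lead_smul c hc, smul_smul, mul_inv, mul_assoc, mul_comm _ c, ← mul_assoc, inv_mul_cancel₀ hc, one_mul]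

/-- first nonzero digit -/
def leadN (v : ℕ) : ℕ :=
  if dg0 v ≠ 0 then dg0 v else if dg1 v ≠ 0 then dg1 v else if dg2 v ≠ 0 then dg2 v
  else if dg3 v ≠ 0 then dg3 v else if dg4 v ≠ 0 then dg4 v else if dg5 v ≠ 0 then dg5 v else dg6 v

/-- packed scalar multiple `c • v` -/
def scaleN (c v : ℕ) : ℕ := red (c % 11 * red v)

theorem red_scaleN (c v : ℕ) : red (scaleN c v) = scaleN c v := red_red _

theorem vec_scaleN (c v : ℕ) : vec (scaleN c v) = (c : ZMod 11) • vec v := by
  unfold scaleN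
  rw [vec_red]
  have hc11 : c % 11 < 11 := Nat.mod_lt _ (by norm_num)
  have e : c % 11 * red v = pack (c % 11 * dg0 v) (c % 11 * dg1 v) (c % 11 * dg2 v) (c % 11 * dg3 v)
      (c % 11 * dg4 v) (c % 11 * dg5 v) (c % 11 * dg6 v) := by
    unfold red pack; ring
  have b : ∀ x : ℕ, x < 11 → c % 11 * x < 1331 := by
    intro x hx
    have := Nat.mul_le_mul (Nat.le_of_lt_succ hc11) (Nat.le_of_lt_succ hx)
    omega
  rw [e, vec_pack _ _ _ _ _ _ _ (b _ (dg0_lt v)) (b _ (dg1_lt v)) (b _ (dg2_lt v)) (b _ (dg3_lt v))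
    (b _ (dg4_lt v)) (b _ (dg5_lt v)) (b _ (dg6_lt v))]
  funext i
  fin_cases i <;> simp [vec]

/-- packed normal form of a line -/
def normN (v : ℕ) : ℕ := scaleN (leadN v ^ 9) v

theorem red_normN (v : ℕ) : red (normN v) = normN v := red_scaleN _ _

theorem cast_ne_zero_iff (x : ℕ) (hx : x < 11) : ((x : ZMod 11) ≠ 0) ↔ x ≠ 0 := by
  rw [Ne, ZMod.natCast_eq_zero_iff]
  constructor
  · intro h h'; exact h (h' ▸ dvd_zero _)
  · intro h h'; exact h (Nat.eq_zero_of_dvd_of_lt h' hx)

theorem cast_leadN (v : ℕ) : ((leadN v : ℕ) : ZMod 11) = lead (vec v) := by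
  unfold leadN lead vec
  simp only [Matrix.cons_val_zero, Matrix.cons_val_one, Matrix.cons_val,
    cast_ne_zero_iff _ (dg0_lt v), cast_ne_zero_iff _ (dg1_lt v), cast_ne_zero_iff _ (dg2_lt v),
    cast_ne_zero_iff _ (dg3_lt v), cast_ne_zero_iff _ (dg4_lt v), cast_ne_zero_iff _ (dg5_lt v)]
  split_ifs <;> rfl

theorem pow9 (x : ZMod 11) : x ^ 9 = x⁻¹ := by
  have : Fact (Nat.Prime 11) := ⟨by norm_num⟩
  by_cases hx : x = 0
  · subst hx; simp
  · have h := ZMod.pow_card_sub_one_eq_one hx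
    have h2 : x ^ 9 * x = 1 := by rw [← pow_succ]; exact h
    exact eq_inv_of_mul_eq_one_left h2

theorem vec_normN (v : ℕ) : vec (normN v) = normV (vec v) := by
  unfold normN normV
  rw [vec_scaleN, Nat.cast_pow, cast_leadN, pow9]

/-! ### words -/

section Words

variable {G : Type*} [Group G] (ι : G →* Mat)

/-- evaluation of a word in a group -/
def ev (gen : ℕ → G) (w : List ℕ) : G := (w.map gen).prod

/-- packed evaluation of a word -/
def evN (genN : ℕ → M7) (w : List ℕ) : M7 := w.foldr (fun i acc => (genN i).mul acc) M7.one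

/-- packed action of a word on a packed vector -/
def actN (genN : ℕ → M7) (w : List ℕ) (v : ℕ) : ℕ := w.foldr (fun i acc => mulVec7 (genN i) acc) v

theorem isRed_evN (genN : ℕ → M7) (w : List ℕ) : (evN genN w).IsRed := by
  cases w with
  | nil => exact M7.isRed_one
  | cons i w => exact M7.isRed_mul _ _

theorem ι_ev (gen : ℕ → G) (genN : ℕ → M7) (h : ∀ i, ι (gen i) = (genN i).toMat)
    (hr : ∀ i, (genN i).IsRed) (w : List ℕ) : ι (ev gen w) = (evN genN w).toMat := by
  induction w with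
  | nil => simp [ev, evN, M7.toMat_one]
  | cons i w ih =>
    have e1 : ev gen (i :: w) = gen i * ev gen w := by simp [ev]
    have e2 : evN genN (i :: w) = (genN i).mul (evN genN w) := by simp only [evN, List.foldr_cons]
    rw [e1, e2, map_mul, M7.toMat_mul _ _ (hr i), h, ih]

theorem vec_actN (gen : ℕ → G) (genN : ℕ → M7) (h : ∀ i, ι (gen i) = (genN i).toMat)
    (hr : ∀ i, (genN i).IsRed) (w : List ℕ) (v : ℕ) :
    vec (actN genN w v) = (ι (ev gen w)).mulVec (vec v) := by
  induction w with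
  | nil => simp [ev, actN]
  | cons i w ih =>
    have e1 : ev gen (i :: w) = gen i * ev gen w := by simp [ev]
    have e2 : actN genN (i :: w) v = mulVec7 (genN i) (actN genN w v) := by
      simp only [actN, List.foldr_cons]
    rw [e1, e2, map_mul, vec_mulVec7 _ (hr i), ih, Matrix.mulVec_mulVec, h]

theorem ev_mem (gen : ℕ → G) (H : Subgroup G) (h : ∀ i, gen i ∈ H) (w : List ℕ) : ev gen w ∈ H := by
  unfold ev
  apply Subgroup.list_prod_mem
  intro x hx
  obtain ⟨i, _, rfl⟩ := List.mem_map.1 hx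
  exact h i

end Words


/-! ### matrix sum and the fixed-space certificate -/

namespace M7

/-- packed matrix sum -/
def add (A C : M7) : M7 :=
  ⟨red (A.c0 + C.c0), red (A.c1 + C.c1), red (A.c2 + C.c2), red (A.c3 + C.c3), red (A.c4 + C.c4),
    red (A.c5 + C.c5), red (A.c6 + C.c6)⟩

theorem vec_red_add (a c : ℕ) (ha : red a = a) (hc : red c = c) : vec (red (a + c)) = vec a + vec c := by
  rw [vec_red]
  have e : a + c = pack (dg0 a + dg0 c) (dg1 a + dg1 c) (dg2 a + dg2 c) (dg3 a + dg3 c) (dg4 a + dg4 c)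
      (dg5 a + dg5 c) (dg6 a + dg6 c) := by
    conv_lhs => rw [← ha, ← hc]
    unfold red pack; ring
  have h0 := dg0_lt a; have h1 := dg1_lt a; have h2 := dg2_lt a; have h3 := dg3_lt a
  have h4 := dg4_lt a; have h5 := dg5_lt a; have h6 := dg6_lt a
  have k0 := dg0_lt c; have k1 := dg1_lt c; have k2 := dg2_lt c; have k3 := dg3_lt c
  have k4 := dg4_lt c; have k5 := dg5_lt c; have k6 := dg6_lt c
  rw [e, vec_pack _ _ _ _ _ _ _ (by omega) (by omega) (by omega) (by omega) (by omega) (by omega) (by omega)]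
  funext i
  fin_cases i <;> simp [vec]

theorem col_add (A C : M7) (j : Fin 7) : (A.add C).col j = red (A.col j + C.col j) := by
  fin_cases j <;> simp [col, add]

theorem isRed_col {A : M7} (hA : A.IsRed) (j : Fin 7) : red (A.col j) = A.col j := by
  obtain ⟨a0, a1, a2, a3, a4, a5, a6⟩ := hA
  fin_cases j <;> simp [col, *]

theorem toMat_add (A C : M7) (hA : A.IsRed) (hC : C.IsRed) : (A.add C).toMat = A.toMat + C.toMat := by
  ext i j
  show vec ((A.add C).col j) i = vec (A.col j) i + vec (C.col j) i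
  rw [col_add, vec_red_add _ _ (isRed_col hA j) (isRed_col hC j)]
  rfl

end M7

theorem fix_of_cert (g R Z : Mat) (v : Vec) (h : R * g + Z = R + 1)
    (hZ : ∀ u : Vec, ∃ c : ZMod 11, Z.mulVec u = c • v) :
    ∀ u : Vec, g.mulVec u = u → ∃ c : ZMod 11, u = c • v := by
  intro u hu
  obtain ⟨c, hc⟩ := hZ u
  refine ⟨c, ?_⟩
  have h2 := congrArg (fun M : Mat => M.mulVec u) h
  simp only [Matrix.add_mulVec, ← Matrix.mulVec_mulVec, hu, Matrix.one_mulVec, hc] at h2
  exact (add_left_cancel h2).symm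

theorem exists_smul_of_cols (Z : M7) (v p0 p1 p2 p3 p4 p5 p6 : ℕ)
    (h0 : Z.c0 = scaleN p0 v) (h1 : Z.c1 = scaleN p1 v) (h2 : Z.c2 = scaleN p2 v)
    (h3 : Z.c3 = scaleN p3 v) (h4 : Z.c4 = scaleN p4 v) (h5 : Z.c5 = scaleN p5 v)
    (h6 : Z.c6 = scaleN p6 v) :
    ∀ u : Vec, ∃ c : ZMod 11, Z.toMat.mulVec u = c • vec v := by
  intro u
  refine ⟨(p0 : ZMod 11) * u 0 + (p1 : ZMod 11) * u 1 + (p2 : ZMod 11) * u 2 + (p3 : ZMod 11) * u 3
    + (p4 : ZMod 11) * u 4 + (p5 : ZMod 11) * u 5 + (p6 : ZMod 11) * u 6, ?_⟩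
  funext i
  simp [Matrix.mulVec, dotProduct, Fin.sum_univ_seven, M7.toMat, M7.col, h0, h1, h2, h3, h4, h5, h6,
    vec_scaleN]
  ring

/-! ### lists of packed matrices -/

/-- boolean membership test -/
def memL (A : M7) (l : List M7) : Bool := l.any (fun m => M7.beq A m)

theorem mem_of_memL {A : M7} {l : List M7} (h : memL A l = true) : A ∈ l := by
  unfold memL at h
  obtain ⟨m, hm, hb⟩ := List.any_eq_true.1 h
  rw [M7.eq_of_beq hb]; exact hm

/-- all entries reduced -/
def allRed (l : List M7) : Bool := l.all (fun m => decide m.IsRed)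

theorem isRed_of_allRed {l : List M7} (h : allRed l = true) {m : M7} (hm : m ∈ l) : m.IsRed := by
  have h2 := List.all_eq_true.1 h m hm
  simpa using h2

/-- `l` contains `one` and is closed under left multiplication by the `gs` -/
def closedL (gs l : List M7) : Bool :=
  memL M7.one l && allRed gs && gs.all (fun k => l.all (fun m => memL (k.mul m) l))

theorem closure_subset_list {G : Type*} [Group G] [Finite G] (ι : G →* Mat) (S : Set G)
    (gs l : List M7) (hS : ∀ s ∈ S, ∃ k ∈ gs, ι s = k.toMat) (hc : closedL gs l = true) :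
    ∀ g ∈ Subgroup.closure S, ∃ m ∈ l, ι g = m.toMat := by
  unfold closedL at hc
  simp only [Bool.and_eq_true] at hc
  obtain ⟨⟨h1, hr⟩, hcl⟩ := hc
  have key : ∀ g ∈ Submonoid.closure S, ∀ m ∈ l, ∃ m' ∈ l, ι g * m.toMat = m'.toMat := by
    intro g hg
    induction hg using Submonoid.closure_induction with
    | mem s hs =>
      intro m hm
      obtain ⟨k, hk, e⟩ := hS s hs
      have h3 := List.all_eq_true.1 (List.all_eq_true.1 hcl k hk) m hm
      exact ⟨k.mul m, mem_of_memL h3, by rw [e, M7.toMat_mul _ _ (isRed_of_allRed hr hk)]⟩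
    | one => intro m hm; exact ⟨m, hm, by simp⟩
    | mul x y hx hy ihx ihy =>
      intro m hm
      obtain ⟨m1, hm1, e1⟩ := ihy m hm
      obtain ⟨m2, hm2, e2⟩ := ihx m1 hm1
      exact ⟨m2, hm2, by rw [map_mul, mul_assoc, e1, e2]⟩
  intro g hg
  have hg' : g ∈ Submonoid.closure S := by
    rw [← Subgroup.closure_toSubmonoid_of_finite]; exact hg
  obtain ⟨m', hm', e⟩ := key g hg' M7.one (mem_of_memL h1)
  exact ⟨m', hm', by rw [← e, M7.toMat_one, mul_one]⟩

theorem pow_eq_one_of {G : Type*} [Group G] (ι : G →* Mat) (hι : Function.Injective ι) (g : G)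
    (m : M7) (hm : m.IsRed) (e : ι g = m.toMat) (n : ℕ) (h : M7.beq (m.pow n) M7.one = true) :
    g ^ n = 1 := by
  apply hι
  rw [map_pow, map_one, e, ← M7.toMat_pow _ hm, M7.eq_of_beq h, M7.toMat_one]

theorem pow_ne_one_of {G : Type*} [Group G] (ι : G →* Mat) (g : G)
    (m : M7) (hm : m.IsRed) (e : ι g = m.toMat) (n : ℕ) (h : M7.beq (m.pow n) M7.one = false) :
    g ^ n ≠ 1 := by
  intro hg
  have h1 : (m.pow n).toMat = M7.one.toMat := by
    rw [M7.toMat_pow _ hm, ← e, ← map_pow, hg, map_one, M7.toMat_one]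
  have h2 := M7.toMat_inj (M7.isRed_pow _ _) M7.isRed_one h1
  rw [h2, M7.beq_self] at h
  exact Bool.noConfusion h

theorem ne_of_beq_false {G : Type*} [Group G] (ι : G →* Mat) (g h : G) (m m' : M7) (hm : m.IsRed)
    (hm' : m'.IsRed) (e : ι g = m.toMat) (e' : ι h = m'.toMat) (hb : M7.beq m m' = false) : g ≠ h := by
  intro hgh
  subst hgh
  have h2 := M7.toMat_inj hm hm' (e.symm.trans e')
  rw [h2, M7.beq_self] at hb
  exact Bool.noConfusion hb

/-! ### the chain lemma (closed sets of the form `T * K`) -/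

theorem closure_subset_mul {Mo : Type*} [Monoid Mo] (S T : Set Mo) (K : Submonoid Mo)
    (h1 : (1 : Mo) ∈ T) (h : ∀ s ∈ S, ∀ t ∈ T, ∃ t' ∈ T, ∃ k ∈ K, s * t = t' * k) :
    ∀ g ∈ Submonoid.closure S, ∃ t ∈ T, ∃ k ∈ K, g = t * k := by
  have key : ∀ g ∈ Submonoid.closure S, ∀ t ∈ T, ∀ k ∈ K, ∃ t' ∈ T, ∃ k' ∈ K, g * (t * k) = t' * k' := by
    intro g hg
    induction hg using Submonoid.closure_induction with
    | mem s hs =>
      intro t ht k hk
      obtain ⟨t', ht', k', hk', e⟩ := h s hs t ht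
      exact ⟨t', ht', k' * k, K.mul_mem hk' hk, by rw [← mul_assoc, e, mul_assoc]⟩
    | one => intro t ht k hk; exact ⟨t, ht, k, hk, one_mul _⟩
    | mul x y hx hy ihx ihy =>
      intro t ht k hk
      obtain ⟨t1, ht1, k1, hk1, e1⟩ := ihy t ht k hk
      obtain ⟨t2, ht2, k2, hk2, e2⟩ := ihx t1 ht1 k1 hk1
      exact ⟨t2, ht2, k2, hk2, by rw [mul_assoc, e1, e2]⟩
  intro g hg
  obtain ⟨t', ht', k', hk', e⟩ := key g hg 1 h1 1 K.one_mem
  exact ⟨t', ht', k', hk', by rw [← e]; simp⟩

theorem zip_all_exists {α β : Type*} (f : α × β → Bool) : ∀ (l : List α) (l' : List β),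
    l.length = l'.length → (l.zip l').all f = true → ∀ a ∈ l, ∃ b ∈ l', f (a, b) = true := by
  intro l
  induction l with
  | nil => intro l' _ _ a ha; simp at ha
  | cons x l ih =>
    intro l' hl hall a ha
    cases l' with
    | nil => simp at hl
    | cons y l' =>
      simp only [List.zip_cons_cons, List.all_cons, Bool.and_eq_true] at hall
      rcases List.mem_cons.1 ha with rfl | ha'
      · exact ⟨y, List.mem_cons_self, hall.1⟩
      · obtain ⟨b, hb, hf⟩ := ih l' (by simpa using hl) hall.2 a ha'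
        exact ⟨b, List.mem_cons_of_mem _ hb, hf⟩

theorem getD_mem' {α : Type*} (l : List α) (d : α) (hd : d ∈ l) (i : ℕ) : l.getD i d ∈ l := by
  rw [List.getD_eq_getElem?_getD]
  cases h : l[i]? with
  | none => simpa using hd
  | some x => simpa using List.mem_of_getElem? h

/-- level check: `s * U[i] = U[idx[i].1] * hw idx[i].2` for all `i` -/
def chkLevel (s : M7) (U : List M7) (hw : ℕ → M7) (idx : List (ℕ × ℕ)) : Bool :=
  Nat.beq U.length idx.length &&
    (U.zip idx).all (fun p => M7.beq (s.mul p.1) ((U.getD p.2.1 M7.one).mul (hw p.2.2)))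

theorem chkLevel_sound (s : M7) (U : List M7) (hw : ℕ → M7) (idx : List (ℕ × ℕ))
    (h : chkLevel s U hw idx = true) (h1 : M7.one ∈ U) :
    ∀ u ∈ U, ∃ u' ∈ U, ∃ k, s.mul u = u'.mul (hw k) := by
  unfold chkLevel at h
  simp only [Bool.and_eq_true, Nat.beq_eq] at h
  intro u hu
  obtain ⟨b, _, hf⟩ := zip_all_exists _ U idx h.1 h.2 u hu
  exact ⟨U.getD b.1 M7.one, getD_mem' U _ h1 _, b.2, M7.eq_of_beq hf⟩

theorem level_step (s : M7) (hs : s.IsRed) (U : List M7) (hU : allRed U = true) (h1 : M7.one ∈ U)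
    (hw : ℕ → M7) (idx : List (ℕ × ℕ)) (h : chkLevel s U hw idx = true) (K : Submonoid Mat)
    (hK : ∀ k, (hw k).toMat ∈ K) :
    ∀ t ∈ {t : Mat | ∃ m ∈ U, m.toMat = t}, ∃ t' ∈ {t : Mat | ∃ m ∈ U, m.toMat = t}, ∃ k ∈ K,
      s.toMat * t = t' * k := by
  rintro t ⟨u, hu, rfl⟩
  obtain ⟨u', hu', k, e⟩ := chkLevel_sound s U hw idx h h1 u hu
  refine ⟨u'.toMat, ⟨u', hu', rfl⟩, (hw k).toMat, hK k, ?_⟩
  rw [← M7.toMat_mul _ _ hs, e, M7.toMat_mul _ _ (isRed_of_allRed hU hu')]

theorem one_mem_T (U : List M7) (h1 : M7.one ∈ U) : (1 : Mat) ∈ {t : Mat | ∃ m ∈ U, m.toMat = t} :=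
  ⟨M7.one, h1, M7.toMat_one⟩

theorem ncard_closure_le (S : Set Mat) (U : List M7) (K : Submonoid Mat)
    (h : ∀ g ∈ Submonoid.closure S, ∃ t ∈ {t : Mat | ∃ m ∈ U, m.toMat = t}, ∃ k ∈ K, g = t * k) :
    ((Submonoid.closure S : Submonoid Mat) : Set Mat).ncard ≤ U.length * ((K : Set Mat)).ncard := by
  classical
  have hsub : ((Submonoid.closure S : Submonoid Mat) : Set Mat) ⊆
      (fun p : M7 × Mat => p.1.toMat * p.2) '' (({m : M7 | m ∈ U} : Set M7) ×ˢ (K : Set Mat)) := by
    intro g hg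
    obtain ⟨t, ⟨m, hm, rfl⟩, k, hk, rfl⟩ := h g hg
    exact ⟨(m, k), ⟨hm, hk⟩, rfl⟩
  have hfinU : ({m : M7 | m ∈ U} : Set M7).Finite := List.finite_toSet U
  have hfinK : ((K : Set Mat)).Finite := Set.toFinite _
  have hfin := hfinU.prod hfinK
  calc ((Submonoid.closure S : Submonoid Mat) : Set Mat).ncard
      ≤ ((fun p : M7 × Mat => p.1.toMat * p.2) '' (({m : M7 | m ∈ U} : Set M7) ×ˢ (K : Set Mat))).ncard :=
        Set.ncard_le_ncard hsub (hfin.image _)
    _ ≤ ((({m : M7 | m ∈ U} : Set M7) ×ˢ (K : Set Mat))).ncard := Set.ncard_image_le hfin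
    _ = ({m : M7 | m ∈ U} : Set M7).ncard * ((K : Set Mat)).ncard := Set.ncard_prod
    _ ≤ U.length * ((K : Set Mat)).ncard := by
        apply Nat.mul_le_mul_right
        have e : ({m : M7 | m ∈ U} : Set M7) = ↑U.toFinset := by ext m; simp
        rw [e, Set.ncard_coe_finset]
        exact List.toFinset_card_le U

/-! ### strictly sorted lists -/

/-- boolean test: strictly increasing -/
def sortedB : List ℕ → Bool
  | [] => true
  | [_] => true
  | a :: b :: t => Nat.blt a b && sortedB (b :: t)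

theorem sortedB_cons (a : ℕ) : ∀ l : List ℕ, sortedB (a :: l) = true → (∀ x ∈ l, a < x) ∧ sortedB l = true := by
  intro l
  induction l generalizing a with
  | nil => intro _; exact ⟨by simp, rfl⟩
  | cons b t ih =>
    intro h
    simp only [sortedB, Bool.and_eq_true, Nat.blt_eq] at h
    obtain ⟨h1, h2⟩ := ih b h.2
    refine ⟨?_, h.2⟩
    intro x hx
    rcases List.mem_cons.1 hx with rfl | hx'
    · exact h.1
    · exact lt_trans h.1 (h1 x hx')

theorem nodup_of_sortedB : ∀ l : List ℕ, sortedB l = true → l.Nodup := by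
  intro l
  induction l with
  | nil => intro _; exact List.nodup_nil
  | cons a t ih =>
    intro h
    obtain ⟨h1, h2⟩ := sortedB_cons a t h
    exact List.nodup_cons.2 ⟨fun ha => lt_irrefl _ (h1 a ha), ih h2⟩

/-! ### line stabilizers -/

section Lines

variable {G : Type*} [Group G] (ι : G →* Mat)

/-- the stabilizer of the line through `v` -/
def lineStab (v : Vec) : Subgroup G where
  carrier := {g | ∃ c : (ZMod 11)ˣ, (ι g).mulVec v = (c : ZMod 11) • v}
  one_mem' := ⟨1, by simp⟩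
  mul_mem' := by
    rintro a b ⟨c, hc⟩ ⟨d, hd⟩
    refine ⟨c * d, ?_⟩
    rw [map_mul, ← Matrix.mulVec_mulVec, hd, Matrix.mulVec_smul, hc, smul_smul, Units.val_mul, mul_comm]
  inv_mem' := by
    rintro a ⟨c, hc⟩
    refine ⟨c⁻¹, ?_⟩
    have h1 : ι a⁻¹ * ι a = 1 := by rw [← map_mul, inv_mul_cancel, map_one]
    have h2 : (ι a⁻¹).mulVec ((ι a).mulVec v) = v := by
      rw [Matrix.mulVec_mulVec, h1, Matrix.one_mulVec]
    rw [hc, Matrix.mulVec_smul] at h2
    calc (ι a⁻¹).mulVec v = ((c⁻¹ : (ZMod 11)ˣ) : ZMod 11) • ((c : ZMod 11) • (ι a⁻¹).mulVec v) := by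
          rw [smul_smul, ← Units.val_mul, inv_mul_cancel, Units.val_one, one_smul]
      _ = ((c⁻¹ : (ZMod 11)ˣ) : ZMod 11) • v := by rw [h2]

theorem mem_lineStab_iff (v : Vec) (g : G) :
    g ∈ lineStab ι v ↔ ∃ c : (ZMod 11)ˣ, (ι g).mulVec v = (c : ZMod 11) • v := Iff.rfl

theorem mem_lineStab_of_commute (v : Vec) (hv : v ≠ 0) (g : G)
    (hfix : ∀ u : Vec, (ι g).mulVec u = u → ∃ c : ZMod 11, u = c • v) (hgv : (ι g).mulVec v = v)
    (x : G) (hx : Commute x g) : x ∈ lineStab ι v := by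
  have : Fact (Nat.Prime 11) := ⟨by norm_num⟩
  have h1 : (ι g).mulVec ((ι x).mulVec v) = (ι x).mulVec v := by
    rw [Matrix.mulVec_mulVec, ← map_mul, ← hx.eq, map_mul, ← Matrix.mulVec_mulVec, hgv]
  obtain ⟨c, hc⟩ := hfix _ h1
  have hc0 : c ≠ 0 := by
    rintro rfl
    rw [zero_smul] at hc
    have h2 : (ι x⁻¹).mulVec ((ι x).mulVec v) = v := by
      rw [Matrix.mulVec_mulVec, ← map_mul, inv_mul_cancel, map_one, Matrix.one_mulVec]
    rw [hc, Matrix.mulVec_zero] at h2
    exact hv h2.symm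
  exact ⟨Units.mk0 c hc0, hc⟩

theorem lineStab_card_mul_le [Finite G] (v0 : ℕ) (gen : ℕ → G) (genN : ℕ → M7)
    (h : ∀ i, ι (gen i) = (genN i).toMat) (hr : ∀ i, (genN i).IsRed)
    (cert : List (List ℕ × ℕ))
    (hcert : cert.all (fun e => Nat.beq (normN (actN genN e.1 v0)) e.2) = true)
    (hsorted : sortedB (cert.map Prod.snd) = true) :
    Nat.card (lineStab ι (vec v0)) * cert.length ≤ Nat.card G := by
  have : Fact (Nat.Prime 11) := ⟨by norm_num⟩
  set S := lineStab ι (vec v0) with hS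
  have hnd := nodup_of_sortedB _ hsorted
  let f : Fin cert.length → G ⧸ S := fun i => QuotientGroup.mk (ev gen (cert.get i).1)
  have hf : Function.Injective f := by
    intro i j hij
    have h1 : (ev gen (cert.get i).1)⁻¹ * ev gen (cert.get j).1 ∈ S := QuotientGroup.eq.1 hij
    obtain ⟨c, hc⟩ := h1
    have h2 : (ι (ev gen (cert.get j).1)).mulVec (vec v0)
        = (c : ZMod 11) • (ι (ev gen (cert.get i).1)).mulVec (vec v0) := by
      rw [← Matrix.mulVec_smul, ← hc, Matrix.mulVec_mulVec, ← map_mul, mul_inv_cancel_left]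
    rw [← vec_actN ι gen genN h hr, ← vec_actN ι gen genN h hr] at h2
    have h3 : vec (normN (actN genN (cert.get j).1 v0)) = vec (normN (actN genN (cert.get i).1 v0)) := by
      rw [vec_normN, vec_normN, h2, normV_smul _ c.ne_zero]
    have h4 := red_eq_of_vec_eq h3
    rw [red_normN, red_normN] at h4
    have hi := List.all_eq_true.1 hcert (cert.get i) (List.get_mem _ _)
    have hj := List.all_eq_true.1 hcert (cert.get j) (List.get_mem _ _)
    rw [Nat.beq_eq] at hi hj
    have h5 : (cert.get i).2 = (cert.get j).2 := by rw [← hi, ← hj, h4]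
    have h6 : (cert.map Prod.snd).get ⟨i, by simp⟩ = (cert.map Prod.snd).get ⟨j, by simp⟩ := by
      simpa using h5
    have h7 := (List.Nodup.get_inj_iff hnd).1 h6
    exact Fin.ext (by simpa using h7)
  have h8 : cert.length ≤ Nat.card (G ⧸ S) := by
    have := Nat.card_le_card_of_injective f hf
    simpa using this
  have h9 : Nat.card S * S.index = Nat.card G := S.card_mul_index
  calc Nat.card S * cert.length ≤ Nat.card S * S.index := Nat.mul_le_mul_left _ h8
    _ = Nat.card G := h9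

end Lines


/-! ### word tables -/

/-- the list `l` is the list of values of the words `ws` -/
def wordsOK (gN : ℕ → M7) (l : List M7) (ws : List (List ℕ)) : Bool :=
  Nat.beq l.length ws.length && (l.zip ws).all (fun p => M7.beq p.1 (evN gN p.2))

theorem toMat_evN_mem (gN : ℕ → M7) (hr : ∀ i, (gN i).IsRed) (w : List ℕ) :
    (evN gN w).toMat ∈ Submonoid.closure (Set.range fun i => (gN i).toMat) := by
  induction w with
  | nil =>
    have e : evN gN [] = M7.one := rfl
    rw [e, M7.toMat_one]; exact Submonoid.one_mem _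
  | cons i w ih =>
    have e : evN gN (i :: w) = (gN i).mul (evN gN w) := by simp only [evN, List.foldr_cons]
    rw [e, M7.toMat_mul _ _ (hr i)]
    exact Submonoid.mul_mem _ (Submonoid.subset_closure ⟨i, rfl⟩) ih

theorem mem_closure_of_wordsOK (gN : ℕ → M7) (hr : ∀ i, (gN i).IsRed) (l : List M7)
    (ws : List (List ℕ)) (h : wordsOK gN l ws = true) :
    ∀ m ∈ l, m.toMat ∈ Submonoid.closure (Set.range fun i => (gN i).toMat) := by
  unfold wordsOK at h
  simp only [Bool.and_eq_true, Nat.beq_eq] at h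
  intro m hm
  obtain ⟨w, _, hf⟩ := zip_all_exists _ l ws h.1 h.2 m hm
  have e : m = evN gN w := M7.eq_of_beq hf
  rw [e]
  exact toMat_evN_mem gN hr w

theorem getD_toMat_mem (gN : ℕ → M7) (hr : ∀ i, (gN i).IsRed) (l : List M7)
    (ws : List (List ℕ)) (h : wordsOK gN l ws = true) (n : ℕ) :
    (l.getD n M7.one).toMat ∈ Submonoid.closure (Set.range fun i => (gN i).toMat) := by
  rw [List.getD_eq_getElem?_getD]
  cases hx : l[n]? with
  | none =>
    simp only [Option.getD_none, M7.toMat_one]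
    exact Submonoid.one_mem _
  | some x =>
    simp only [Option.getD_some]
    exact mem_closure_of_wordsOK gN hr l ws h x (List.mem_of_getElem? hx)

theorem getD_isRed (l : List M7) (hl : allRed l = true) (n : ℕ) : (l.getD n M7.one).IsRed := by
  rw [List.getD_eq_getElem?_getD]
  cases hx : l[n]? with
  | none => simp only [Option.getD_none]; exact M7.isRed_one
  | some x => simp only [Option.getD_some]; exact isRed_of_allRed hl (List.mem_of_getElem? hx)

end Cfsg.Agent.Lib.Helper60.J1
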