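import Cfsg.Agent.Lib.Helper60.J1Order

set_option autoImplicit false

/-!
# J1 project (helper60): line-orbit machinery for the Sylow normalizers of `J1`
-/

namespace Cfsg.Agent.Lib.Helper60.J1

open Cfsg
open scoped Pointwise

/-- packed `X, …, X^6, Y, …, Y^4` -/
def gP : ℕ → M7
  | 0 => ⟨5559917313492231481, 1, 1331, 1771561, 2357947691, 3138428376721, 4177248169415651⟩
  | 1 => ⟨4177248169415651, 5559917313492231481, 1, 1331, 1771561, 2357947691, 3138428376721⟩
  | 2 => ⟨3138428376721, 4177248169415651, 5559917313492231481, 1, 1331, 1771561, 2357947691⟩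
  | 3 => ⟨2357947691, 3138428376721, 4177248169415651, 5559917313492231481, 1, 1331, 1771561⟩
  | 4 => ⟨1771561, 2357947691, 3138428376721, 4177248169415651, 5559917313492231481, 1, 1331⟩
  | 5 => ⟨1331, 1771561, 2357947691, 3138428376721, 4177248169415651, 5559917313492231481, 1⟩
  | 6 => ⟨16683954319670328369, 16692315088150007077, 50051812696958994789, 5597537673325287249, 5564100857396155929, 16683960577659949177, 5572480465867269677⟩
  | 7 => ⟨33439977951166760, 44512781600725510833, 50039277814018837310, 44516955724626631520, 16692302532073240486, 44496072612758434253, 22273112353828661743⟩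
  | 8 => ⟨12553737104079188, 44512765908592485040, 11119856619573210288, 16688128419979564558, 44512775340381482801, 44496056937122184490, 22273096673488917520⟩
  | 9 => ⟨44521136120656217316, 16692286830488934091, 11153277743360464656, 55607552757569467676, 55640951912350992096, 16683932348301334711, 5572452198802750891⟩
  | _ => M7.one

/-- `X, …, X^6, Y, …, Y^4` in `J1` -/
def genP : ℕ → ↥Cfsg.Spor.J1
  | 0 => gX ^ 1
  | 1 => gX ^ 2
  | 2 => gX ^ 3
  | 3 => gX ^ 4
  | 4 => gX ^ 5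
  | 5 => gX ^ 6
  | 6 => gY ^ 1
  | 7 => gY ^ 2
  | 8 => gY ^ 3
  | 9 => gY ^ 4
  | _ => 1

theorem gP_pow : gP 0 = Xh.pow 1 ∧ gP 1 = Xh.pow 2 ∧ gP 2 = Xh.pow 3 ∧ gP 3 = Xh.pow 4 ∧
    gP 4 = Xh.pow 5 ∧ gP 5 = Xh.pow 6 ∧ gP 6 = Yh.pow 1 ∧ gP 7 = Yh.pow 2 ∧ gP 8 = Yh.pow 3 ∧
    gP 9 = Yh.pow 4 := by decide +kernel

theorem ι_genP (i : ℕ) : ι (genP i) = (gP i).toMat := by
  have hX : ∀ k, ι (gX ^ k) = (Xh.pow k).toMat := fun k => by
    rw [map_pow, ι_gX, M7.toMat_pow _ redXh]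
  have hY : ∀ k, ι (gY ^ k) = (Yh.pow k).toMat := fun k => by
    rw [map_pow, ι_gY, M7.toMat_pow _ redYh]
  obtain ⟨e0, e1, e2, e3, e4, e5, e6, e7, e8, e9⟩ := gP_pow
  match i with
  | 0 => rw [e0]; exact hX 1
  | 1 => rw [e1]; exact hX 2
  | 2 => rw [e2]; exact hX 3
  | 3 => rw [e3]; exact hX 4
  | 4 => rw [e4]; exact hX 5
  | 5 => rw [e5]; exact hX 6
  | 6 => rw [e6]; exact hY 1
  | 7 => rw [e7]; exact hY 2
  | 8 => rw [e8]; exact hY 3
  | 9 => rw [e9]; exact hY 4
  | (n + 10) =>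
    show ι 1 = M7.one.toMat
    rw [map_one, M7.toMat_one]

theorem red_gP (i : ℕ) : (gP i).IsRed := by
  obtain ⟨e0, e1, e2, e3, e4, e5, e6, e7, e8, e9⟩ := gP_pow
  match i with
  | 0 => rw [e0]; exact M7.isRed_pow _ _
  | 1 => rw [e1]; exact M7.isRed_pow _ _
  | 2 => rw [e2]; exact M7.isRed_pow _ _
  | 3 => rw [e3]; exact M7.isRed_pow _ _
  | 4 => rw [e4]; exact M7.isRed_pow _ _
  | 5 => rw [e5]; exact M7.isRed_pow _ _
  | 6 => rw [e6]; exact M7.isRed_pow _ _
  | 7 => rw [e7]; exact M7.isRed_pow _ _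
  | 8 => rw [e8]; exact M7.isRed_pow _ _
  | 9 => rw [e9]; exact M7.isRed_pow _ _
  | (n + 10) => exact M7.isRed_one

/-- the fixed space of a word element is a line (certificate `R * g + Z = R + 1`) -/
theorem fix_of_packed (w : List ℕ) (R Z : M7) (v p0 p1 p2 p3 p4 p5 p6 : ℕ) (hR : R.IsRed)
    (hZ : Z.IsRed) (h : M7.beq (M7.add (R.mul (evN g1 w)) Z) (M7.add R M7.one) = true)
    (h0 : Z.c0 = scaleN p0 v) (h1 : Z.c1 = scaleN p1 v) (h2 : Z.c2 = scaleN p2 v)
    (h3 : Z.c3 = scaleN p3 v) (h4 : Z.c4 = scaleN p4 v) (h5 : Z.c5 = scaleN p5 v)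
    (h6 : Z.c6 = scaleN p6 v) :
    ∀ u : Vec, (ι (ev gen1 w)).mulVec u = u → ∃ c : ZMod 11, u = c • vec v := by
  apply fix_of_cert (ι (ev gen1 w)) R.toMat Z.toMat (vec v) _
    (exists_smul_of_cols Z v p0 p1 p2 p3 p4 p5 p6 h0 h1 h2 h3 h4 h5 h6)
  rw [ι_ev1, ← M7.toMat_mul _ _ hR, ← M7.toMat_add _ _ (M7.isRed_mul _ _) hZ, M7.eq_of_beq h,
    M7.toMat_add _ _ hR M7.isRed_one, M7.toMat_one]

/-- main lemma: if the line-orbit certificate shows that the stabilizer of the fixed line of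
`g = ev gw` has order at most `p * q`, and `⟨g, b⟩` (orders `p`, `q`) lies in an explicit closed
list whose elements satisfy `m ^ q = 1 ∨ m ^ p = 1`, then so does everything commuting with `g` -/
theorem commute_pow (gw bw : List ℕ) (v0 p q lam : ℕ) (cert : List (List ℕ × ℕ)) (gs l : List M7)
    (hcert : cert.all (fun e => Nat.beq (normN (actN gP e.1 v0)) e.2) = true)
    (hsorted : sortedB (cert.map Prod.snd) = true)
    (hNc : 175560 < (p * q + 1) * cert.length)
    (hp : orderOf (ev gen1 gw) = p) (hq : orderOf (ev gen1 bw) = q) (hpq : Nat.Coprime p q)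
    (hfix : ∀ u : Vec, (ι (ev gen1 gw)).mulVec u = u → ∃ c : ZMod 11, u = c • vec v0)
    (hv : vec v0 ≠ 0)
    (hgv : mulVec7 (evN g1 gw) v0 = v0)
    (hbv : mulVec7 (evN g1 bw) v0 = scaleN lam v0) (hlam : (lam : ZMod 11) ≠ 0)
    (hw : wordsOK g1 gs [gw, bw] = true) (hc : closedL gs l = true) (hred : allRed l = true)
    (hord : l.all (fun m => M7.beq (m.pow q) M7.one || M7.beq (m.pow p) M7.one) = true) :
    ∀ x : ↥Cfsg.Spor.J1, Commute x (ev gen1 gw) → x ^ q = 1 ∨ x ^ p = 1 := by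
  have : Fact (Nat.Prime 11) := ⟨by norm_num⟩
  have hgv' : (ι (ev gen1 gw)).mulVec (vec v0) = vec v0 := by
    rw [ι_ev1, ← vec_mulVec7 _ (isRed_evN g1 gw), hgv]
  have hbv' : (ι (ev gen1 bw)).mulVec (vec v0) = (lam : ZMod 11) • vec v0 := by
    rw [ι_ev1, ← vec_mulVec7 _ (isRed_evN g1 bw), hbv, vec_scaleN]
  have hFS : wordGroup [gw, bw] ≤ lineStab ι (vec v0) := by
    rw [wordGroup, Subgroup.closure_le]
    rintro s ⟨w, hw', rfl⟩
    simp only [List.mem_cons, List.not_mem_nil, or_false] at hw'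
    rcases hw' with rfl | rfl
    · exact ⟨1, by rw [hgv']; simp⟩
    · exact ⟨Units.mk0 _ hlam, by rw [hbv']; rfl⟩
  have h1 : Nat.card (lineStab ι (vec v0)) * cert.length ≤ Nat.card ↥Cfsg.Spor.J1 :=
    lineStab_card_mul_le ι v0 genP gP ι_genP red_gP cert hcert hsorted
  rw [card_J1] at h1
  have hSle : Nat.card (lineStab ι (vec v0)) ≤ p * q := by
    by_contra hcon
    push Not at hcon
    have h2 : (p * q + 1) * cert.length ≤ Nat.card (lineStab ι (vec v0)) * cert.length :=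
      Nat.mul_le_mul_right _ hcon
    omega
  have hpF : p ∣ Nat.card (wordGroup [gw, bw]) := by
    have h := orderOf_dvd_natCard
      (⟨ev gen1 gw, ev_mem_wordGroup _ _ (by simp)⟩ : wordGroup [gw, bw])
    rwa [Subgroup.orderOf_mk, hp] at h
  have hqF : q ∣ Nat.card (wordGroup [gw, bw]) := by
    have h := orderOf_dvd_natCard
      (⟨ev gen1 bw, ev_mem_wordGroup _ _ (by simp)⟩ : wordGroup [gw, bw])
    rwa [Subgroup.orderOf_mk, hq] at h
  have hpqF : p * q ∣ Nat.card (wordGroup [gw, bw]) := Nat.Coprime.mul_dvd_of_dvd_of_dvd hpq hpF hqF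
  have hFge : p * q ≤ Nat.card (wordGroup [gw, bw]) := Nat.le_of_dvd Nat.card_pos hpqF
  have hFS' : wordGroup [gw, bw] = lineStab ι (vec v0) :=
    Subgroup.eq_of_le_of_card_ge hFS (le_trans hSle hFge)
  intro x hx
  have hxS : x ∈ lineStab ι (vec v0) :=
    mem_lineStab_of_commute ι (vec v0) hv (ev gen1 gw) hfix hgv' x hx
  rw [← hFS'] at hxS
  obtain ⟨m, hm, e⟩ := wordGroup_subset_list [gw, bw] gs l hw hc x hxS
  have h2 := List.all_eq_true.1 hord m hm
  simp only [Bool.or_eq_true] at h2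
  have hmr := isRed_of_allRed hred hm
  rcases h2 with h2 | h2
  · left; exact pow_eq_one_of ι ι_inj x m hmr e q h2
  · right; exact pow_eq_one_of ι ι_inj x m hmr e p h2

/-- two elements of order `p` with `p ∥ |G|` generate conjugate subgroups -/
theorem conj_mem_zpowers {G : Type*} [Group G] [Finite G] (p : ℕ) [Fact p.Prime]
    (hp2 : ¬ p * p ∣ Nat.card G) (a b : G) (ha : orderOf a = p) (hb : orderOf b = p) :
    ∃ u : G, u * a * u⁻¹ ∈ Subgroup.zpowers b := by
  have key : ∀ t : G, orderOf t = p → ∃ P : Sylow p G, (P : Subgroup G) = Subgroup.zpowers t := by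
    intro t hord
    have hcard : Nat.card (Subgroup.zpowers t) = p := by rw [Nat.card_zpowers, hord]
    have hP : IsPGroup p (Subgroup.zpowers t) := IsPGroup.of_card (n := 1) (by rw [hcard, pow_one])
    have hidx : ¬ p ∣ (Subgroup.zpowers t).index := by
      intro h'
      apply hp2
      rw [← Subgroup.index_mul_card (Subgroup.zpowers t), hcard]
      exact Nat.mul_dvd_mul_right h' p
    exact ⟨hP.toSylow hidx, hP.toSylow_coe hidx⟩
  obtain ⟨P, hP⟩ := key b hb
  obtain ⟨Q, hQ⟩ := key a ha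
  obtain ⟨u, hu⟩ := MulAction.exists_smul_eq G Q P
  have h1 : a ∈ (Q : Subgroup G) := by rw [hQ]; exact Subgroup.mem_zpowers _
  have h2 : MulAut.conj u • a ∈ MulAut.conj u • (Q : Subgroup G) :=
    Subgroup.smul_mem_pointwise_smul _ _ _ h1
  have h3 : MulAut.conj u • a ∈ ((u • Q : Sylow p G) : Subgroup G) := h2
  rw [hu, hP] at h3
  exact ⟨u, by simpa [MulAut.smul_def] using h3⟩

/-- if everything commuting with `gp` (of order `p`, `p ∥ |J1|`) satisfies `x ^ q = 1 ∨ x ^ p = 1`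
with `p ∤ q`, then every element of order divisible by `p` has order `p` -/
theorem orderOf_eq_of_dvd (p q : ℕ) [hpf : Fact p.Prime] (hp2 : ¬ p * p ∣ 175560) (hpq : ¬ p ∣ q)
    (gp : ↥Cfsg.Spor.J1) (hgp : orderOf gp = p)
    (hcomm : ∀ x : ↥Cfsg.Spor.J1, Commute x gp → x ^ q = 1 ∨ x ^ p = 1)
    (g : ↥Cfsg.Spor.J1) (hg : p ∣ orderOf g) : orderOf g = p := by
  have hp := hpf.out
  have hn0 : orderOf g ≠ 0 := (orderOf_pos g).ne'
  set h := g ^ (orderOf g / p) with hh
  have hho : orderOf h = p := orderOf_pow_orderOf_div hn0 hg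
  obtain ⟨u, hu⟩ := conj_mem_zpowers p (by rw [card_J1]; exact hp2) h gp hho hgp
  -- `u h u⁻¹` generates `zpowers gp`
  have hord2 : orderOf (u * h * u⁻¹) = p := by
    rw [← hho]; exact (MulAut.conj u).orderOf_eq h
  have hz : Subgroup.zpowers (u * h * u⁻¹) = Subgroup.zpowers gp := by
    apply Subgroup.eq_of_le_of_card_ge
    · rw [Subgroup.zpowers_le]; exact hu
    · rw [Nat.card_zpowers, Nat.card_zpowers, hord2, hgp]
  have hgp' : gp ∈ Subgroup.zpowers (u * h * u⁻¹) := by rw [hz]; exact Subgroup.mem_zpowers _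
  obtain ⟨i, hi⟩ := Subgroup.mem_zpowers_iff.1 hgp'
  have hc1 : Commute (u * g * u⁻¹) (u * h * u⁻¹) := by
    have hc0 : Commute g h := (Commute.refl g).pow_right _
    have e1 : u * g * u⁻¹ * (u * h * u⁻¹) = u * (g * h) * u⁻¹ := by group
    have e2 : u * h * u⁻¹ * (u * g * u⁻¹) = u * (h * g) * u⁻¹ := by group
    show u * g * u⁻¹ * (u * h * u⁻¹) = u * h * u⁻¹ * (u * g * u⁻¹)
    rw [e1, e2, hc0.eq]
  have hc2 : Commute (u * g * u⁻¹) gp := by rw [← hi]; exact hc1.zpow_right i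
  have hpow : ∀ k : ℕ, (u * g * u⁻¹) ^ k = 1 → g ^ k = 1 := by
    intro k hk
    have e : (u * g * u⁻¹) ^ k = u * g ^ k * u⁻¹ := by
      have h5 := map_pow (MulAut.conj u) g k
      rw [MulAut.conj_apply, MulAut.conj_apply] at h5
      exact h5.symm
    rw [e] at hk
    have e2 : g ^ k = u⁻¹ * (u * g ^ k * u⁻¹) * u := by group
    rw [e2, hk]; group
  rcases hcomm _ hc2 with h1 | h1
  · exact absurd (hg.trans (orderOf_dvd_of_pow_eq_one (hpow q h1))) hpq
  · exact Nat.dvd_antisymm (orderOf_dvd_of_pow_eq_one (hpow p h1)) hg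

end Cfsg.Agent.Lib.Helper60.J1
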