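import Mathlib

set_option autoImplicit false
set_option linter.unusedVariables false

/-!
# Packed arithmetic for 7 × 7 matrices over `ZMod 11` (helper60, J1 project)

A vector of `(ZMod 11)^7` is packed into one natural number in base `1331 = 11^3`
(digits `< 11` when reduced); a matrix is a structure of 7 packed columns.  All operations
are plain `Nat` arithmetic on literals, so `decide +kernel` evaluates them quickly; the bridge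
lemmas relate them to `Matrix (Fin 7) (Fin 7) (ZMod 11)`.
-/

namespace Cfsg.Agent.Lib.Helper60.J1

abbrev Mat := Matrix (Fin 7) (Fin 7) (ZMod 11)
abbrev Vec := Fin 7 → ZMod 11

/-- pack seven digits in base 1331 -/
def pack (d0 d1 d2 d3 d4 d5 d6 : ℕ) : ℕ :=
  d0 + 1331 * d1 + 1771561 * d2 + 2357947691 * d3 + 3138428376721 * d4
    + 4177248169415651 * d5 + 5559917313492231481 * d6

/-- digit 0 (mod 11) -/
def dg0 (v : ℕ) : ℕ := v % 11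

/-- digit 1 (mod 11) -/
def dg1 (v : ℕ) : ℕ := v / 1331 % 11

/-- digit 2 (mod 11) -/
def dg2 (v : ℕ) : ℕ := v / 1771561 % 11

/-- digit 3 (mod 11) -/
def dg3 (v : ℕ) : ℕ := v / 2357947691 % 11

/-- digit 4 (mod 11) -/
def dg4 (v : ℕ) : ℕ := v / 3138428376721 % 11

/-- digit 5 (mod 11) -/
def dg5 (v : ℕ) : ℕ := v / 4177248169415651 % 11

/-- digit 6 (mod 11) -/
def dg6 (v : ℕ) : ℕ := v / 5559917313492231481 % 11

theorem dg0_lt (v : ℕ) : dg0 v < 11 := Nat.mod_lt _ (by norm_num)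

theorem dg1_lt (v : ℕ) : dg1 v < 11 := Nat.mod_lt _ (by norm_num)

theorem dg2_lt (v : ℕ) : dg2 v < 11 := Nat.mod_lt _ (by norm_num)

theorem dg3_lt (v : ℕ) : dg3 v < 11 := Nat.mod_lt _ (by norm_num)

theorem dg4_lt (v : ℕ) : dg4 v < 11 := Nat.mod_lt _ (by norm_num)

theorem dg5_lt (v : ℕ) : dg5 v < 11 := Nat.mod_lt _ (by norm_num)

theorem dg6_lt (v : ℕ) : dg6 v < 11 := Nat.mod_lt _ (by norm_num)

/-- reduce every base-1331 digit mod 11 (and drop everything above digit 6) -/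
def red (s : ℕ) : ℕ := pack (dg0 s) (dg1 s) (dg2 s) (dg3 s) (dg4 s) (dg5 s) (dg6 s)

/-- the vector of `(ZMod 11)^7` packed in `v` -/
def vec (v : ℕ) : Vec :=
  ![(dg0 v : ZMod 11), (dg1 v : ZMod 11), (dg2 v : ZMod 11), (dg3 v : ZMod 11), (dg4 v : ZMod 11),
    (dg5 v : ZMod 11), (dg6 v : ZMod 11)]

theorem dg0_pack (d0 d1 d2 d3 d4 d5 d6 : ℕ) (h0 : d0 < 1331) (h1 : d1 < 1331) (h2 : d2 < 1331) (h3 : d3 < 1331) (h4 : d4 < 1331) (h5 : d5 < 1331) (h6 : d6 < 1331) :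
    dg0 (pack d0 d1 d2 d3 d4 d5 d6) = d0 % 11 := by
  unfold dg0 pack; omega

theorem dg1_pack (d0 d1 d2 d3 d4 d5 d6 : ℕ) (h0 : d0 < 1331) (h1 : d1 < 1331) (h2 : d2 < 1331) (h3 : d3 < 1331) (h4 : d4 < 1331) (h5 : d5 < 1331) (h6 : d6 < 1331) :
    dg1 (pack d0 d1 d2 d3 d4 d5 d6) = d1 % 11 := by
  unfold dg1 pack; omega

theorem dg2_pack (d0 d1 d2 d3 d4 d5 d6 : ℕ) (h0 : d0 < 1331) (h1 : d1 < 1331) (h2 : d2 < 1331) (h3 : d3 < 1331) (h4 : d4 < 1331) (h5 : d5 < 1331) (h6 : d6 < 1331) :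
    dg2 (pack d0 d1 d2 d3 d4 d5 d6) = d2 % 11 := by
  unfold dg2 pack; omega

theorem dg3_pack (d0 d1 d2 d3 d4 d5 d6 : ℕ) (h0 : d0 < 1331) (h1 : d1 < 1331) (h2 : d2 < 1331) (h3 : d3 < 1331) (h4 : d4 < 1331) (h5 : d5 < 1331) (h6 : d6 < 1331) :
    dg3 (pack d0 d1 d2 d3 d4 d5 d6) = d3 % 11 := by
  unfold dg3 pack; omega

theorem dg4_pack (d0 d1 d2 d3 d4 d5 d6 : ℕ) (h0 : d0 < 1331) (h1 : d1 < 1331) (h2 : d2 < 1331) (h3 : d3 < 1331) (h4 : d4 < 1331) (h5 : d5 < 1331) (h6 : d6 < 1331) :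
    dg4 (pack d0 d1 d2 d3 d4 d5 d6) = d4 % 11 := by
  unfold dg4 pack; omega

theorem dg5_pack (d0 d1 d2 d3 d4 d5 d6 : ℕ) (h0 : d0 < 1331) (h1 : d1 < 1331) (h2 : d2 < 1331) (h3 : d3 < 1331) (h4 : d4 < 1331) (h5 : d5 < 1331) (h6 : d6 < 1331) :
    dg5 (pack d0 d1 d2 d3 d4 d5 d6) = d5 % 11 := by
  unfold dg5 pack; omega

theorem dg6_pack (d0 d1 d2 d3 d4 d5 d6 : ℕ) (h0 : d0 < 1331) (h1 : d1 < 1331) (h2 : d2 < 1331) (h3 : d3 < 1331) (h4 : d4 < 1331) (h5 : d5 < 1331) (h6 : d6 < 1331) :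
    dg6 (pack d0 d1 d2 d3 d4 d5 d6) = d6 % 11 := by
  unfold dg6 pack; omega

theorem vec_pack (d0 d1 d2 d3 d4 d5 d6 : ℕ) (h0 : d0 < 1331) (h1 : d1 < 1331) (h2 : d2 < 1331) (h3 : d3 < 1331) (h4 : d4 < 1331) (h5 : d5 < 1331) (h6 : d6 < 1331) :
    vec (pack d0 d1 d2 d3 d4 d5 d6) = ![(d0 : ZMod 11), (d1 : ZMod 11), (d2 : ZMod 11), (d3 : ZMod 11),
      (d4 : ZMod 11), (d5 : ZMod 11), (d6 : ZMod 11)] := by
  unfold vec
  rw [dg0_pack _ _ _ _ _ _ _ h0 h1 h2 h3 h4 h5 h6, dg1_pack _ _ _ _ _ _ _ h0 h1 h2 h3 h4 h5 h6,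
    dg2_pack _ _ _ _ _ _ _ h0 h1 h2 h3 h4 h5 h6, dg3_pack _ _ _ _ _ _ _ h0 h1 h2 h3 h4 h5 h6,
    dg4_pack _ _ _ _ _ _ _ h0 h1 h2 h3 h4 h5 h6, dg5_pack _ _ _ _ _ _ _ h0 h1 h2 h3 h4 h5 h6,
    dg6_pack _ _ _ _ _ _ _ h0 h1 h2 h3 h4 h5 h6]
  simp only [ZMod.natCast_mod]

theorem dg_red (s : ℕ) : dg0 (red s) = dg0 s ∧ dg1 (red s) = dg1 s ∧ dg2 (red s) = dg2 s ∧
    dg3 (red s) = dg3 s ∧ dg4 (red s) = dg4 s ∧ dg5 (red s) = dg5 s ∧ dg6 (red s) = dg6 s := by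
  have h0 := dg0_lt s; have h1 := dg1_lt s; have h2 := dg2_lt s; have h3 := dg3_lt s
  have h4 := dg4_lt s; have h5 := dg5_lt s; have h6 := dg6_lt s
  unfold red
  refine ⟨?_, ?_, ?_, ?_, ?_, ?_, ?_⟩
  · rw [dg0_pack _ _ _ _ _ _ _ (by omega) (by omega) (by omega) (by omega) (by omega) (by omega) (by omega)]; omega
  · rw [dg1_pack _ _ _ _ _ _ _ (by omega) (by omega) (by omega) (by omega) (by omega) (by omega) (by omega)]; omega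
  · rw [dg2_pack _ _ _ _ _ _ _ (by omega) (by omega) (by omega) (by omega) (by omega) (by omega) (by omega)]; omega
  · rw [dg3_pack _ _ _ _ _ _ _ (by omega) (by omega) (by omega) (by omega) (by omega) (by omega) (by omega)]; omega
  · rw [dg4_pack _ _ _ _ _ _ _ (by omega) (by omega) (by omega) (by omega) (by omega) (by omega) (by omega)]; omega
  · rw [dg5_pack _ _ _ _ _ _ _ (by omega) (by omega) (by omega) (by omega) (by omega) (by omega) (by omega)]; omega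
  · rw [dg6_pack _ _ _ _ _ _ _ (by omega) (by omega) (by omega) (by omega) (by omega) (by omega) (by omega)]; omega

theorem red_red (s : ℕ) : red (red s) = red s := by
  obtain ⟨h0, h1, h2, h3, h4, h5, h6⟩ := dg_red s
  change pack (dg0 (red s)) (dg1 (red s)) (dg2 (red s)) (dg3 (red s)) (dg4 (red s)) (dg5 (red s))
    (dg6 (red s)) = red s
  rw [h0, h1, h2, h3, h4, h5, h6]; rfl

theorem vec_red (s : ℕ) : vec (red s) = vec s := by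
  obtain ⟨h0, h1, h2, h3, h4, h5, h6⟩ := dg_red s
  unfold vec
  rw [h0, h1, h2, h3, h4, h5, h6]

/-- reduced packed vectors are determined by their vector -/
theorem red_eq_of_vec_eq {a b : ℕ} (h : vec a = vec b) : red a = red b := by
  have e : ∀ x y : ℕ, x < 11 → y < 11 → ((x : ℕ) : ZMod 11) = ((y : ℕ) : ZMod 11) → x = y := by
    intro x y hx hy hxy
    have := (ZMod.natCast_eq_natCast_iff' x y 11).1 hxy
    rw [Nat.mod_eq_of_lt hx, Nat.mod_eq_of_lt hy] at this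
    exact this
  unfold vec at h
  have h0 := e _ _ (dg0_lt a) (dg0_lt b) (by simpa using congrFun h 0)
  have h1 := e _ _ (dg1_lt a) (dg1_lt b) (by simpa using congrFun h 1)
  have h2 := e _ _ (dg2_lt a) (dg2_lt b) (by simpa using congrFun h 2)
  have h3 := e _ _ (dg3_lt a) (dg3_lt b) (by simpa using congrFun h 3)
  have h4 := e _ _ (dg4_lt a) (dg4_lt b) (by simpa using congrFun h 4)
  have h5 := e _ _ (dg5_lt a) (dg5_lt b) (by simpa using congrFun h 5)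
  have h6 := e _ _ (dg6_lt a) (dg6_lt b) (by simpa using congrFun h 6)
  unfold red
  rw [h0, h1, h2, h3, h4, h5, h6]

/-- packed matrix: seven packed columns -/
structure M7 where
  c0 : ℕ
  c1 : ℕ
  c2 : ℕ
  c3 : ℕ
  c4 : ℕ
  c5 : ℕ
  c6 : ℕ
deriving DecidableEq

namespace M7

/-- boolean equality test -/
def beq (A C : M7) : Bool :=
  Nat.beq A.c0 C.c0 && Nat.beq A.c1 C.c1 && Nat.beq A.c2 C.c2 && Nat.beq A.c3 C.c3 &&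
    Nat.beq A.c4 C.c4 && Nat.beq A.c5 C.c5 && Nat.beq A.c6 C.c6

theorem eq_of_beq {A C : M7} (h : beq A C = true) : A = C := by
  unfold beq at h
  simp only [Bool.and_eq_true, Nat.beq_eq] at h
  obtain ⟨⟨⟨⟨⟨⟨h0, h1⟩, h2⟩, h3⟩, h4⟩, h5⟩, h6⟩ := h
  cases A; cases C; simp_all

theorem beq_self (A : M7) : beq A A = true := by
  unfold beq; simp

/-- the `j`-th packed column -/
def col (A : M7) (j : Fin 7) : ℕ := ![A.c0, A.c1, A.c2, A.c3, A.c4, A.c5, A.c6] j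

/-- the matrix whose columns are the packed columns -/
def toMat (A : M7) : Mat := fun i j => vec (A.col j) i

/-- all columns are reduced -/
def IsRed (A : M7) : Prop :=
  red A.c0 = A.c0 ∧ red A.c1 = A.c1 ∧ red A.c2 = A.c2 ∧ red A.c3 = A.c3 ∧ red A.c4 = A.c4 ∧
    red A.c5 = A.c5 ∧ red A.c6 = A.c6

instance (A : M7) : Decidable A.IsRed := by unfold IsRed; infer_instance

/-- identity matrix -/
def one : M7 := ⟨1, 1331, 1771561, 2357947691, 3138428376721, 4177248169415651, 5559917313492231481⟩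

end M7

/-- the linear combination `∑ v_j • column_j` (unreduced) -/
def lin (A : M7) (v : ℕ) : ℕ :=
  dg0 v * A.c0 + dg1 v * A.c1 + dg2 v * A.c2 + dg3 v * A.c3 + dg4 v * A.c4 + dg5 v * A.c5 + dg6 v * A.c6

/-- packed matrix times packed vector -/
def mulVec7 (A : M7) (v : ℕ) : ℕ := red (lin A v)

theorem red_mulVec7 (A : M7) (v : ℕ) : red (mulVec7 A v) = mulVec7 A v := red_red _

theorem lin_eq (x0 x1 x2 x3 x4 x5 x6 c0 c1 c2 c3 c4 c5 c6 : ℕ) (h0 : red c0 = c0) (h1 : red c1 = c1) (h2 : red c2 = c2) (h3 : red c3 = c3) (h4 : red c4 = c4) (h5 : red c5 = c5) (h6 : red c6 = c6) :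
    x0 * c0 + x1 * c1 + x2 * c2 + x3 * c3 + x4 * c4 + x5 * c5 + x6 * c6 = pack
      (x0 * dg0 c0 + x1 * dg0 c1 + x2 * dg0 c2 + x3 * dg0 c3 + x4 * dg0 c4 + x5 * dg0 c5 + x6 * dg0 c6)
      (x0 * dg1 c0 + x1 * dg1 c1 + x2 * dg1 c2 + x3 * dg1 c3 + x4 * dg1 c4 + x5 * dg1 c5 + x6 * dg1 c6)
      (x0 * dg2 c0 + x1 * dg2 c1 + x2 * dg2 c2 + x3 * dg2 c3 + x4 * dg2 c4 + x5 * dg2 c5 + x6 * dg2 c6)
      (x0 * dg3 c0 + x1 * dg3 c1 + x2 * dg3 c2 + x3 * dg3 c3 + x4 * dg3 c4 + x5 * dg3 c5 + x6 * dg3 c6)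
      (x0 * dg4 c0 + x1 * dg4 c1 + x2 * dg4 c2 + x3 * dg4 c3 + x4 * dg4 c4 + x5 * dg4 c5 + x6 * dg4 c6)
      (x0 * dg5 c0 + x1 * dg5 c1 + x2 * dg5 c2 + x3 * dg5 c3 + x4 * dg5 c4 + x5 * dg5 c5 + x6 * dg5 c6)
      (x0 * dg6 c0 + x1 * dg6 c1 + x2 * dg6 c2 + x3 * dg6 c3 + x4 * dg6 c4 + x5 * dg6 c5 + x6 * dg6 c6) := by
  conv_lhs => rw [← h0, ← h1, ← h2, ← h3, ← h4, ← h5, ← h6]
  simp only [red, pack]; ring

theorem sum7_lt (x0 x1 x2 x3 x4 x5 x6 y0 y1 y2 y3 y4 y5 y6 : ℕ)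
    (hx0 : x0 < 11) (hx1 : x1 < 11) (hx2 : x2 < 11) (hx3 : x3 < 11) (hx4 : x4 < 11) (hx5 : x5 < 11) (hx6 : x6 < 11)
    (hy0 : y0 < 11) (hy1 : y1 < 11) (hy2 : y2 < 11) (hy3 : y3 < 11) (hy4 : y4 < 11) (hy5 : y5 < 11) (hy6 : y6 < 11) :
    x0 * y0 + x1 * y1 + x2 * y2 + x3 * y3 + x4 * y4 + x5 * y5 + x6 * y6 < 1331 := by
  have h0 := Nat.mul_le_mul (Nat.le_of_lt_succ hx0) (Nat.le_of_lt_succ hy0)
  have h1 := Nat.mul_le_mul (Nat.le_of_lt_succ hx1) (Nat.le_of_lt_succ hy1)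
  have h2 := Nat.mul_le_mul (Nat.le_of_lt_succ hx2) (Nat.le_of_lt_succ hy2)
  have h3 := Nat.mul_le_mul (Nat.le_of_lt_succ hx3) (Nat.le_of_lt_succ hy3)
  have h4 := Nat.mul_le_mul (Nat.le_of_lt_succ hx4) (Nat.le_of_lt_succ hy4)
  have h5 := Nat.mul_le_mul (Nat.le_of_lt_succ hx5) (Nat.le_of_lt_succ hy5)
  have h6 := Nat.mul_le_mul (Nat.le_of_lt_succ hx6) (Nat.le_of_lt_succ hy6)
  omega

theorem vec_mulVec7 (A : M7) (hA : A.IsRed) (v : ℕ) : vec (mulVec7 A v) = A.toMat.mulVec (vec v) := by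
  obtain ⟨h0, h1, h2, h3, h4, h5, h6⟩ := hA
  have b0 := sum7_lt (dg0 v) (dg1 v) (dg2 v) (dg3 v) (dg4 v) (dg5 v) (dg6 v) (dg0 A.c0) (dg0 A.c1) (dg0 A.c2) (dg0 A.c3) (dg0 A.c4) (dg0 A.c5) (dg0 A.c6)
    (dg0_lt _) (dg1_lt _) (dg2_lt _) (dg3_lt _) (dg4_lt _) (dg5_lt _) (dg6_lt _) (dg0_lt _) (dg0_lt _) (dg0_lt _) (dg0_lt _) (dg0_lt _) (dg0_lt _) (dg0_lt _)
  have b1 := sum7_lt (dg0 v) (dg1 v) (dg2 v) (dg3 v) (dg4 v) (dg5 v) (dg6 v) (dg1 A.c0) (dg1 A.c1) (dg1 A.c2) (dg1 A.c3) (dg1 A.c4) (dg1 A.c5) (dg1 A.c6)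
    (dg0_lt _) (dg1_lt _) (dg2_lt _) (dg3_lt _) (dg4_lt _) (dg5_lt _) (dg6_lt _) (dg1_lt _) (dg1_lt _) (dg1_lt _) (dg1_lt _) (dg1_lt _) (dg1_lt _) (dg1_lt _)
  have b2 := sum7_lt (dg0 v) (dg1 v) (dg2 v) (dg3 v) (dg4 v) (dg5 v) (dg6 v) (dg2 A.c0) (dg2 A.c1) (dg2 A.c2) (dg2 A.c3) (dg2 A.c4) (dg2 A.c5) (dg2 A.c6)
    (dg0_lt _) (dg1_lt _) (dg2_lt _) (dg3_lt _) (dg4_lt _) (dg5_lt _) (dg6_lt _) (dg2_lt _) (dg2_lt _) (dg2_lt _) (dg2_lt _) (dg2_lt _) (dg2_lt _) (dg2_lt _)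
  have b3 := sum7_lt (dg0 v) (dg1 v) (dg2 v) (dg3 v) (dg4 v) (dg5 v) (dg6 v) (dg3 A.c0) (dg3 A.c1) (dg3 A.c2) (dg3 A.c3) (dg3 A.c4) (dg3 A.c5) (dg3 A.c6)
    (dg0_lt _) (dg1_lt _) (dg2_lt _) (dg3_lt _) (dg4_lt _) (dg5_lt _) (dg6_lt _) (dg3_lt _) (dg3_lt _) (dg3_lt _) (dg3_lt _) (dg3_lt _) (dg3_lt _) (dg3_lt _)
  have b4 := sum7_lt (dg0 v) (dg1 v) (dg2 v) (dg3 v) (dg4 v) (dg5 v) (dg6 v) (dg4 A.c0) (dg4 A.c1) (dg4 A.c2) (dg4 A.c3) (dg4 A.c4) (dg4 A.c5) (dg4 A.c6)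
    (dg0_lt _) (dg1_lt _) (dg2_lt _) (dg3_lt _) (dg4_lt _) (dg5_lt _) (dg6_lt _) (dg4_lt _) (dg4_lt _) (dg4_lt _) (dg4_lt _) (dg4_lt _) (dg4_lt _) (dg4_lt _)
  have b5 := sum7_lt (dg0 v) (dg1 v) (dg2 v) (dg3 v) (dg4 v) (dg5 v) (dg6 v) (dg5 A.c0) (dg5 A.c1) (dg5 A.c2) (dg5 A.c3) (dg5 A.c4) (dg5 A.c5) (dg5 A.c6)
    (dg0_lt _) (dg1_lt _) (dg2_lt _) (dg3_lt _) (dg4_lt _) (dg5_lt _) (dg6_lt _) (dg5_lt _) (dg5_lt _) (dg5_lt _) (dg5_lt _) (dg5_lt _) (dg5_lt _) (dg5_lt _)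
  have b6 := sum7_lt (dg0 v) (dg1 v) (dg2 v) (dg3 v) (dg4 v) (dg5 v) (dg6 v) (dg6 A.c0) (dg6 A.c1) (dg6 A.c2) (dg6 A.c3) (dg6 A.c4) (dg6 A.c5) (dg6 A.c6)
    (dg0_lt _) (dg1_lt _) (dg2_lt _) (dg3_lt _) (dg4_lt _) (dg5_lt _) (dg6_lt _) (dg6_lt _) (dg6_lt _) (dg6_lt _) (dg6_lt _) (dg6_lt _) (dg6_lt _) (dg6_lt _)
  unfold mulVec7
  rw [vec_red]
  unfold lin
  rw [lin_eq _ _ _ _ _ _ _ _ _ _ _ _ _ _ h0 h1 h2 h3 h4 h5 h6, vec_pack _ _ _ _ _ _ _ b0 b1 b2 b3 b4 b5 b6]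
  funext i
  fin_cases i <;>
    simp [Matrix.mulVec, dotProduct, Fin.sum_univ_succ, M7.toMat, M7.col, vec] <;> ring

end Cfsg.Agent.Lib.Helper60.J1
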