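import Cfsg.Prelude.Def_Spor_J1
import Cfsg.Agent.Lib.Helper60.J1Chain

set_option autoImplicit false

/-!
# J1 project (helper60): the group `Cfsg.Spor.J1` and the bound `|J1| ≤ 175560`
-/

namespace Cfsg.Agent.Lib.Helper60.J1

open Cfsg

/-- the underlying-matrix map of `J1` -/
def ι : ↥Cfsg.Spor.J1 →* Mat := (Units.coeHom Mat).comp (Subgroup.subtype Cfsg.Spor.J1)

theorem ι_apply (g : ↥Cfsg.Spor.J1) : ι g = ((g : GL (Fin 7) (ZMod 11)) : Mat) := rfl

theorem ι_inj : Function.Injective ι := by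
  intro a b h
  exact Subtype.ext (Units.ext h)

/-- the generator `jankoX` as an element of `J1` -/
def gX : ↥Cfsg.Spor.J1 := ⟨Cfsg.Spor.jankoX, Subgroup.subset_closure (by simp)⟩
/-- the generator `jankoY` as an element of `J1` -/
def gY : ↥Cfsg.Spor.J1 := ⟨Cfsg.Spor.jankoY, Subgroup.subset_closure (by simp)⟩

theorem matX : Cfsg.jankoMatrixX = Xh.toMat := by
  ext i j
  fin_cases i <;> fin_cases j <;>
    simp [Cfsg.jankoMatrixX, M7.toMat, M7.col, Xh, vec, dg0, dg1, dg2, dg3, dg4, dg5, dg6]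

theorem matY : Cfsg.jankoMatrixY = Yh.toMat := by
  ext i j
  fin_cases i <;> fin_cases j <;>
    simp [Cfsg.jankoMatrixY, M7.toMat, M7.col, Yh, vec, dg0, dg1, dg2, dg3, dg4, dg5, dg6] <;> decide

theorem ι_gX : ι gX = Xh.toMat := matX
theorem ι_gY : ι gY = Yh.toMat := matY

/-- the two generators -/
def gen1 (i : ℕ) : ↥Cfsg.Spor.J1 := if i = 0 then gX else gY

theorem ι_gen1 (i : ℕ) : ι (gen1 i) = (g1 i).toMat := by
  unfold gen1 g1
  split_ifs
  · exact ι_gX
  · exact ι_gY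

theorem red_g1 (i : ℕ) : (g1 i).IsRed := by
  unfold g1; split_ifs
  · exact redXh
  · exact redYh

theorem red_g2 (i : ℕ) : (g2 i).IsRed := by
  unfold g2; split_ifs
  · exact redah
  · exact redbh
  · exact reddh

theorem red_g3 (i : ℕ) : (g3 i).IsRed := by
  unfold g3; split_ifs
  · exact redah
  · exact redbh

/-- the submonoid of matrices generated by the two Janko matrices -/
def Gm : Submonoid Mat := Submonoid.closure (Set.range fun i => (g1 i).toMat)
/-- the submonoid `L` -/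
def Lm : Submonoid Mat := Submonoid.closure (Set.range fun i => (g2 i).toMat)
/-- the submonoid `B` -/
def Bm : Submonoid Mat := Submonoid.closure (Set.range fun i => (g3 i).toMat)

theorem Bm_le_Lm : Bm ≤ Lm := by
  apply Submonoid.closure_mono
  rintro _ ⟨i, rfl⟩
  by_cases hi : i = 0
  · exact ⟨0, by simp [g2, g3, hi]⟩
  · exact ⟨1, by simp [g2, g3, hi]⟩

theorem level3 : ∀ g ∈ Bm, ∃ t ∈ {t : Mat | ∃ m ∈ M3, m.toMat = t}, ∃ k ∈ (⊥ : Submonoid Mat), g = t * k := by
  apply closure_subset_mul _ _ _ (one_mem_T M3 (mem_of_memL oneM3))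
  rintro _ ⟨i, rfl⟩
  beta_reduce
  have hK : ∀ k, (hw3 k).toMat ∈ (⊥ : Submonoid Mat) := fun k => by
    rw [hw3, M7.toMat_one]; exact Submonoid.one_mem _
  by_cases hi : i = 0
  · have e : g3 i = ah := by simp [g3, hi]
    rw [e]
    exact level_step ah redah M3 redM3 (mem_of_memL oneM3) hw3 idx3a chk3a _ hK
  · have e : g3 i = bh := by simp [g3, hi]
    rw [e]
    exact level_step bh redbh M3 redM3 (mem_of_memL oneM3) hw3 idx3b chk3b _ hK

theorem level2 : ∀ g ∈ Lm, ∃ t ∈ {t : Mat | ∃ m ∈ V, m.toMat = t}, ∃ k ∈ Bm, g = t * k := by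
  apply closure_subset_mul _ _ _ (one_mem_T V (mem_of_memL oneV))
  rintro _ ⟨i, rfl⟩
  beta_reduce
  have hK : ∀ k, (hw2 k).toMat ∈ Bm := fun k => getD_toMat_mem g3 red_g3 M3 M3w wordsM3 k
  by_cases hi : i = 0
  · have e : g2 i = ah := by simp [g2, hi]
    rw [e]
    exact level_step ah redah V redV (mem_of_memL oneV) hw2 idx2a chk2a _ hK
  · by_cases hi1 : i = 1
    · have e : g2 i = bh := by simp [g2, hi1]
      rw [e]
      exact level_step bh redbh V redV (mem_of_memL oneV) hw2 idx2b chk2b _ hK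
    · have e : g2 i = dh := by simp [g2, hi, hi1]
      rw [e]
      exact level_step dh reddh V redV (mem_of_memL oneV) hw2 idx2d chk2d _ hK

theorem level1 : ∀ g ∈ Gm, ∃ t ∈ {t : Mat | ∃ m ∈ U, m.toMat = t}, ∃ k ∈ Lm, g = t * k := by
  apply closure_subset_mul _ _ _ (one_mem_T U (mem_of_memL oneU))
  rintro _ ⟨i, rfl⟩
  beta_reduce
  have hK : ∀ k, (hw1 k).toMat ∈ Lm := fun k => by
    rw [hw1, M7.toMat_mul _ _ (getD_isRed V redV _)]
    exact Submonoid.mul_mem _ (getD_toMat_mem g2 red_g2 V Vw wordsV _)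
      (Bm_le_Lm (getD_toMat_mem g3 red_g3 M3 M3w wordsM3 _))
  by_cases hi : i = 0
  · have e : g1 i = Xh := by simp [g1, hi]
    rw [e]
    exact level_step Xh redXh U redU (mem_of_memL oneU) hw1 idx1X chk1X _ hK
  · have e : g1 i = Yh := by simp [g1, hi]
    rw [e]
    exact level_step Yh redYh U redU (mem_of_memL oneU) hw1 idx1Y chk1Y _ hK

theorem ncard_Gm_le : (Gm : Set Mat).ncard ≤ 175560 := by
  have h3 := ncard_closure_le _ M3 ⊥ level3
  have h2 := ncard_closure_le _ V Bm level2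
  have h1 := ncard_closure_le _ U Lm level1
  have hb : ((⊥ : Submonoid Mat) : Set Mat).ncard = 1 := by
    rw [Submonoid.coe_bot, Set.ncard_singleton]
  rw [lenM3, hb] at h3
  rw [lenV] at h2
  rw [lenU] at h1
  have h3' : (Bm : Set Mat).ncard ≤ 55 := h3
  have h2' : (Lm : Set Mat).ncard ≤ 12 * 55 := le_trans h2 (Nat.mul_le_mul_left _ h3')
  have h1' : (Gm : Set Mat).ncard ≤ 266 * (12 * 55) := le_trans h1 (Nat.mul_le_mul_left _ h2')
  exact h1'

theorem ι_mem_Gm (g : ↥Cfsg.Spor.J1) : ι g ∈ Gm := by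
  obtain ⟨g, hg⟩ := g
  have hg' : g ∈ Submonoid.closure ({Cfsg.Spor.jankoX, Cfsg.Spor.jankoY} : Set (GL (Fin 7) (ZMod 11))) := by
    rw [← Subgroup.closure_toSubmonoid_of_finite]; exact hg
  show ((g : GL (Fin 7) (ZMod 11)) : Mat) ∈ Gm
  clear hg
  induction hg' using Submonoid.closure_induction with
  | mem s hs =>
    rcases hs with rfl | rfl
    · exact Submonoid.subset_closure ⟨0, matX.symm⟩
    · exact Submonoid.subset_closure ⟨1, matY.symm⟩
  | one => exact Submonoid.one_mem _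
  | mul x y _ _ ihx ihy => rw [Units.val_mul]; exact Submonoid.mul_mem _ ihx ihy

theorem card_J1_le : Nat.card ↥Cfsg.Spor.J1 ≤ 175560 := by
  have h1 : Nat.card ↥Cfsg.Spor.J1 = (Set.range ι).ncard := by
    rw [← Nat.card_coe_set_eq]
    exact Nat.card_congr (Equiv.ofInjective ι ι_inj)
  rw [h1]
  refine le_trans (Set.ncard_le_ncard ?_ (Set.toFinite _)) ncard_Gm_le
  rintro _ ⟨g, rfl⟩
  exact ι_mem_Gm g

end Cfsg.Agent.Lib.Helper60.J1
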