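import Cfsg.Agent.Lib.Helper60.J2Model

/-!
# Data tables for the icosian model (helper60)

Generated offline; every property used is re-checked by the kernel.
-/

set_option autoImplicit false

namespace Cfsg.Agent.H60J2

/-- Doubled icosians with `nU = 4` together with their `nV`, bucketed by `a4`. -/
def T4 : List (List (Q8 × Int)) := [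
  [],
  [
    (⟨-1, -1, 0, 1, 0, 0, 1, 0⟩, 4), (⟨-1, 0, 0, 0, 0, -1, -1, -1⟩, 4), (⟨-1, 0, 0, 0, 0, 1, -1, 1⟩, 0),
    (⟨-1, 1, 0, -1, 0, 0, 1, 0⟩, 0), (⟨0, -1, -1, -1, 1, 0, 0, 0⟩, 4), (⟨0, -1, 1, -1, -1, 0, 0, 0⟩, 0),
    (⟨0, 0, -1, 0, -1, -1, 0, 1⟩, 4), (⟨0, 0, -1, 0, -1, 1, 0, -1⟩, 0), (⟨0, 0, 1, 0, 1, -1, 0, 1⟩, 0),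
    (⟨0, 0, 1, 0, 1, 1, 0, -1⟩, 4), (⟨0, 1, -1, 1, 1, 0, 0, 0⟩, 0), (⟨0, 1, 1, 1, -1, 0, 0, 0⟩, 4),
    (⟨1, -1, 0, 1, 0, 0, -1, 0⟩, 0), (⟨1, 0, 0, 0, 0, -1, 1, -1⟩, 0), (⟨1, 0, 0, 0, 0, 1, 1, 1⟩, 4),
    (⟨1, 1, 0, -1, 0, 0, -1, 0⟩, 4)],
  [
    (⟨-1, -1, -1, 0, 0, -1, 0, 0⟩, 4), (⟨-1, 0, 1, -1, 0, 0, 0, 1⟩, 0), (⟨-1, 0, 1, 1, 0, 0, 0, -1⟩, 4),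
    (⟨-1, 1, -1, 0, 0, 1, 0, 0⟩, 0), (⟨0, -1, 0, 0, -1, 1, -1, 0⟩, 0), (⟨0, -1, 0, 0, 1, 1, 1, 0⟩, 4),
    (⟨0, 0, 0, -1, -1, 0, 1, -1⟩, 0), (⟨0, 0, 0, -1, 1, 0, -1, -1⟩, 4), (⟨0, 0, 0, 1, -1, 0, 1, 1⟩, 4),
    (⟨0, 0, 0, 1, 1, 0, -1, 1⟩, 0), (⟨0, 1, 0, 0, -1, -1, -1, 0⟩, 4), (⟨0, 1, 0, 0, 1, -1, 1, 0⟩, 0),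
    (⟨1, -1, 1, 0, 0, -1, 0, 0⟩, 0), (⟨1, 0, -1, -1, 0, 0, 0, 1⟩, 4), (⟨1, 0, -1, 1, 0, 0, 0, -1⟩, 0),
    (⟨1, 1, 1, 0, 0, 1, 0, 0⟩, 4)],
  [
    (⟨-1, -1, 0, 0, 1, 0, 0, -1⟩, 4), (⟨-1, 0, 0, -1, -1, 1, 0, 0⟩, 0), (⟨-1, 0, 0, 1, -1, -1, 0, 0⟩, 4),
    (⟨-1, 1, 0, 0, 1, 0, 0, 1⟩, 0), (⟨0, -1, -1, 0, 0, 0, 1, 1⟩, 4), (⟨0, -1, 1, 0, 0, 0, -1, 1⟩, 0),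
    (⟨0, 0, -1, -1, 0, -1, -1, 0⟩, 4), (⟨0, 0, -1, 1, 0, 1, -1, 0⟩, 0), (⟨0, 0, 1, -1, 0, -1, 1, 0⟩, 0),
    (⟨0, 0, 1, 1, 0, 1, 1, 0⟩, 4), (⟨0, 1, -1, 0, 0, 0, 1, -1⟩, 0), (⟨0, 1, 1, 0, 0, 0, -1, -1⟩, 4),
    (⟨1, -1, 0, 0, -1, 0, 0, -1⟩, 0), (⟨1, 0, 0, -1, 1, 1, 0, 0⟩, 4), (⟨1, 0, 0, 1, 1, -1, 0, 0⟩, 0),
    (⟨1, 1, 0, 0, -1, 0, 0, 1⟩, 4)],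
  [
    (⟨-1, -1, 0, 1, 0, 0, -1, 0⟩, 4), (⟨-1, 0, 0, 0, 0, -1, 1, -1⟩, 0), (⟨-1, 0, 0, 0, 0, 1, 1, 1⟩, 4),
    (⟨-1, 1, 0, -1, 0, 0, -1, 0⟩, 0), (⟨0, -1, -1, -1, -1, 0, 0, 0⟩, 4), (⟨0, -1, 1, -1, 1, 0, 0, 0⟩, 0),
    (⟨0, 0, -1, 0, 1, -1, 0, 1⟩, 0), (⟨0, 0, -1, 0, 1, 1, 0, -1⟩, 4), (⟨0, 0, 1, 0, -1, -1, 0, 1⟩, 4),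
    (⟨0, 0, 1, 0, -1, 1, 0, -1⟩, 0), (⟨0, 1, -1, 1, -1, 0, 0, 0⟩, 0), (⟨0, 1, 1, 1, 1, 0, 0, 0⟩, 4),
    (⟨1, -1, 0, 1, 0, 0, 1, 0⟩, 0), (⟨1, 0, 0, 0, 0, -1, -1, -1⟩, 4), (⟨1, 0, 0, 0, 0, 1, -1, 1⟩, 0),
    (⟨1, 1, 0, -1, 0, 0, 1, 0⟩, 4)],
  [
    (⟨-2, 0, 0, 0, 0, 0, 0, 0⟩, 0), (⟨0, -1, 0, -1, 0, -1, 0, 1⟩, 4), (⟨0, -1, 0, -1, 0, 1, 0, -1⟩, 4),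
    (⟨0, -1, 0, 1, 0, -1, 0, -1⟩, 4), (⟨0, -1, 0, 1, 0, 1, 0, 1⟩, 4), (⟨0, 0, -2, 0, 0, 0, 0, 0⟩, 0),
    (⟨0, 0, 0, 0, -2, 0, 0, 0⟩, 0), (⟨0, 0, 0, 0, 0, 0, -2, 0⟩, 0), (⟨0, 0, 0, 0, 0, 0, 2, 0⟩, 0),
    (⟨0, 0, 0, 0, 2, 0, 0, 0⟩, 0), (⟨0, 0, 2, 0, 0, 0, 0, 0⟩, 0), (⟨0, 1, 0, -1, 0, -1, 0, -1⟩, 4),
    (⟨0, 1, 0, -1, 0, 1, 0, 1⟩, 4), (⟨0, 1, 0, 1, 0, -1, 0, 1⟩, 4), (⟨0, 1, 0, 1, 0, 1, 0, -1⟩, 4),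
    (⟨2, 0, 0, 0, 0, 0, 0, 0⟩, 0)],
  [
    (⟨-1, -1, 0, 0, -1, 0, 0, -1⟩, 4), (⟨-1, 0, 0, -1, 1, 1, 0, 0⟩, 4), (⟨-1, 0, 0, 1, 1, -1, 0, 0⟩, 0),
    (⟨-1, 1, 0, 0, -1, 0, 0, 1⟩, 0), (⟨0, -1, -1, 0, 0, 0, -1, 1⟩, 0), (⟨0, -1, 1, 0, 0, 0, 1, 1⟩, 4),
    (⟨0, 0, -1, -1, 0, -1, 1, 0⟩, 4), (⟨0, 0, -1, 1, 0, 1, 1, 0⟩, 0), (⟨0, 0, 1, -1, 0, -1, -1, 0⟩, 0),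
    (⟨0, 0, 1, 1, 0, 1, -1, 0⟩, 4), (⟨0, 1, -1, 0, 0, 0, -1, -1⟩, 4), (⟨0, 1, 1, 0, 0, 0, 1, -1⟩, 0),
    (⟨1, -1, 0, 0, 1, 0, 0, -1⟩, 0), (⟨1, 0, 0, -1, -1, 1, 0, 0⟩, 0), (⟨1, 0, 0, 1, -1, -1, 0, 0⟩, 4),
    (⟨1, 1, 0, 0, 1, 0, 0, 1⟩, 4)],
  [
    (⟨-1, -1, 1, 0, 0, -1, 0, 0⟩, 4), (⟨-1, 0, -1, -1, 0, 0, 0, 1⟩, 4), (⟨-1, 0, -1, 1, 0, 0, 0, -1⟩, 0),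
    (⟨-1, 1, 1, 0, 0, 1, 0, 0⟩, 0), (⟨0, -1, 0, 0, -1, 1, 1, 0⟩, 0), (⟨0, -1, 0, 0, 1, 1, -1, 0⟩, 4),
    (⟨0, 0, 0, -1, -1, 0, -1, -1⟩, 4), (⟨0, 0, 0, -1, 1, 0, 1, -1⟩, 0), (⟨0, 0, 0, 1, -1, 0, -1, 1⟩, 0),
    (⟨0, 0, 0, 1, 1, 0, 1, 1⟩, 4), (⟨0, 1, 0, 0, -1, -1, 1, 0⟩, 4), (⟨0, 1, 0, 0, 1, -1, -1, 0⟩, 0),
    (⟨1, -1, -1, 0, 0, -1, 0, 0⟩, 0), (⟨1, 0, 1, -1, 0, 0, 0, 1⟩, 0), (⟨1, 0, 1, 1, 0, 0, 0, -1⟩, 4),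
    (⟨1, 1, -1, 0, 0, 1, 0, 0⟩, 4)],
  [
    (⟨-1, -1, -1, 0, 0, 1, 0, 0⟩, 4), (⟨-1, 0, 1, -1, 0, 0, 0, -1⟩, 0), (⟨-1, 0, 1, 1, 0, 0, 0, 1⟩, 4),
    (⟨-1, 1, -1, 0, 0, -1, 0, 0⟩, 0), (⟨0, -1, 0, 0, -1, -1, -1, 0⟩, 4), (⟨0, -1, 0, 0, 1, -1, 1, 0⟩, 0),
    (⟨0, 0, 0, -1, -1, 0, 1, 1⟩, 4), (⟨0, 0, 0, -1, 1, 0, -1, 1⟩, 0), (⟨0, 0, 0, 1, -1, 0, 1, -1⟩, 0),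
    (⟨0, 0, 0, 1, 1, 0, -1, -1⟩, 4), (⟨0, 1, 0, 0, -1, 1, -1, 0⟩, 0), (⟨0, 1, 0, 0, 1, 1, 1, 0⟩, 4),
    (⟨1, -1, 1, 0, 0, 1, 0, 0⟩, 0), (⟨1, 0, -1, -1, 0, 0, 0, -1⟩, 4), (⟨1, 0, -1, 1, 0, 0, 0, 1⟩, 0),
    (⟨1, 1, 1, 0, 0, -1, 0, 0⟩, 4)],
  [
    (⟨-1, -1, 0, 0, 1, 0, 0, 1⟩, 4), (⟨-1, 0, 0, -1, -1, -1, 0, 0⟩, 4), (⟨-1, 0, 0, 1, -1, 1, 0, 0⟩, 0),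
    (⟨-1, 1, 0, 0, 1, 0, 0, -1⟩, 0), (⟨0, -1, -1, 0, 0, 0, 1, -1⟩, 0), (⟨0, -1, 1, 0, 0, 0, -1, -1⟩, 4),
    (⟨0, 0, -1, -1, 0, 1, -1, 0⟩, 4), (⟨0, 0, -1, 1, 0, -1, -1, 0⟩, 0), (⟨0, 0, 1, -1, 0, 1, 1, 0⟩, 0),
    (⟨0, 0, 1, 1, 0, -1, 1, 0⟩, 4), (⟨0, 1, -1, 0, 0, 0, 1, 1⟩, 4), (⟨0, 1, 1, 0, 0, 0, -1, 1⟩, 0),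
    (⟨1, -1, 0, 0, -1, 0, 0, 1⟩, 0), (⟨1, 0, 0, -1, 1, -1, 0, 0⟩, 0), (⟨1, 0, 0, 1, 1, 1, 0, 0⟩, 4),
    (⟨1, 1, 0, 0, -1, 0, 0, -1⟩, 4)],
  [
    (⟨-1, 0, -1, 0, -1, 0, -1, 0⟩, 0), (⟨-1, 0, -1, 0, 1, 0, 1, 0⟩, 0), (⟨-1, 0, 1, 0, -1, 0, 1, 0⟩, 0),
    (⟨-1, 0, 1, 0, 1, 0, -1, 0⟩, 0), (⟨0, -2, 0, 0, 0, 0, 0, 0⟩, 4), (⟨0, 0, 0, -2, 0, 0, 0, 0⟩, 4),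
    (⟨0, 0, 0, 0, 0, -2, 0, 0⟩, 4), (⟨0, 0, 0, 0, 0, 0, 0, -2⟩, 4), (⟨0, 0, 0, 0, 0, 0, 0, 2⟩, 4),
    (⟨0, 0, 0, 0, 0, 2, 0, 0⟩, 4), (⟨0, 0, 0, 2, 0, 0, 0, 0⟩, 4), (⟨0, 2, 0, 0, 0, 0, 0, 0⟩, 4),
    (⟨1, 0, -1, 0, -1, 0, 1, 0⟩, 0), (⟨1, 0, -1, 0, 1, 0, -1, 0⟩, 0), (⟨1, 0, 1, 0, -1, 0, -1, 0⟩, 0),
    (⟨1, 0, 1, 0, 1, 0, 1, 0⟩, 0)],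
  [
    (⟨-1, -1, 0, -1, 0, 0, 1, 0⟩, 4), (⟨-1, 0, 0, 0, 0, -1, -1, 1⟩, 0), (⟨-1, 0, 0, 0, 0, 1, -1, -1⟩, 4),
    (⟨-1, 1, 0, 1, 0, 0, 1, 0⟩, 0), (⟨0, -1, -1, 1, 1, 0, 0, 0⟩, 0), (⟨0, -1, 1, 1, -1, 0, 0, 0⟩, 4),
    (⟨0, 0, -1, 0, -1, -1, 0, -1⟩, 4), (⟨0, 0, -1, 0, -1, 1, 0, 1⟩, 0), (⟨0, 0, 1, 0, 1, -1, 0, -1⟩, 0),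
    (⟨0, 0, 1, 0, 1, 1, 0, 1⟩, 4), (⟨0, 1, -1, -1, 1, 0, 0, 0⟩, 4), (⟨0, 1, 1, -1, -1, 0, 0, 0⟩, 0),
    (⟨1, -1, 0, -1, 0, 0, -1, 0⟩, 0), (⟨1, 0, 0, 0, 0, -1, 1, 1⟩, 4), (⟨1, 0, 0, 0, 0, 1, 1, -1⟩, 0),
    (⟨1, 1, 0, 1, 0, 0, -1, 0⟩, 4)],
  [
    (⟨-1, -1, 0, 0, -1, 0, 0, 1⟩, 4), (⟨-1, 0, 0, -1, 1, -1, 0, 0⟩, 0), (⟨-1, 0, 0, 1, 1, 1, 0, 0⟩, 4),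
    (⟨-1, 1, 0, 0, -1, 0, 0, -1⟩, 0), (⟨0, -1, -1, 0, 0, 0, -1, -1⟩, 4), (⟨0, -1, 1, 0, 0, 0, 1, -1⟩, 0),
    (⟨0, 0, -1, -1, 0, 1, 1, 0⟩, 4), (⟨0, 0, -1, 1, 0, -1, 1, 0⟩, 0), (⟨0, 0, 1, -1, 0, 1, -1, 0⟩, 0),
    (⟨0, 0, 1, 1, 0, -1, -1, 0⟩, 4), (⟨0, 1, -1, 0, 0, 0, -1, 1⟩, 0), (⟨0, 1, 1, 0, 0, 0, 1, 1⟩, 4),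
    (⟨1, -1, 0, 0, 1, 0, 0, 1⟩, 0), (⟨1, 0, 0, -1, -1, -1, 0, 0⟩, 4), (⟨1, 0, 0, 1, -1, 1, 0, 0⟩, 0),
    (⟨1, 1, 0, 0, 1, 0, 0, -1⟩, 4)],
  [
    (⟨-1, -1, 1, 0, 0, 1, 0, 0⟩, 4), (⟨-1, 0, -1, -1, 0, 0, 0, -1⟩, 4), (⟨-1, 0, -1, 1, 0, 0, 0, 1⟩, 0),
    (⟨-1, 1, 1, 0, 0, -1, 0, 0⟩, 0), (⟨0, -1, 0, 0, -1, -1, 1, 0⟩, 4), (⟨0, -1, 0, 0, 1, -1, -1, 0⟩, 0),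
    (⟨0, 0, 0, -1, -1, 0, -1, 1⟩, 0), (⟨0, 0, 0, -1, 1, 0, 1, 1⟩, 4), (⟨0, 0, 0, 1, -1, 0, -1, -1⟩, 4),
    (⟨0, 0, 0, 1, 1, 0, 1, -1⟩, 0), (⟨0, 1, 0, 0, -1, 1, 1, 0⟩, 0), (⟨0, 1, 0, 0, 1, 1, -1, 0⟩, 4),
    (⟨1, -1, -1, 0, 0, 1, 0, 0⟩, 0), (⟨1, 0, 1, -1, 0, 0, 0, -1⟩, 0), (⟨1, 0, 1, 1, 0, 0, 0, 1⟩, 4),
    (⟨1, 1, -1, 0, 0, -1, 0, 0⟩, 4)],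
  [
    (⟨-1, -1, 0, -1, 0, 0, -1, 0⟩, 4), (⟨-1, 0, 0, 0, 0, -1, 1, 1⟩, 4), (⟨-1, 0, 0, 0, 0, 1, 1, -1⟩, 0),
    (⟨-1, 1, 0, 1, 0, 0, -1, 0⟩, 0), (⟨0, -1, -1, 1, -1, 0, 0, 0⟩, 0), (⟨0, -1, 1, 1, 1, 0, 0, 0⟩, 4),
    (⟨0, 0, -1, 0, 1, -1, 0, -1⟩, 0), (⟨0, 0, -1, 0, 1, 1, 0, 1⟩, 4), (⟨0, 0, 1, 0, -1, -1, 0, -1⟩, 4),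
    (⟨0, 0, 1, 0, -1, 1, 0, 1⟩, 0), (⟨0, 1, -1, -1, -1, 0, 0, 0⟩, 4), (⟨0, 1, 1, -1, 1, 0, 0, 0⟩, 0),
    (⟨1, -1, 0, -1, 0, 0, 1, 0⟩, 0), (⟨1, 0, 0, 0, 0, -1, -1, 1⟩, 0), (⟨1, 0, 0, 0, 0, 1, -1, -1⟩, 4),
    (⟨1, 1, 0, 1, 0, 0, 1, 0⟩, 4)],
  [
    (⟨-1, 0, -1, 0, -1, 0, 1, 0⟩, 0), (⟨-1, 0, -1, 0, 1, 0, -1, 0⟩, 0), (⟨-1, 0, 1, 0, -1, 0, -1, 0⟩, 0),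
    (⟨-1, 0, 1, 0, 1, 0, 1, 0⟩, 0), (⟨0, -1, 0, -1, 0, -1, 0, -1⟩, 4), (⟨0, -1, 0, -1, 0, 1, 0, 1⟩, 4),
    (⟨0, -1, 0, 1, 0, -1, 0, 1⟩, 4), (⟨0, -1, 0, 1, 0, 1, 0, -1⟩, 4), (⟨0, 1, 0, -1, 0, -1, 0, 1⟩, 4),
    (⟨0, 1, 0, -1, 0, 1, 0, -1⟩, 4), (⟨0, 1, 0, 1, 0, -1, 0, -1⟩, 4), (⟨0, 1, 0, 1, 0, 1, 0, 1⟩, 4),
    (⟨1, 0, -1, 0, -1, 0, -1, 0⟩, 0), (⟨1, 0, -1, 0, 1, 0, 1, 0⟩, 0), (⟨1, 0, 1, 0, -1, 0, 1, 0⟩, 0),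
    (⟨1, 0, 1, 0, 1, 0, -1, 0⟩, 0)]]

/-- Doubled icosians with `nU = 8`, indexed by `(nV + 8) / 4`, then `b4`, then `a4`. -/
def T8 : List (List (List (List Q8))) := [
  [
   [[], [], [], [], [], [], [], [], [], [], [], [], [], [], [], []],
   [[], [], [], [], [], [], [], [], [], [], [], [], [], [], [], []],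
   [[], [], [], [], [], [], [], [], [], [], [], [], [], [], [], []],
   [[], [], [], [], [], [], [], [], [], [], [], [], [], [], [], []],
   [[], [], [], [], [], [], [], [], [], [], [], [], [], [], [], []],
   [[], [], [], [], [], [], [], [], [], [], [], [], [], [], [], []],
   [[], [], [], [], [], [], [], [], [], [], [], [], [], [], [], []],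
   [[], [], [], [], [], [], [], [], [], [], [], [], [], [], [], []],
   [[], [], [], [], [], [], [], [], [], [], [], [], [], [], [], []],
   [[], [], [], [], [], [], [], [], [], [], [], [], [], [], [], []],
   [[], [], [], [], [], [], [], [], [], [], [], [], [], [], [], []],
   [[], [], [], [], [], [], [], [], [], [], [], [], [], [], [], []],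
   [[], [], [], [], [], [], [], [], [], [], [], [], [], [], [], []],
   [[], [], [], [], [], [], [], [], [], [], [], [], [], [], [], []],
   [[], [], [], [], [], [], [], [], [], [], [], [], [], [], [], []],
   [[], [], [], [], [], [], [], [], [], [], [], [], [], [], [], []]],
  [
   [[], [], [], [], [], [], [], [], [], [], [], [], [], [], [], []],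
   [[], [], [], [], [], [], [], [], [
      ⟨-1, 0, -1, 1, 0, 0, -2, 1⟩, ⟨1, 0, 1, -1, 0, 0, 2, -1⟩], [
      ⟨0, 0, -1, 1, 2, -1, 1, 0⟩, ⟨0, 0, 1, -1, -2, 1, -1, 0⟩], [
      ⟨-1, 1, -1, 1, -1, 1, 1, -1⟩, ⟨1, -1, 1, -1, 1, -1, -1, 1⟩], [
      ⟨-2, 1, 1, -1, 1, 0, 0, 0⟩, ⟨2, -1, -1, 1, -1, 0, 0, 0⟩], [], [], [], []],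
   [[], [
      ⟨-1, 1, 2, -1, 0, 0, -1, 0⟩, ⟨1, -1, -2, 1, 0, 0, 1, 0⟩], [], [], [], [
      ⟨-1, 1, -1, 1, -1, 1, -1, 1⟩, ⟨1, -1, 1, -1, 1, -1, 1, -1⟩], [], [], [], [
      ⟨-1, 1, 0, 0, -1, 0, 2, -1⟩, ⟨1, -1, 0, 0, 1, 0, -2, 1⟩], [], [], [], [
      ⟨-1, 1, -1, 0, 2, -1, 0, 0⟩, ⟨1, -1, 1, 0, -2, 1, 0, 0⟩], [], []],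
   [[], [
      ⟨-2, 1, -1, 1, -1, 0, 0, 0⟩, ⟨2, -1, 1, -1, 1, 0, 0, 0⟩], [], [], [], [], [
      ⟨-1, 0, 2, -1, -1, 1, 0, 0⟩, ⟨1, 0, -2, 1, 1, -1, 0, 0⟩], [], [
      ⟨-1, 1, 1, 0, 2, -1, 0, 0⟩, ⟨1, -1, -1, 0, -2, 1, 0, 0⟩], [], [], [], [], [], [], [
      ⟨0, 0, 0, 0, 0, 0, -2, 2⟩, ⟨0, 0, 0, 0, 0, 0, 2, -2⟩]],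
   [[], [], [
      ⟨-2, 1, 0, 0, 1, -1, -1, 0⟩, ⟨2, -1, 0, 0, -1, 1, 1, 0⟩], [], [], [], [], [
      ⟨-1, 1, -1, 0, -2, 1, 0, 0⟩, ⟨1, -1, 1, 0, 2, -1, 0, 0⟩], [
      ⟨0, 0, -2, 1, 1, 0, 1, -1⟩, ⟨0, 0, 2, -1, -1, 0, -1, 1⟩], [], [], [], [], [
      ⟨-1, 0, 1, -1, 0, 0, 2, -1⟩, ⟨1, 0, -1, 1, 0, 0, -2, 1⟩], [], []],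
   [[], [], [
      ⟨-1, 1, 1, 0, -2, 1, 0, 0⟩, ⟨1, -1, -1, 0, 2, -1, 0, 0⟩], [], [], [], [
      ⟨-1, 1, 0, 0, 1, 0, -2, 1⟩, ⟨1, -1, 0, 0, -1, 0, 2, -1⟩], [], [], [], [
      ⟨-1, 1, 1, -1, 1, -1, 1, -1⟩, ⟨1, -1, -1, 1, -1, 1, -1, 1⟩], [], [], [], [
      ⟨-1, 1, -2, 1, 0, 0, 1, 0⟩, ⟨1, -1, 2, -1, 0, 0, -1, 0⟩], []],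
   [[], [], [], [
      ⟨-1, 0, -2, 1, 1, -1, 0, 0⟩, ⟨1, 0, 2, -1, -1, 1, 0, 0⟩], [], [
      ⟨-1, 1, 1, -1, 1, -1, -1, 1⟩, ⟨1, -1, -1, 1, -1, 1, 1, -1⟩], [], [], [
      ⟨-2, 1, 0, 0, -1, 1, 1, 0⟩, ⟨2, -1, 0, 0, 1, -1, -1, 0⟩], [], [], [], [], [], [
      ⟨0, 0, -1, 0, -1, 1, -2, 1⟩, ⟨0, 0, 1, 0, 1, -1, 2, -1⟩], []],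
   [[], [], [], [
      ⟨0, 0, -1, 1, -2, 1, 1, 0⟩, ⟨0, 0, 1, -1, 2, -1, -1, 0⟩], [], [], [], [
      ⟨0, 0, -2, 1, 1, 0, -1, 1⟩, ⟨0, 0, 2, -1, -1, 0, 1, -1⟩], [], [], [], [
      ⟨0, 0, -1, 0, 1, -1, 2, -1⟩, ⟨0, 0, 1, 0, -1, 1, -2, 1⟩], [], [], [], [
      ⟨-2, 2, 0, 0, 0, 0, 0, 0⟩, ⟨2, -2, 0, 0, 0, 0, 0, 0⟩]],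
   [[], [
      ⟨-1, 0, 0, 0, 2, -1, 1, -1⟩, ⟨1, 0, 0, 0, -2, 1, -1, 1⟩], [], [], [
      ⟨0, 0, -1, 0, -1, 1, 2, -1⟩, ⟨0, 0, 1, 0, 1, -1, -2, 1⟩], [], [], [], [], [], [], [
      ⟨-1, 1, -2, 1, 0, 0, -1, 0⟩, ⟨1, -1, 2, -1, 0, 0, 1, 0⟩], [], [], [
      ⟨-2, 1, 1, -1, -1, 0, 0, 0⟩, ⟨2, -1, -1, 1, 1, 0, 0, 0⟩], []],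
   [[], [
      ⟨0, 0, -1, 0, 1, -1, -2, 1⟩, ⟨0, 0, 1, 0, -1, 1, 2, -1⟩], [], [], [], [], [], [
      ⟨-2, 1, 0, 0, 1, -1, 1, 0⟩, ⟨2, -1, 0, 0, -1, 1, -1, 0⟩], [], [], [
      ⟨-1, 1, 1, -1, -1, 1, -1, 1⟩, ⟨1, -1, -1, 1, 1, -1, 1, -1⟩], [], [
      ⟨-1, 0, -2, 1, -1, 1, 0, 0⟩, ⟨1, 0, 2, -1, 1, -1, 0, 0⟩], [], [], []],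
   [[], [], [], [], [
      ⟨-2, 1, -1, 1, 1, 0, 0, 0⟩, ⟨2, -1, 1, -1, -1, 0, 0, 0⟩], [
      ⟨-1, 1, 1, -1, -1, 1, 1, -1⟩, ⟨1, -1, -1, 1, 1, -1, -1, 1⟩], [
      ⟨0, 0, -1, 1, -2, 1, -1, 0⟩, ⟨0, 0, 1, -1, 2, -1, 1, 0⟩], [
      ⟨-1, 0, 1, -1, 0, 0, -2, 1⟩, ⟨1, 0, -1, 1, 0, 0, 2, -1⟩], [], [], [], [], [], [], [], []],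
   [[], [], [], [], [], [], [], [], [], [], [], [], [
      ⟨-1, 1, 0, 0, 1, 0, 2, -1⟩, ⟨1, -1, 0, 0, -1, 0, -2, 1⟩], [
      ⟨-2, 1, 0, 0, -1, 1, -1, 0⟩, ⟨2, -1, 0, 0, 1, -1, 1, 0⟩], [
      ⟨-1, 0, 0, 0, 2, -1, -1, 1⟩, ⟨1, 0, 0, 0, -2, 1, 1, -1⟩], [
      ⟨0, 0, -2, 2, 0, 0, 0, 0⟩, ⟨0, 0, 2, -2, 0, 0, 0, 0⟩]],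
   [[], [], [], [
      ⟨-1, 1, 0, 0, -1, 0, -2, 1⟩, ⟨1, -1, 0, 0, 1, 0, 2, -1⟩], [], [], [
      ⟨-2, 1, -1, 0, 0, 0, 1, -1⟩, ⟨2, -1, 1, 0, 0, 0, -1, 1⟩], [], [], [
      ⟨-1, 0, 2, -1, 1, -1, 0, 0⟩, ⟨1, 0, -2, 1, -1, 1, 0, 0⟩], [], [], [
      ⟨0, 0, -1, 1, 2, -1, -1, 0⟩, ⟨0, 0, 1, -1, -2, 1, 1, 0⟩], [], [], []],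
   [[], [], [], [
      ⟨-2, 1, 1, 0, 0, 0, 1, -1⟩, ⟨2, -1, -1, 0, 0, 0, -1, 1⟩], [
      ⟨-1, 0, 0, 0, -2, 1, -1, 1⟩, ⟨1, 0, 0, 0, 2, -1, 1, -1⟩], [], [], [], [], [], [
      ⟨-1, 1, -1, 1, 1, -1, -1, 1⟩, ⟨1, -1, 1, -1, -1, 1, 1, -1⟩], [], [], [
      ⟨0, 0, -2, 1, -1, 0, 1, -1⟩, ⟨0, 0, 2, -1, 1, 0, -1, 1⟩], [], []],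
   [[], [], [
      ⟨0, 0, -2, 1, -1, 0, -1, 1⟩, ⟨0, 0, 2, -1, 1, 0, 1, -1⟩], [], [], [
      ⟨-1, 1, -1, 1, 1, -1, 1, -1⟩, ⟨1, -1, 1, -1, -1, 1, -1, 1⟩], [], [], [], [], [], [
      ⟨-1, 0, 0, 0, -2, 1, 1, -1⟩, ⟨1, 0, 0, 0, 2, -1, -1, 1⟩], [
      ⟨-2, 1, 1, 0, 0, 0, -1, 1⟩, ⟨2, -1, -1, 0, 0, 0, 1, -1⟩], [], [], []],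
   [[], [], [
      ⟨-1, 0, -1, 1, 0, 0, 2, -1⟩, ⟨1, 0, 1, -1, 0, 0, -2, 1⟩], [], [
      ⟨-1, 1, 2, -1, 0, 0, 1, 0⟩, ⟨1, -1, -2, 1, 0, 0, -1, 0⟩], [], [], [], [], [
      ⟨-2, 1, -1, 0, 0, 0, -1, 1⟩, ⟨2, -1, 1, 0, 0, 0, 1, -1⟩], [], [], [], [], [], [
      ⟨0, 0, 0, 0, -2, 2, 0, 0⟩, ⟨0, 0, 0, 0, 2, -2, 0, 0⟩]]],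
  [
   [[], [
      ⟨-1, 0, -2, 0, 0, -1, 1, -1⟩, ⟨-1, 0, 0, 0, -2, 1, 1, 1⟩, ⟨-1, 0, 2, 0, 0, -1, 1, -1⟩, ⟨-1, 2, 0, 0, 0, -1, -1, 1⟩,
      ⟨1, -2, 0, 0, 0, 1, 1, -1⟩, ⟨1, 0, -2, 0, 0, 1, -1, 1⟩, ⟨1, 0, 0, 0, 2, -1, -1, -1⟩, ⟨1, 0, 2, 0, 0, 1, -1, 1⟩], [
      ⟨-2, 1, 0, 0, -1, -1, 1, 0⟩, ⟨0, -1, -2, 0, -1, 1, 1, 0⟩, ⟨0, -1, 0, 0, 1, -1, 1, -2⟩, ⟨0, -1, 2, 0, -1, 1, 1, 0⟩,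
      ⟨0, 1, -2, 0, 1, -1, -1, 0⟩, ⟨0, 1, 0, 0, -1, 1, -1, 2⟩, ⟨0, 1, 2, 0, 1, -1, -1, 0⟩, ⟨2, -1, 0, 0, 1, 1, -1, 0⟩], [
      ⟨-1, -1, 0, 0, -1, 0, 2, -1⟩, ⟨-1, 1, -2, 0, -1, 0, 0, 1⟩, ⟨-1, 1, 0, 0, 1, -2, 0, -1⟩, ⟨-1, 1, 2, 0, -1, 0, 0, 1⟩,
      ⟨1, -1, -2, 0, 1, 0, 0, -1⟩, ⟨1, -1, 0, 0, -1, 2, 0, 1⟩, ⟨1, -1, 2, 0, 1, 0, 0, -1⟩, ⟨1, 1, 0, 0, 1, 0, -2, 1⟩], [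
      ⟨-2, 0, -1, 0, -1, 1, 0, -1⟩, ⟨-2, 0, 1, 0, 1, -1, 0, 1⟩, ⟨0, 0, -1, 0, -1, -1, -2, 1⟩, ⟨0, 0, -1, 2, 1, -1, 0, -1⟩,
      ⟨0, 0, 1, -2, -1, 1, 0, 1⟩, ⟨0, 0, 1, 0, 1, 1, 2, -1⟩, ⟨2, 0, -1, 0, -1, 1, 0, -1⟩, ⟨2, 0, 1, 0, 1, -1, 0, 1⟩], [
      ⟨-1, 0, -1, 0, 1, 0, -1, 2⟩, ⟨-1, 0, -1, 2, -1, 0, 1, 0⟩, ⟨-1, 0, 1, 0, -1, 2, -1, 0⟩, ⟨-1, 2, 1, 0, 1, 0, 1, 0⟩,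
      ⟨1, -2, -1, 0, -1, 0, -1, 0⟩, ⟨1, 0, -1, 0, 1, -2, 1, 0⟩, ⟨1, 0, 1, -2, 1, 0, -1, 0⟩, ⟨1, 0, 1, 0, -1, 0, 1, -2⟩], [
      ⟨-2, 1, 1, 0, 0, 0, -1, -1⟩, ⟨0, -1, 1, -2, 0, 0, 1, -1⟩, ⟨0, -1, 1, 0, -2, 0, -1, 1⟩, ⟨0, -1, 1, 0, 2, 0, -1, 1⟩,
      ⟨0, 1, -1, 0, -2, 0, 1, -1⟩, ⟨0, 1, -1, 0, 2, 0, 1, -1⟩, ⟨0, 1, -1, 2, 0, 0, -1, 1⟩, ⟨2, -1, -1, 0, 0, 0, 1, 1⟩], [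
      ⟨-1, -1, -1, 0, 2, -1, 0, 0⟩, ⟨-1, 1, -1, 0, 0, 1, -2, 0⟩, ⟨-1, 1, -1, 0, 0, 1, 2, 0⟩, ⟨-1, 1, 1, -2, 0, -1, 0, 0⟩,
      ⟨1, -1, -1, 2, 0, 1, 0, 0⟩, ⟨1, -1, 1, 0, 0, -1, -2, 0⟩, ⟨1, -1, 1, 0, 0, -1, 2, 0⟩, ⟨1, 1, 1, 0, -2, 1, 0, 0⟩], [
      ⟨-2, 0, 0, -1, -1, 0, -1, 1⟩, ⟨-2, 0, 0, 1, 1, 0, 1, -1⟩, ⟨0, 0, -2, 1, -1, 0, -1, -1⟩, ⟨0, 0, 0, -1, -1, 2, 1, -1⟩,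
      ⟨0, 0, 0, 1, 1, -2, -1, 1⟩, ⟨0, 0, 2, -1, 1, 0, 1, 1⟩, ⟨2, 0, 0, -1, -1, 0, -1, 1⟩, ⟨2, 0, 0, 1, 1, 0, 1, -1⟩], [
      ⟨-1, 0, -2, 1, 1, 1, 0, 0⟩, ⟨-1, 0, 0, -1, 1, -1, -2, 0⟩, ⟨-1, 0, 0, -1, 1, -1, 2, 0⟩, ⟨-1, 2, 0, -1, -1, 1, 0, 0⟩,
      ⟨1, -2, 0, 1, 1, -1, 0, 0⟩, ⟨1, 0, 0, 1, -1, 1, -2, 0⟩, ⟨1, 0, 0, 1, -1, 1, 2, 0⟩, ⟨1, 0, 2, -1, -1, -1, 0, 0⟩], [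
      ⟨-2, 1, 0, 1, 0, 1, 0, 1⟩, ⟨0, -1, -2, 1, 0, -1, 0, 1⟩, ⟨0, -1, 0, -1, 0, 1, -2, 1⟩, ⟨0, -1, 0, 1, -2, 1, 0, -1⟩,
      ⟨0, 1, 0, -1, 2, -1, 0, 1⟩, ⟨0, 1, 0, 1, 0, -1, 2, -1⟩, ⟨0, 1, 2, -1, 0, 1, 0, -1⟩, ⟨2, -1, 0, -1, 0, -1, 0, -1⟩], [
      ⟨-1, -1, 2, -1, 0, 0, -1, 0⟩, ⟨-1, 1, 0, -1, 0, 0, 1, -2⟩, ⟨-1, 1, 0, 1, -2, 0, -1, 0⟩, ⟨-1, 1, 0, 1, 2, 0, -1, 0⟩,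
      ⟨1, -1, 0, -1, -2, 0, 1, 0⟩, ⟨1, -1, 0, -1, 2, 0, 1, 0⟩, ⟨1, -1, 0, 1, 0, 0, -1, 2⟩, ⟨1, 1, -2, 1, 0, 0, 1, 0⟩], [
      ⟨-2, 0, -1, 1, 0, -1, -1, 0⟩, ⟨-2, 0, 1, -1, 0, 1, 1, 0⟩, ⟨0, 0, -1, -1, -2, 1, -1, 0⟩, ⟨0, 0, -1, 1, 0, 1, 1, -2⟩,
      ⟨0, 0, 1, -1, 0, -1, -1, 2⟩, ⟨0, 0, 1, 1, 2, -1, 1, 0⟩, ⟨2, 0, -1, 1, 0, -1, -1, 0⟩, ⟨2, 0, 1, -1, 0, 1, 1, 0⟩], [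
      ⟨-1, 0, 1, -1, -2, 0, 0, -1⟩, ⟨-1, 0, 1, -1, 2, 0, 0, -1⟩, ⟨-1, 0, 1, 1, 0, 0, -2, 1⟩, ⟨-1, 2, -1, 1, 0, 0, 0, -1⟩,
      ⟨1, -2, 1, -1, 0, 0, 0, 1⟩, ⟨1, 0, -1, -1, 0, 0, 2, -1⟩, ⟨1, 0, -1, 1, -2, 0, 0, 1⟩, ⟨1, 0, -1, 1, 2, 0, 0, 1⟩], [
      ⟨-2, 1, -1, -1, 1, 0, 0, 0⟩, ⟨0, -1, -1, 1, 1, 0, -2, 0⟩, ⟨0, -1, -1, 1, 1, 0, 2, 0⟩, ⟨0, -1, 1, -1, 1, -2, 0, 0⟩,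
      ⟨0, 1, -1, 1, -1, 2, 0, 0⟩, ⟨0, 1, 1, -1, -1, 0, -2, 0⟩, ⟨0, 1, 1, -1, -1, 0, 2, 0⟩, ⟨2, -1, 1, 1, -1, 0, 0, 0⟩], [
      ⟨-1, -1, -1, 1, -1, 1, -1, 1⟩, ⟨-1, 1, -1, 1, 1, -1, 1, 1⟩, ⟨-1, 1, 1, -1, 1, 1, -1, 1⟩, ⟨-1, 1, 1, 1, -1, 1, 1, -1⟩,
      ⟨1, -1, -1, -1, 1, -1, -1, 1⟩, ⟨1, -1, -1, 1, -1, -1, 1, -1⟩, ⟨1, -1, 1, -1, -1, 1, -1, -1⟩, ⟨1, 1, 1, -1, 1, -1, 1, -1⟩]],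
   [[
      ⟨-1, 0, -1, 0, -1, 2, -1, 0⟩, ⟨-1, 0, 1, -2, -1, 0, 1, 0⟩, ⟨-1, 0, 1, 0, 1, 0, -1, 2⟩, ⟨-1, 2, -1, 0, 1, 0, 1, 0⟩,
      ⟨1, -2, 1, 0, -1, 0, -1, 0⟩, ⟨1, 0, -1, 0, -1, 0, 1, -2⟩, ⟨1, 0, -1, 2, 1, 0, -1, 0⟩, ⟨1, 0, 1, 0, 1, -2, 1, 0⟩], [
      ⟨-2, 0, -1, 0, 1, -1, 0, 1⟩, ⟨-2, 0, 1, 0, -1, 1, 0, -1⟩, ⟨0, 0, -1, 0, 1, 1, 2, -1⟩, ⟨0, 0, -1, 2, -1, 1, 0, 1⟩,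
      ⟨0, 0, 1, -2, 1, -1, 0, -1⟩, ⟨0, 0, 1, 0, -1, -1, -2, 1⟩, ⟨2, 0, -1, 0, 1, -1, 0, 1⟩, ⟨2, 0, 1, 0, -1, 1, 0, -1⟩], [
      ⟨-1, -1, 1, 0, 2, -1, 0, 0⟩, ⟨-1, 1, -1, 2, 0, -1, 0, 0⟩, ⟨-1, 1, 1, 0, 0, 1, -2, 0⟩, ⟨-1, 1, 1, 0, 0, 1, 2, 0⟩,
      ⟨1, -1, -1, 0, 0, -1, -2, 0⟩, ⟨1, -1, -1, 0, 0, -1, 2, 0⟩, ⟨1, -1, 1, -2, 0, 1, 0, 0⟩, ⟨1, 1, -1, 0, -2, 1, 0, 0⟩], [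
      ⟨-2, 1, -1, 0, 0, 0, -1, -1⟩, ⟨0, -1, -1, 0, -2, 0, -1, 1⟩, ⟨0, -1, -1, 0, 2, 0, -1, 1⟩, ⟨0, -1, -1, 2, 0, 0, 1, -1⟩,
      ⟨0, 1, 1, -2, 0, 0, -1, 1⟩, ⟨0, 1, 1, 0, -2, 0, 1, -1⟩, ⟨0, 1, 1, 0, 2, 0, 1, -1⟩, ⟨2, -1, 1, 0, 0, 0, 1, 1⟩], [], [], [], [], [], [], [], [], [], [], [], []],
   [[
      ⟨-2, 1, 0, -1, 0, -1, 0, -1⟩, ⟨0, -1, 0, -1, 2, -1, 0, 1⟩, ⟨0, -1, 0, 1, 0, -1, 2, -1⟩, ⟨0, -1, 2, -1, 0, 1, 0, -1⟩,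
      ⟨0, 1, -2, 1, 0, -1, 0, 1⟩, ⟨0, 1, 0, -1, 0, 1, -2, 1⟩, ⟨0, 1, 0, 1, -2, 1, 0, -1⟩, ⟨2, -1, 0, 1, 0, 1, 0, 1⟩], [], [], [], [
      ⟨-2, 1, 1, 1, -1, 0, 0, 0⟩, ⟨0, -1, -1, 1, -1, 2, 0, 0⟩, ⟨0, -1, 1, -1, -1, 0, -2, 0⟩, ⟨0, -1, 1, -1, -1, 0, 2, 0⟩,
      ⟨0, 1, -1, 1, 1, 0, -2, 0⟩, ⟨0, 1, -1, 1, 1, 0, 2, 0⟩, ⟨0, 1, 1, -1, 1, -2, 0, 0⟩, ⟨2, -1, -1, -1, 1, 0, 0, 0⟩], [], [], [], [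
      ⟨-2, 1, 0, 0, 1, 1, -1, 0⟩, ⟨0, -1, -2, 0, 1, -1, -1, 0⟩, ⟨0, -1, 0, 0, -1, 1, -1, 2⟩, ⟨0, -1, 2, 0, 1, -1, -1, 0⟩,
      ⟨0, 1, -2, 0, -1, 1, 1, 0⟩, ⟨0, 1, 0, 0, 1, -1, 1, -2⟩, ⟨0, 1, 2, 0, -1, 1, 1, 0⟩, ⟨2, -1, 0, 0, -1, -1, 1, 0⟩], [], [], [], [
      ⟨-2, 1, -1, 0, 0, 0, 1, 1⟩, ⟨0, -1, -1, 0, -2, 0, 1, -1⟩, ⟨0, -1, -1, 0, 2, 0, 1, -1⟩, ⟨0, -1, -1, 2, 0, 0, -1, 1⟩,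
      ⟨0, 1, 1, -2, 0, 0, 1, -1⟩, ⟨0, 1, 1, 0, -2, 0, -1, 1⟩, ⟨0, 1, 1, 0, 2, 0, -1, 1⟩, ⟨2, -1, 1, 0, 0, 0, -1, -1⟩], [], [], []],
   [[
      ⟨-1, -1, -1, 1, -1, 1, 1, -1⟩, ⟨-1, 1, -1, 1, 1, -1, -1, -1⟩, ⟨-1, 1, 1, -1, 1, 1, 1, -1⟩, ⟨-1, 1, 1, 1, -1, 1, -1, 1⟩,
      ⟨1, -1, -1, -1, 1, -1, 1, -1⟩, ⟨1, -1, -1, 1, -1, -1, -1, 1⟩, ⟨1, -1, 1, -1, -1, 1, 1, 1⟩, ⟨1, 1, 1, -1, 1, -1, -1, 1⟩], [], [], [], [], [], [], [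
      ⟨-2, 0, 0, -1, -1, 0, 1, -1⟩, ⟨-2, 0, 0, 1, 1, 0, -1, 1⟩, ⟨0, 0, -2, 1, -1, 0, 1, 1⟩, ⟨0, 0, 0, -1, -1, 2, -1, 1⟩,
      ⟨0, 0, 0, 1, 1, -2, 1, -1⟩, ⟨0, 0, 2, -1, 1, 0, -1, -1⟩, ⟨2, 0, 0, -1, -1, 0, 1, -1⟩, ⟨2, 0, 0, 1, 1, 0, -1, 1⟩], [], [
      ⟨-2, 1, 1, 0, 0, 0, 1, 1⟩, ⟨0, -1, 1, -2, 0, 0, -1, 1⟩, ⟨0, -1, 1, 0, -2, 0, 1, -1⟩, ⟨0, -1, 1, 0, 2, 0, 1, -1⟩,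
      ⟨0, 1, -1, 0, -2, 0, -1, 1⟩, ⟨0, 1, -1, 0, 2, 0, -1, 1⟩, ⟨0, 1, -1, 2, 0, 0, 1, -1⟩, ⟨2, -1, -1, 0, 0, 0, -1, -1⟩], [], [], [], [], [
      ⟨-1, 0, -2, 0, 0, -1, -1, 1⟩, ⟨-1, 0, 0, 0, -2, 1, -1, -1⟩, ⟨-1, 0, 2, 0, 0, -1, -1, 1⟩, ⟨-1, 2, 0, 0, 0, -1, 1, -1⟩,
      ⟨1, -2, 0, 0, 0, 1, -1, 1⟩, ⟨1, 0, -2, 0, 0, 1, 1, -1⟩, ⟨1, 0, 0, 0, 2, -1, 1, 1⟩, ⟨1, 0, 2, 0, 0, 1, 1, -1⟩], []],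
   [[
      ⟨-2, 0, -2, 0, 0, 0, 0, 0⟩, ⟨-2, 0, 2, 0, 0, 0, 0, 0⟩, ⟨0, 0, 0, 0, -2, 0, -2, 0⟩, ⟨0, 0, 0, 0, -2, 0, 2, 0⟩,
      ⟨0, 0, 0, 0, 2, 0, -2, 0⟩, ⟨0, 0, 0, 0, 2, 0, 2, 0⟩, ⟨2, 0, -2, 0, 0, 0, 0, 0⟩, ⟨2, 0, 2, 0, 0, 0, 0, 0⟩], [], [], [], [], [
      ⟨-1, 0, -1, 0, -1, 0, 1, -2⟩, ⟨-1, 0, -1, 2, 1, 0, -1, 0⟩, ⟨-1, 0, 1, 0, 1, -2, 1, 0⟩, ⟨-1, 2, 1, 0, -1, 0, -1, 0⟩,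
      ⟨1, -2, -1, 0, 1, 0, 1, 0⟩, ⟨1, 0, -1, 0, -1, 2, -1, 0⟩, ⟨1, 0, 1, -2, -1, 0, 1, 0⟩, ⟨1, 0, 1, 0, 1, 0, -1, 2⟩], [], [], [], [], [
      ⟨-2, 1, 0, -1, 0, 1, 0, -1⟩, ⟨0, -1, 0, -1, -2, 1, 0, 1⟩, ⟨0, -1, 0, 1, 0, 1, 2, -1⟩, ⟨0, -1, 2, -1, 0, -1, 0, -1⟩,
      ⟨0, 1, -2, 1, 0, 1, 0, 1⟩, ⟨0, 1, 0, -1, 0, -1, -2, 1⟩, ⟨0, 1, 0, 1, 2, -1, 0, -1⟩, ⟨2, -1, 0, 1, 0, -1, 0, 1⟩], [], [], [], [], [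
      ⟨-1, -1, 1, -1, 1, -1, -1, 1⟩, ⟨-1, 1, -1, -1, 1, -1, 1, -1⟩, ⟨-1, 1, -1, 1, -1, -1, -1, 1⟩, ⟨-1, 1, 1, -1, -1, 1, 1, 1⟩,
      ⟨1, -1, -1, 1, 1, -1, -1, -1⟩, ⟨1, -1, 1, -1, 1, 1, 1, -1⟩, ⟨1, -1, 1, 1, -1, 1, -1, 1⟩, ⟨1, 1, -1, 1, -1, 1, 1, -1⟩]],
   [[
      ⟨-1, 0, -1, 0, 1, -2, 1, 0⟩, ⟨-1, 0, 1, -2, 1, 0, -1, 0⟩, ⟨-1, 0, 1, 0, -1, 0, 1, -2⟩, ⟨-1, 2, -1, 0, -1, 0, -1, 0⟩,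
      ⟨1, -2, 1, 0, 1, 0, 1, 0⟩, ⟨1, 0, -1, 0, 1, 0, -1, 2⟩, ⟨1, 0, -1, 2, -1, 0, 1, 0⟩, ⟨1, 0, 1, 0, -1, 2, -1, 0⟩], [], [], [], [
      ⟨-1, 0, -2, 0, 0, 1, -1, 1⟩, ⟨-1, 0, 0, 0, 2, -1, -1, -1⟩, ⟨-1, 0, 2, 0, 0, 1, -1, 1⟩, ⟨-1, 2, 0, 0, 0, 1, 1, -1⟩,
      ⟨1, -2, 0, 0, 0, -1, -1, 1⟩, ⟨1, 0, -2, 0, 0, -1, 1, -1⟩, ⟨1, 0, 0, 0, -2, 1, 1, 1⟩, ⟨1, 0, 2, 0, 0, -1, 1, -1⟩], [], [], [], [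
      ⟨-1, 0, -1, -1, 0, 0, 2, -1⟩, ⟨-1, 0, -1, 1, -2, 0, 0, 1⟩, ⟨-1, 0, -1, 1, 2, 0, 0, 1⟩, ⟨-1, 2, 1, -1, 0, 0, 0, 1⟩,
      ⟨1, -2, -1, 1, 0, 0, 0, -1⟩, ⟨1, 0, 1, -1, -2, 0, 0, -1⟩, ⟨1, 0, 1, -1, 2, 0, 0, -1⟩, ⟨1, 0, 1, 1, 0, 0, -2, 1⟩], [], [], [], [
      ⟨-1, 0, 0, 1, -1, 1, -2, 0⟩, ⟨-1, 0, 0, 1, -1, 1, 2, 0⟩, ⟨-1, 0, 2, -1, -1, -1, 0, 0⟩, ⟨-1, 2, 0, 1, 1, -1, 0, 0⟩,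
      ⟨1, -2, 0, -1, -1, 1, 0, 0⟩, ⟨1, 0, -2, 1, 1, 1, 0, 0⟩, ⟨1, 0, 0, -1, 1, -1, -2, 0⟩, ⟨1, 0, 0, -1, 1, -1, 2, 0⟩], [], [], []],
   [[
      ⟨-2, 1, 0, 1, 0, -1, 0, 1⟩, ⟨0, -1, -2, 1, 0, 1, 0, 1⟩, ⟨0, -1, 0, -1, 0, -1, -2, 1⟩, ⟨0, -1, 0, 1, 2, -1, 0, -1⟩,
      ⟨0, 1, 0, -1, -2, 1, 0, 1⟩, ⟨0, 1, 0, 1, 0, 1, 2, -1⟩, ⟨0, 1, 2, -1, 0, -1, 0, -1⟩, ⟨2, -1, 0, -1, 0, 1, 0, -1⟩], [], [], [], [], [], [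
      ⟨-2, 0, -1, 1, 0, 1, -1, 0⟩, ⟨-2, 0, 1, -1, 0, -1, 1, 0⟩, ⟨0, 0, -1, -1, 2, -1, -1, 0⟩, ⟨0, 0, -1, 1, 0, -1, 1, -2⟩,
      ⟨0, 0, 1, -1, 0, 1, -1, 2⟩, ⟨0, 0, 1, 1, -2, 1, 1, 0⟩, ⟨2, 0, -1, 1, 0, 1, -1, 0⟩, ⟨2, 0, 1, -1, 0, -1, 1, 0⟩], [], [], [], [], [
      ⟨-1, 0, -2, 0, 0, 1, 1, -1⟩, ⟨-1, 0, 0, 0, 2, -1, 1, 1⟩, ⟨-1, 0, 2, 0, 0, 1, 1, -1⟩, ⟨-1, 2, 0, 0, 0, 1, -1, 1⟩,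
      ⟨1, -2, 0, 0, 0, -1, 1, -1⟩, ⟨1, 0, -2, 0, 0, -1, -1, 1⟩, ⟨1, 0, 0, 0, -2, 1, -1, -1⟩, ⟨1, 0, 2, 0, 0, -1, -1, 1⟩], [], [
      ⟨-1, -1, -1, 0, -2, 1, 0, 0⟩, ⟨-1, 1, -1, 0, 0, -1, -2, 0⟩, ⟨-1, 1, -1, 0, 0, -1, 2, 0⟩, ⟨-1, 1, 1, -2, 0, 1, 0, 0⟩,
      ⟨1, -1, -1, 2, 0, -1, 0, 0⟩, ⟨1, -1, 1, 0, 0, 1, -2, 0⟩, ⟨1, -1, 1, 0, 0, 1, 2, 0⟩, ⟨1, 1, 1, 0, 2, -1, 0, 0⟩], [], []],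
   [[
      ⟨-1, -1, 1, -1, 1, -1, 1, -1⟩, ⟨-1, 1, -1, -1, 1, -1, -1, 1⟩, ⟨-1, 1, -1, 1, -1, -1, 1, -1⟩, ⟨-1, 1, 1, -1, -1, 1, -1, -1⟩,
      ⟨1, -1, -1, 1, 1, -1, 1, 1⟩, ⟨1, -1, 1, -1, 1, 1, -1, 1⟩, ⟨1, -1, 1, 1, -1, 1, 1, -1⟩, ⟨1, 1, -1, 1, -1, 1, -1, 1⟩], [], [], [], [
      ⟨-1, -1, -2, 1, 0, 0, 1, 0⟩, ⟨-1, 1, 0, -1, -2, 0, 1, 0⟩, ⟨-1, 1, 0, -1, 2, 0, 1, 0⟩, ⟨-1, 1, 0, 1, 0, 0, -1, 2⟩,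
      ⟨1, -1, 0, -1, 0, 0, 1, -2⟩, ⟨1, -1, 0, 1, -2, 0, -1, 0⟩, ⟨1, -1, 0, 1, 2, 0, -1, 0⟩, ⟨1, 1, 2, -1, 0, 0, -1, 0⟩], [], [], [], [
      ⟨-1, -1, 1, 0, -2, 1, 0, 0⟩, ⟨-1, 1, -1, 2, 0, 1, 0, 0⟩, ⟨-1, 1, 1, 0, 0, -1, -2, 0⟩, ⟨-1, 1, 1, 0, 0, -1, 2, 0⟩,
      ⟨1, -1, -1, 0, 0, 1, -2, 0⟩, ⟨1, -1, -1, 0, 0, 1, 2, 0⟩, ⟨1, -1, 1, -2, 0, -1, 0, 0⟩, ⟨1, 1, -1, 0, 2, -1, 0, 0⟩], [], [], [], [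
      ⟨-1, -1, 0, 0, 1, 0, -2, 1⟩, ⟨-1, 1, -2, 0, 1, 0, 0, -1⟩, ⟨-1, 1, 0, 0, -1, 2, 0, 1⟩, ⟨-1, 1, 2, 0, 1, 0, 0, -1⟩,
      ⟨1, -1, -2, 0, -1, 0, 0, 1⟩, ⟨1, -1, 0, 0, 1, -2, 0, -1⟩, ⟨1, -1, 2, 0, -1, 0, 0, 1⟩, ⟨1, 1, 0, 0, -1, 0, 2, -1⟩], [], [], []],
   [[
      ⟨-2, 0, 0, 0, 0, 0, -2, 0⟩, ⟨-2, 0, 0, 0, 0, 0, 2, 0⟩, ⟨0, 0, -2, 0, -2, 0, 0, 0⟩, ⟨0, 0, -2, 0, 2, 0, 0, 0⟩,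
      ⟨0, 0, 2, 0, -2, 0, 0, 0⟩, ⟨0, 0, 2, 0, 2, 0, 0, 0⟩, ⟨2, 0, 0, 0, 0, 0, -2, 0⟩, ⟨2, 0, 0, 0, 0, 0, 2, 0⟩], [], [], [], [], [
      ⟨-1, 0, -1, 0, 1, -2, -1, 0⟩, ⟨-1, 0, 1, -2, 1, 0, 1, 0⟩, ⟨-1, 0, 1, 0, -1, 0, -1, 2⟩, ⟨-1, 2, -1, 0, -1, 0, 1, 0⟩,
      ⟨1, -2, 1, 0, 1, 0, -1, 0⟩, ⟨1, 0, -1, 0, 1, 0, 1, -2⟩, ⟨1, 0, -1, 2, -1, 0, -1, 0⟩, ⟨1, 0, 1, 0, -1, 2, 1, 0⟩], [], [], [], [], [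
      ⟨-2, 1, 0, 1, 0, -1, 0, -1⟩, ⟨0, -1, -2, 1, 0, 1, 0, -1⟩, ⟨0, -1, 0, -1, 0, -1, 2, -1⟩, ⟨0, -1, 0, 1, 2, -1, 0, 1⟩,
      ⟨0, 1, 0, -1, -2, 1, 0, -1⟩, ⟨0, 1, 0, 1, 0, 1, -2, 1⟩, ⟨0, 1, 2, -1, 0, -1, 0, 1⟩, ⟨2, -1, 0, -1, 0, 1, 0, 1⟩], [], [], [], [], [
      ⟨-1, -1, 1, -1, -1, 1, 1, -1⟩, ⟨-1, 1, -1, -1, -1, 1, -1, 1⟩, ⟨-1, 1, -1, 1, 1, 1, 1, -1⟩, ⟨-1, 1, 1, -1, 1, -1, -1, -1⟩,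
      ⟨1, -1, -1, 1, -1, 1, 1, 1⟩, ⟨1, -1, 1, -1, -1, -1, -1, 1⟩, ⟨1, -1, 1, 1, 1, -1, 1, -1⟩, ⟨1, 1, -1, 1, 1, -1, -1, 1⟩]],
   [[
      ⟨-1, 0, -1, 0, -1, 0, -1, 2⟩, ⟨-1, 0, -1, 2, 1, 0, 1, 0⟩, ⟨-1, 0, 1, 0, 1, -2, -1, 0⟩, ⟨-1, 2, 1, 0, -1, 0, 1, 0⟩,
      ⟨1, -2, -1, 0, 1, 0, -1, 0⟩, ⟨1, 0, -1, 0, -1, 2, 1, 0⟩, ⟨1, 0, 1, -2, -1, 0, -1, 0⟩, ⟨1, 0, 1, 0, 1, 0, 1, -2⟩], [], [], [], [], [], [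
      ⟨-1, -1, 0, 0, 1, 0, 2, -1⟩, ⟨-1, 1, -2, 0, 1, 0, 0, 1⟩, ⟨-1, 1, 0, 0, -1, 2, 0, -1⟩, ⟨-1, 1, 2, 0, 1, 0, 0, 1⟩,
      ⟨1, -1, -2, 0, -1, 0, 0, -1⟩, ⟨1, -1, 0, 0, 1, -2, 0, 1⟩, ⟨1, -1, 2, 0, -1, 0, 0, -1⟩, ⟨1, 1, 0, 0, -1, 0, -2, 1⟩], [], [], [], [], [
      ⟨-2, 1, -1, -1, -1, 0, 0, 0⟩, ⟨0, -1, -1, 1, -1, 0, -2, 0⟩, ⟨0, -1, -1, 1, -1, 0, 2, 0⟩, ⟨0, -1, 1, -1, -1, 2, 0, 0⟩,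
      ⟨0, 1, -1, 1, 1, -2, 0, 0⟩, ⟨0, 1, 1, -1, 1, 0, -2, 0⟩, ⟨0, 1, 1, -1, 1, 0, 2, 0⟩, ⟨2, -1, 1, 1, 1, 0, 0, 0⟩], [], [
      ⟨-2, 0, 0, -1, 1, 0, -1, 1⟩, ⟨-2, 0, 0, 1, -1, 0, 1, -1⟩, ⟨0, 0, -2, 1, 1, 0, -1, -1⟩, ⟨0, 0, 0, -1, 1, -2, 1, -1⟩,
      ⟨0, 0, 0, 1, -1, 2, -1, 1⟩, ⟨0, 0, 2, -1, -1, 0, 1, 1⟩, ⟨2, 0, 0, -1, 1, 0, -1, 1⟩, ⟨2, 0, 0, 1, -1, 0, 1, -1⟩], [], []],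
   [[
      ⟨-2, 1, 0, -1, 0, 1, 0, 1⟩, ⟨0, -1, 0, -1, -2, 1, 0, -1⟩, ⟨0, -1, 0, 1, 0, 1, -2, 1⟩, ⟨0, -1, 2, -1, 0, -1, 0, 1⟩,
      ⟨0, 1, -2, 1, 0, 1, 0, -1⟩, ⟨0, 1, 0, -1, 0, -1, 2, -1⟩, ⟨0, 1, 0, 1, 2, -1, 0, 1⟩, ⟨2, -1, 0, 1, 0, -1, 0, -1⟩], [
      ⟨-1, -1, -2, 1, 0, 0, -1, 0⟩, ⟨-1, 1, 0, -1, -2, 0, -1, 0⟩, ⟨-1, 1, 0, -1, 2, 0, -1, 0⟩, ⟨-1, 1, 0, 1, 0, 0, 1, -2⟩,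
      ⟨1, -1, 0, -1, 0, 0, -1, 2⟩, ⟨1, -1, 0, 1, -2, 0, 1, 0⟩, ⟨1, -1, 0, 1, 2, 0, 1, 0⟩, ⟨1, 1, 2, -1, 0, 0, 1, 0⟩], [
      ⟨-2, 0, 0, -1, 1, 0, 1, -1⟩, ⟨-2, 0, 0, 1, -1, 0, -1, 1⟩, ⟨0, 0, -2, 1, 1, 0, 1, 1⟩, ⟨0, 0, 0, -1, 1, -2, -1, 1⟩,
      ⟨0, 0, 0, 1, -1, 2, 1, -1⟩, ⟨0, 0, 2, -1, -1, 0, -1, -1⟩, ⟨2, 0, 0, -1, 1, 0, 1, -1⟩, ⟨2, 0, 0, 1, -1, 0, -1, 1⟩], [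
      ⟨-1, 0, 0, 1, 1, -1, -2, 0⟩, ⟨-1, 0, 0, 1, 1, -1, 2, 0⟩, ⟨-1, 0, 2, -1, 1, 1, 0, 0⟩, ⟨-1, 2, 0, 1, -1, 1, 0, 0⟩,
      ⟨1, -2, 0, -1, 1, -1, 0, 0⟩, ⟨1, 0, -2, 1, -1, -1, 0, 0⟩, ⟨1, 0, 0, -1, -1, 1, -2, 0⟩, ⟨1, 0, 0, -1, -1, 1, 2, 0⟩], [], [], [], [], [], [], [], [], [], [], [], []],
   [[
      ⟨-1, -1, 1, -1, -1, 1, -1, 1⟩, ⟨-1, 1, -1, -1, -1, 1, 1, -1⟩, ⟨-1, 1, -1, 1, 1, 1, -1, 1⟩, ⟨-1, 1, 1, -1, 1, -1, 1, 1⟩,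
      ⟨1, -1, -1, 1, -1, 1, -1, -1⟩, ⟨1, -1, 1, -1, -1, -1, 1, -1⟩, ⟨1, -1, 1, 1, 1, -1, -1, 1⟩, ⟨1, 1, -1, 1, 1, -1, 1, -1⟩], [
      ⟨-2, 1, 1, 1, 1, 0, 0, 0⟩, ⟨0, -1, -1, 1, 1, -2, 0, 0⟩, ⟨0, -1, 1, -1, 1, 0, -2, 0⟩, ⟨0, -1, 1, -1, 1, 0, 2, 0⟩,
      ⟨0, 1, -1, 1, -1, 0, -2, 0⟩, ⟨0, 1, -1, 1, -1, 0, 2, 0⟩, ⟨0, 1, 1, -1, -1, 2, 0, 0⟩, ⟨2, -1, -1, -1, -1, 0, 0, 0⟩], [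
      ⟨-1, 0, -1, -1, 0, 0, -2, 1⟩, ⟨-1, 0, -1, 1, -2, 0, 0, -1⟩, ⟨-1, 0, -1, 1, 2, 0, 0, -1⟩, ⟨-1, 2, 1, -1, 0, 0, 0, -1⟩,
      ⟨1, -2, -1, 1, 0, 0, 0, 1⟩, ⟨1, 0, 1, -1, -2, 0, 0, 1⟩, ⟨1, 0, 1, -1, 2, 0, 0, 1⟩, ⟨1, 0, 1, 1, 0, 0, 2, -1⟩], [
      ⟨-2, 0, -1, 1, 0, 1, 1, 0⟩, ⟨-2, 0, 1, -1, 0, -1, -1, 0⟩, ⟨0, 0, -1, -1, 2, -1, 1, 0⟩, ⟨0, 0, -1, 1, 0, -1, -1, 2⟩,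
      ⟨0, 0, 1, -1, 0, 1, 1, -2⟩, ⟨0, 0, 1, 1, -2, 1, -1, 0⟩, ⟨2, 0, -1, 1, 0, 1, 1, 0⟩, ⟨2, 0, 1, -1, 0, -1, -1, 0⟩], [], [], [], [], [], [], [], [], [], [], [], []],
   [[
      ⟨-2, 0, 0, 0, -2, 0, 0, 0⟩, ⟨-2, 0, 0, 0, 2, 0, 0, 0⟩, ⟨0, 0, -2, 0, 0, 0, -2, 0⟩, ⟨0, 0, -2, 0, 0, 0, 2, 0⟩,
      ⟨0, 0, 2, 0, 0, 0, -2, 0⟩, ⟨0, 0, 2, 0, 0, 0, 2, 0⟩, ⟨2, 0, 0, 0, -2, 0, 0, 0⟩, ⟨2, 0, 0, 0, 2, 0, 0, 0⟩], [], [], [], [], [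
      ⟨-1, 0, -1, 0, -1, 2, 1, 0⟩, ⟨-1, 0, 1, -2, -1, 0, -1, 0⟩, ⟨-1, 0, 1, 0, 1, 0, 1, -2⟩, ⟨-1, 2, -1, 0, 1, 0, -1, 0⟩,
      ⟨1, -2, 1, 0, -1, 0, 1, 0⟩, ⟨1, 0, -1, 0, -1, 0, -1, 2⟩, ⟨1, 0, -1, 2, 1, 0, 1, 0⟩, ⟨1, 0, 1, 0, 1, -2, -1, 0⟩], [], [], [], [], [
      ⟨-2, 1, 0, -1, 0, -1, 0, 1⟩, ⟨0, -1, 0, -1, 2, -1, 0, -1⟩, ⟨0, -1, 0, 1, 0, -1, -2, 1⟩, ⟨0, -1, 2, -1, 0, 1, 0, 1⟩,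
      ⟨0, 1, -2, 1, 0, -1, 0, -1⟩, ⟨0, 1, 0, -1, 0, 1, 2, -1⟩, ⟨0, 1, 0, 1, -2, 1, 0, 1⟩, ⟨2, -1, 0, 1, 0, 1, 0, -1⟩], [], [], [], [], [
      ⟨-1, -1, -1, 1, 1, -1, 1, -1⟩, ⟨-1, 1, -1, 1, -1, 1, -1, -1⟩, ⟨-1, 1, 1, -1, -1, -1, 1, -1⟩, ⟨-1, 1, 1, 1, 1, -1, -1, 1⟩,
      ⟨1, -1, -1, -1, -1, 1, 1, -1⟩, ⟨1, -1, -1, 1, 1, 1, -1, 1⟩, ⟨1, -1, 1, -1, 1, -1, 1, 1⟩, ⟨1, 1, 1, -1, -1, 1, -1, 1⟩]],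
   [[
      ⟨-1, 0, -1, 0, 1, 0, 1, -2⟩, ⟨-1, 0, -1, 2, -1, 0, -1, 0⟩, ⟨-1, 0, 1, 0, -1, 2, 1, 0⟩, ⟨-1, 2, 1, 0, 1, 0, -1, 0⟩,
      ⟨1, -2, -1, 0, -1, 0, 1, 0⟩, ⟨1, 0, -1, 0, 1, -2, -1, 0⟩, ⟨1, 0, 1, -2, 1, 0, 1, 0⟩, ⟨1, 0, 1, 0, -1, 0, -1, 2⟩], [], [], [], [], [], [], [
      ⟨-2, 1, 0, 0, -1, -1, -1, 0⟩, ⟨0, -1, -2, 0, -1, 1, -1, 0⟩, ⟨0, -1, 0, 0, 1, -1, -1, 2⟩, ⟨0, -1, 2, 0, -1, 1, -1, 0⟩,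
      ⟨0, 1, -2, 0, 1, -1, 1, 0⟩, ⟨0, 1, 0, 0, -1, 1, 1, -2⟩, ⟨0, 1, 2, 0, 1, -1, 1, 0⟩, ⟨2, -1, 0, 0, 1, 1, 1, 0⟩], [], [
      ⟨-2, 0, -1, 1, 0, -1, 1, 0⟩, ⟨-2, 0, 1, -1, 0, 1, -1, 0⟩, ⟨0, 0, -1, -1, -2, 1, 1, 0⟩, ⟨0, 0, -1, 1, 0, 1, -1, 2⟩,
      ⟨0, 0, 1, -1, 0, -1, 1, -2⟩, ⟨0, 0, 1, 1, 2, -1, -1, 0⟩, ⟨2, 0, -1, 1, 0, -1, 1, 0⟩, ⟨2, 0, 1, -1, 0, 1, -1, 0⟩], [], [], [], [], [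
      ⟨-1, -1, 2, -1, 0, 0, 1, 0⟩, ⟨-1, 1, 0, -1, 0, 0, -1, 2⟩, ⟨-1, 1, 0, 1, -2, 0, 1, 0⟩, ⟨-1, 1, 0, 1, 2, 0, 1, 0⟩,
      ⟨1, -1, 0, -1, -2, 0, -1, 0⟩, ⟨1, -1, 0, -1, 2, 0, -1, 0⟩, ⟨1, -1, 0, 1, 0, 0, 1, -2⟩, ⟨1, 1, -2, 1, 0, 0, -1, 0⟩], []],
   [[
      ⟨-2, 1, 0, 1, 0, 1, 0, -1⟩, ⟨0, -1, -2, 1, 0, -1, 0, -1⟩, ⟨0, -1, 0, -1, 0, 1, 2, -1⟩, ⟨0, -1, 0, 1, -2, 1, 0, 1⟩,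
      ⟨0, 1, 0, -1, 2, -1, 0, -1⟩, ⟨0, 1, 0, 1, 0, -1, -2, 1⟩, ⟨0, 1, 2, -1, 0, 1, 0, 1⟩, ⟨2, -1, 0, -1, 0, -1, 0, 1⟩], [], [], [], [], [], [], [
      ⟨-1, 0, 1, -1, -2, 0, 0, 1⟩, ⟨-1, 0, 1, -1, 2, 0, 0, 1⟩, ⟨-1, 0, 1, 1, 0, 0, 2, -1⟩, ⟨-1, 2, -1, 1, 0, 0, 0, 1⟩,
      ⟨1, -2, 1, -1, 0, 0, 0, -1⟩, ⟨1, 0, -1, -1, 0, 0, -2, 1⟩, ⟨1, 0, -1, 1, -2, 0, 0, -1⟩, ⟨1, 0, -1, 1, 2, 0, 0, -1⟩], [], [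
      ⟨-1, -1, 0, 0, -1, 0, -2, 1⟩, ⟨-1, 1, -2, 0, -1, 0, 0, -1⟩, ⟨-1, 1, 0, 0, 1, -2, 0, 1⟩, ⟨-1, 1, 2, 0, -1, 0, 0, -1⟩,
      ⟨1, -1, -2, 0, 1, 0, 0, 1⟩, ⟨1, -1, 0, 0, -1, 2, 0, -1⟩, ⟨1, -1, 2, 0, 1, 0, 0, 1⟩, ⟨1, 1, 0, 0, 1, 0, 2, -1⟩], [], [], [], [], [
      ⟨-2, 0, -1, 0, -1, 1, 0, 1⟩, ⟨-2, 0, 1, 0, 1, -1, 0, -1⟩, ⟨0, 0, -1, 0, -1, -1, 2, -1⟩, ⟨0, 0, -1, 2, 1, -1, 0, 1⟩,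
      ⟨0, 0, 1, -2, -1, 1, 0, -1⟩, ⟨0, 0, 1, 0, 1, 1, -2, 1⟩, ⟨2, 0, -1, 0, -1, 1, 0, 1⟩, ⟨2, 0, 1, 0, 1, -1, 0, -1⟩], []],
   [[
      ⟨-1, -1, -1, 1, 1, -1, -1, 1⟩, ⟨-1, 1, -1, 1, -1, 1, 1, 1⟩, ⟨-1, 1, 1, -1, -1, -1, -1, 1⟩, ⟨-1, 1, 1, 1, 1, -1, 1, -1⟩,
      ⟨1, -1, -1, -1, -1, 1, -1, 1⟩, ⟨1, -1, -1, 1, 1, 1, 1, -1⟩, ⟨1, -1, 1, -1, 1, -1, -1, -1⟩, ⟨1, 1, 1, -1, -1, 1, 1, -1⟩], [], [], [], [], [], [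
      ⟨-1, 0, -2, 1, -1, -1, 0, 0⟩, ⟨-1, 0, 0, -1, -1, 1, -2, 0⟩, ⟨-1, 0, 0, -1, -1, 1, 2, 0⟩, ⟨-1, 2, 0, -1, 1, -1, 0, 0⟩,
      ⟨1, -2, 0, 1, -1, 1, 0, 0⟩, ⟨1, 0, 0, 1, 1, -1, -2, 0⟩, ⟨1, 0, 0, 1, 1, -1, 2, 0⟩, ⟨1, 0, 2, -1, 1, 1, 0, 0⟩], [], [], [], [], [
      ⟨-2, 0, -1, 0, 1, -1, 0, -1⟩, ⟨-2, 0, 1, 0, -1, 1, 0, 1⟩, ⟨0, 0, -1, 0, 1, 1, -2, 1⟩, ⟨0, 0, -1, 2, -1, 1, 0, -1⟩,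
      ⟨0, 0, 1, -2, 1, -1, 0, 1⟩, ⟨0, 0, 1, 0, -1, -1, 2, -1⟩, ⟨2, 0, -1, 0, 1, -1, 0, -1⟩, ⟨2, 0, 1, 0, -1, 1, 0, 1⟩], [], [
      ⟨-2, 1, 0, 0, 1, 1, 1, 0⟩, ⟨0, -1, -2, 0, 1, -1, 1, 0⟩, ⟨0, -1, 0, 0, -1, 1, 1, -2⟩, ⟨0, -1, 2, 0, 1, -1, 1, 0⟩,
      ⟨0, 1, -2, 0, -1, 1, -1, 0⟩, ⟨0, 1, 0, 0, 1, -1, -1, 2⟩, ⟨0, 1, 2, 0, -1, 1, -1, 0⟩, ⟨2, -1, 0, 0, -1, -1, -1, 0⟩], [], []]],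
  [
   [[], [], [], [], [], [], [], [], [], [], [], [], [], [], [], []],
   [[], [], [], [], [], [], [], [], [
      ⟨-1, 0, -1, -1, -2, 0, 0, -1⟩, ⟨-1, 0, -1, -1, 2, 0, 0, -1⟩, ⟨-1, 0, -1, 1, 0, 0, 2, 1⟩, ⟨-1, 0, 1, -1, 0, -2, 0, 1⟩,
      ⟨-1, 0, 1, -1, 0, 2, 0, 1⟩, ⟨-1, 2, 1, 1, 0, 0, 0, -1⟩, ⟨1, -2, -1, -1, 0, 0, 0, 1⟩, ⟨1, 0, -1, 1, 0, -2, 0, -1⟩,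
      ⟨1, 0, -1, 1, 0, 2, 0, -1⟩, ⟨1, 0, 1, -1, 0, 0, -2, -1⟩, ⟨1, 0, 1, 1, -2, 0, 0, 1⟩, ⟨1, 0, 1, 1, 2, 0, 0, 1⟩], [
      ⟨-2, 0, -1, -1, 0, 1, 1, 0⟩, ⟨-2, 0, 1, 1, 0, -1, -1, 0⟩, ⟨0, -2, -1, 1, 0, 1, -1, 0⟩, ⟨0, -2, 1, -1, 0, -1, 1, 0⟩,
      ⟨0, 0, -1, -1, 0, -1, -1, 2⟩, ⟨0, 0, -1, 1, -2, -1, 1, 0⟩, ⟨0, 0, 1, -1, 2, 1, -1, 0⟩, ⟨0, 0, 1, 1, 0, 1, 1, -2⟩,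
      ⟨0, 2, -1, 1, 0, 1, -1, 0⟩, ⟨0, 2, 1, -1, 0, -1, 1, 0⟩, ⟨2, 0, -1, -1, 0, 1, 1, 0⟩, ⟨2, 0, 1, 1, 0, -1, -1, 0⟩], [
      ⟨-1, -1, -1, 1, 1, -1, -1, -1⟩, ⟨-1, -1, 1, -1, 1, 1, 1, -1⟩, ⟨-1, -1, 1, 1, -1, 1, -1, 1⟩, ⟨-1, 1, -1, -1, 1, 1, -1, 1⟩,
      ⟨-1, 1, 1, -1, -1, -1, -1, -1⟩, ⟨-1, 1, 1, 1, 1, -1, 1, 1⟩, ⟨1, -1, -1, -1, -1, 1, -1, -1⟩, ⟨1, -1, -1, 1, 1, 1, 1, 1⟩,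
      ⟨1, -1, 1, 1, -1, -1, 1, -1⟩, ⟨1, 1, -1, -1, 1, -1, 1, -1⟩, ⟨1, 1, -1, 1, -1, -1, -1, 1⟩, ⟨1, 1, 1, -1, -1, 1, 1, 1⟩], [
      ⟨-2, -1, -1, 1, -1, 0, 0, 0⟩, ⟨0, -1, -1, -1, 1, -2, 0, 0⟩, ⟨0, -1, 1, -1, -1, 0, 0, -2⟩, ⟨0, -1, 1, -1, -1, 0, 0, 2⟩,
      ⟨0, -1, 1, 1, 1, 0, -2, 0⟩, ⟨0, -1, 1, 1, 1, 0, 2, 0⟩, ⟨0, 1, -1, -1, -1, 0, -2, 0⟩, ⟨0, 1, -1, -1, -1, 0, 2, 0⟩,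
      ⟨0, 1, -1, 1, 1, 0, 0, -2⟩, ⟨0, 1, -1, 1, 1, 0, 0, 2⟩, ⟨0, 1, 1, 1, -1, 2, 0, 0⟩, ⟨2, 1, 1, -1, 1, 0, 0, 0⟩], [], [], [], []],
   [[], [
      ⟨-1, -1, 0, -1, 0, 0, 1, -2⟩, ⟨-1, -1, 0, 1, -2, 0, -1, 0⟩, ⟨-1, -1, 0, 1, 2, 0, -1, 0⟩, ⟨-1, 1, -2, -1, 0, 0, -1, 0⟩,
      ⟨-1, 1, 0, 1, 0, -2, 1, 0⟩, ⟨-1, 1, 0, 1, 0, 2, 1, 0⟩, ⟨1, -1, 0, -1, 0, -2, -1, 0⟩, ⟨1, -1, 0, -1, 0, 2, -1, 0⟩,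
      ⟨1, -1, 2, 1, 0, 0, 1, 0⟩, ⟨1, 1, 0, -1, -2, 0, 1, 0⟩, ⟨1, 1, 0, -1, 2, 0, 1, 0⟩, ⟨1, 1, 0, 1, 0, 0, -1, 2⟩], [], [], [], [
      ⟨-1, -1, -1, 1, 1, -1, 1, 1⟩, ⟨-1, -1, 1, -1, 1, 1, -1, 1⟩, ⟨-1, -1, 1, 1, -1, 1, 1, -1⟩, ⟨-1, 1, -1, -1, 1, 1, 1, -1⟩,
      ⟨-1, 1, 1, -1, -1, -1, 1, 1⟩, ⟨-1, 1, 1, 1, 1, -1, -1, -1⟩, ⟨1, -1, -1, -1, -1, 1, 1, 1⟩, ⟨1, -1, -1, 1, 1, 1, -1, -1⟩,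
      ⟨1, -1, 1, 1, -1, -1, -1, 1⟩, ⟨1, 1, -1, -1, 1, -1, -1, 1⟩, ⟨1, 1, -1, 1, -1, -1, 1, -1⟩, ⟨1, 1, 1, -1, -1, 1, -1, -1⟩], [], [], [], [
      ⟨-1, -1, -2, 0, -1, 0, 0, 1⟩, ⟨-1, -1, 0, 0, 1, -2, 0, -1⟩, ⟨-1, -1, 2, 0, -1, 0, 0, 1⟩, ⟨-1, 1, 0, -2, 1, 0, 0, 1⟩,
      ⟨-1, 1, 0, 0, -1, 0, -2, -1⟩, ⟨-1, 1, 0, 2, 1, 0, 0, 1⟩, ⟨1, -1, 0, -2, -1, 0, 0, -1⟩, ⟨1, -1, 0, 0, 1, 0, 2, 1⟩,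
      ⟨1, -1, 0, 2, -1, 0, 0, -1⟩, ⟨1, 1, -2, 0, 1, 0, 0, -1⟩, ⟨1, 1, 0, 0, -1, 2, 0, 1⟩, ⟨1, 1, 2, 0, 1, 0, 0, -1⟩], [], [], [], [
      ⟨-1, -1, -1, 0, 0, 1, -2, 0⟩, ⟨-1, -1, -1, 0, 0, 1, 2, 0⟩, ⟨-1, -1, 1, -2, 0, -1, 0, 0⟩, ⟨-1, 1, -1, 0, -2, -1, 0, 0⟩,
      ⟨-1, 1, 1, 0, 0, 1, 0, -2⟩, ⟨-1, 1, 1, 0, 0, 1, 0, 2⟩, ⟨1, -1, -1, 0, 0, -1, 0, -2⟩, ⟨1, -1, -1, 0, 0, -1, 0, 2⟩,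
      ⟨1, -1, 1, 0, 2, 1, 0, 0⟩, ⟨1, 1, -1, 2, 0, 1, 0, 0⟩, ⟨1, 1, 1, 0, 0, -1, -2, 0⟩, ⟨1, 1, 1, 0, 0, -1, 2, 0⟩], [], []],
   [[], [
      ⟨-2, -1, 1, -1, 1, 0, 0, 0⟩, ⟨0, -1, -1, -1, -1, 0, -2, 0⟩, ⟨0, -1, -1, -1, -1, 0, 2, 0⟩, ⟨0, -1, -1, 1, 1, 0, 0, -2⟩,
      ⟨0, -1, -1, 1, 1, 0, 0, 2⟩, ⟨0, -1, 1, 1, -1, 2, 0, 0⟩, ⟨0, 1, -1, -1, 1, -2, 0, 0⟩, ⟨0, 1, 1, -1, -1, 0, 0, -2⟩,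
      ⟨0, 1, 1, -1, -1, 0, 0, 2⟩, ⟨0, 1, 1, 1, 1, 0, -2, 0⟩, ⟨0, 1, 1, 1, 1, 0, 2, 0⟩, ⟨2, 1, -1, 1, -1, 0, 0, 0⟩], [], [], [], [], [
      ⟨-1, 0, -2, -1, -1, 1, 0, 0⟩, ⟨-1, 0, 0, -1, 1, -1, 0, -2⟩, ⟨-1, 0, 0, -1, 1, -1, 0, 2⟩, ⟨-1, 0, 0, 1, -1, -1, -2, 0⟩,
      ⟨-1, 0, 0, 1, -1, -1, 2, 0⟩, ⟨-1, 2, 0, 1, 1, 1, 0, 0⟩, ⟨1, -2, 0, -1, -1, -1, 0, 0⟩, ⟨1, 0, 0, -1, 1, 1, -2, 0⟩,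
      ⟨1, 0, 0, -1, 1, 1, 2, 0⟩, ⟨1, 0, 0, 1, -1, 1, 0, -2⟩, ⟨1, 0, 0, 1, -1, 1, 0, 2⟩, ⟨1, 0, 2, 1, 1, -1, 0, 0⟩], [], [
      ⟨-1, -1, -1, 2, 0, -1, 0, 0⟩, ⟨-1, -1, 1, 0, 0, 1, -2, 0⟩, ⟨-1, -1, 1, 0, 0, 1, 2, 0⟩, ⟨-1, 1, -1, 0, 0, 1, 0, -2⟩,
      ⟨-1, 1, -1, 0, 0, 1, 0, 2⟩, ⟨-1, 1, 1, 0, -2, -1, 0, 0⟩, ⟨1, -1, -1, 0, 2, 1, 0, 0⟩, ⟨1, -1, 1, 0, 0, -1, 0, -2⟩,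
      ⟨1, -1, 1, 0, 0, -1, 0, 2⟩, ⟨1, 1, -1, 0, 0, -1, -2, 0⟩, ⟨1, 1, -1, 0, 0, -1, 2, 0⟩, ⟨1, 1, 1, -2, 0, 1, 0, 0⟩], [], [], [], [], [], [], [
      ⟨-2, 0, 0, 0, 0, -2, 0, 0⟩, ⟨-2, 0, 0, 0, 0, 2, 0, 0⟩, ⟨0, -2, -2, 0, 0, 0, 0, 0⟩, ⟨0, -2, 2, 0, 0, 0, 0, 0⟩,
      ⟨0, 0, 0, -2, -2, 0, 0, 0⟩, ⟨0, 0, 0, -2, 2, 0, 0, 0⟩, ⟨0, 0, 0, 2, -2, 0, 0, 0⟩, ⟨0, 0, 0, 2, 2, 0, 0, 0⟩,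
      ⟨0, 2, -2, 0, 0, 0, 0, 0⟩, ⟨0, 2, 2, 0, 0, 0, 0, 0⟩, ⟨2, 0, 0, 0, 0, -2, 0, 0⟩, ⟨2, 0, 0, 0, 0, 2, 0, 0⟩]],
   [[], [], [
      ⟨-2, -1, 0, 0, -1, 1, 1, 0⟩, ⟨0, -1, -2, 0, 1, 1, -1, 0⟩, ⟨0, -1, 0, -2, 1, -1, 1, 0⟩, ⟨0, -1, 0, 0, -1, -1, -1, 2⟩,
      ⟨0, -1, 0, 2, 1, -1, 1, 0⟩, ⟨0, -1, 2, 0, 1, 1, -1, 0⟩, ⟨0, 1, -2, 0, -1, -1, 1, 0⟩, ⟨0, 1, 0, -2, -1, 1, -1, 0⟩,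
      ⟨0, 1, 0, 0, 1, 1, 1, -2⟩, ⟨0, 1, 0, 2, -1, 1, -1, 0⟩, ⟨0, 1, 2, 0, -1, -1, 1, 0⟩, ⟨2, 1, 0, 0, 1, -1, -1, 0⟩], [], [], [], [], [
      ⟨-1, -1, -1, 0, 0, -1, -2, 0⟩, ⟨-1, -1, -1, 0, 0, -1, 2, 0⟩, ⟨-1, -1, 1, -2, 0, 1, 0, 0⟩, ⟨-1, 1, -1, 0, 2, 1, 0, 0⟩,
      ⟨-1, 1, 1, 0, 0, -1, 0, -2⟩, ⟨-1, 1, 1, 0, 0, -1, 0, 2⟩, ⟨1, -1, -1, 0, 0, 1, 0, -2⟩, ⟨1, -1, -1, 0, 0, 1, 0, 2⟩,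
      ⟨1, -1, 1, 0, -2, -1, 0, 0⟩, ⟨1, 1, -1, 2, 0, -1, 0, 0⟩, ⟨1, 1, 1, 0, 0, 1, -2, 0⟩, ⟨1, 1, 1, 0, 0, 1, 2, 0⟩], [
      ⟨-2, 0, 0, -1, 1, 0, 1, 1⟩, ⟨-2, 0, 0, 1, -1, 0, -1, -1⟩, ⟨0, -2, 0, -1, -1, 0, 1, -1⟩, ⟨0, -2, 0, 1, 1, 0, -1, 1⟩,
      ⟨0, 0, -2, -1, -1, 0, -1, 1⟩, ⟨0, 0, 0, -1, 1, -2, -1, -1⟩, ⟨0, 0, 0, 1, -1, 2, 1, 1⟩, ⟨0, 0, 2, 1, 1, 0, 1, -1⟩,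
      ⟨0, 2, 0, -1, -1, 0, 1, -1⟩, ⟨0, 2, 0, 1, 1, 0, -1, 1⟩, ⟨2, 0, 0, -1, 1, 0, 1, 1⟩, ⟨2, 0, 0, 1, -1, 0, -1, -1⟩], [], [], [], [], [
      ⟨-1, 0, -1, 1, 0, -2, 0, -1⟩, ⟨-1, 0, -1, 1, 0, 2, 0, -1⟩, ⟨-1, 0, 1, -1, 0, 0, -2, -1⟩, ⟨-1, 0, 1, 1, -2, 0, 0, 1⟩,
      ⟨-1, 0, 1, 1, 2, 0, 0, 1⟩, ⟨-1, 2, -1, -1, 0, 0, 0, 1⟩, ⟨1, -2, 1, 1, 0, 0, 0, -1⟩, ⟨1, 0, -1, -1, -2, 0, 0, -1⟩,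
      ⟨1, 0, -1, -1, 2, 0, 0, -1⟩, ⟨1, 0, -1, 1, 0, 0, 2, 1⟩, ⟨1, 0, 1, -1, 0, -2, 0, 1⟩, ⟨1, 0, 1, -1, 0, 2, 0, 1⟩], [], []],
   [[], [], [
      ⟨-1, -1, -1, 2, 0, 1, 0, 0⟩, ⟨-1, -1, 1, 0, 0, -1, -2, 0⟩, ⟨-1, -1, 1, 0, 0, -1, 2, 0⟩, ⟨-1, 1, -1, 0, 0, -1, 0, -2⟩,
      ⟨-1, 1, -1, 0, 0, -1, 0, 2⟩, ⟨-1, 1, 1, 0, 2, 1, 0, 0⟩, ⟨1, -1, -1, 0, -2, -1, 0, 0⟩, ⟨1, -1, 1, 0, 0, 1, 0, -2⟩,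
      ⟨1, -1, 1, 0, 0, 1, 0, 2⟩, ⟨1, 1, -1, 0, 0, 1, -2, 0⟩, ⟨1, 1, -1, 0, 0, 1, 2, 0⟩, ⟨1, 1, 1, -2, 0, -1, 0, 0⟩], [], [], [], [
      ⟨-1, -1, -2, 0, 1, 0, 0, -1⟩, ⟨-1, -1, 0, 0, -1, 2, 0, 1⟩, ⟨-1, -1, 2, 0, 1, 0, 0, -1⟩, ⟨-1, 1, 0, -2, -1, 0, 0, -1⟩,
      ⟨-1, 1, 0, 0, 1, 0, 2, 1⟩, ⟨-1, 1, 0, 2, -1, 0, 0, -1⟩, ⟨1, -1, 0, -2, 1, 0, 0, 1⟩, ⟨1, -1, 0, 0, -1, 0, -2, -1⟩,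
      ⟨1, -1, 0, 2, 1, 0, 0, 1⟩, ⟨1, 1, -2, 0, -1, 0, 0, 1⟩, ⟨1, 1, 0, 0, 1, -2, 0, -1⟩, ⟨1, 1, 2, 0, -1, 0, 0, 1⟩], [], [], [], [
      ⟨-1, -1, -1, -1, 1, -1, -1, 1⟩, ⟨-1, -1, -1, 1, -1, -1, 1, -1⟩, ⟨-1, -1, 1, -1, -1, 1, -1, -1⟩, ⟨-1, 1, -1, -1, -1, 1, 1, 1⟩,
      ⟨-1, 1, -1, 1, 1, 1, -1, -1⟩, ⟨-1, 1, 1, 1, -1, -1, -1, 1⟩, ⟨1, -1, -1, -1, 1, 1, 1, -1⟩, ⟨1, -1, 1, -1, -1, -1, 1, 1⟩,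
      ⟨1, -1, 1, 1, 1, -1, -1, -1⟩, ⟨1, 1, -1, 1, 1, -1, 1, 1⟩, ⟨1, 1, 1, -1, 1, 1, -1, 1⟩, ⟨1, 1, 1, 1, -1, 1, 1, -1⟩], [], [], [], [
      ⟨-1, -1, 0, -1, -2, 0, 1, 0⟩, ⟨-1, -1, 0, -1, 2, 0, 1, 0⟩, ⟨-1, -1, 0, 1, 0, 0, -1, 2⟩, ⟨-1, 1, 0, -1, 0, -2, -1, 0⟩,
      ⟨-1, 1, 0, -1, 0, 2, -1, 0⟩, ⟨-1, 1, 2, 1, 0, 0, 1, 0⟩, ⟨1, -1, -2, -1, 0, 0, -1, 0⟩, ⟨1, -1, 0, 1, 0, -2, 1, 0⟩,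
      ⟨1, -1, 0, 1, 0, 2, 1, 0⟩, ⟨1, 1, 0, -1, 0, 0, 1, -2⟩, ⟨1, 1, 0, 1, -2, 0, -1, 0⟩, ⟨1, 1, 0, 1, 2, 0, -1, 0⟩], []],
   [[], [], [], [
      ⟨-1, 0, 0, -1, 1, 1, -2, 0⟩, ⟨-1, 0, 0, -1, 1, 1, 2, 0⟩, ⟨-1, 0, 0, 1, -1, 1, 0, -2⟩, ⟨-1, 0, 0, 1, -1, 1, 0, 2⟩,
      ⟨-1, 0, 2, 1, 1, -1, 0, 0⟩, ⟨-1, 2, 0, -1, -1, -1, 0, 0⟩, ⟨1, -2, 0, 1, 1, 1, 0, 0⟩, ⟨1, 0, -2, -1, -1, 1, 0, 0⟩,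
      ⟨1, 0, 0, -1, 1, -1, 0, -2⟩, ⟨1, 0, 0, -1, 1, -1, 0, 2⟩, ⟨1, 0, 0, 1, -1, -1, -2, 0⟩, ⟨1, 0, 0, 1, -1, -1, 2, 0⟩], [], [
      ⟨-1, -1, -1, -1, 1, -1, 1, -1⟩, ⟨-1, -1, -1, 1, -1, -1, -1, 1⟩, ⟨-1, -1, 1, -1, -1, 1, 1, 1⟩, ⟨-1, 1, -1, -1, -1, 1, -1, -1⟩,
      ⟨-1, 1, -1, 1, 1, 1, 1, 1⟩, ⟨-1, 1, 1, 1, -1, -1, 1, -1⟩, ⟨1, -1, -1, -1, 1, 1, -1, 1⟩, ⟨1, -1, 1, -1, -1, -1, -1, -1⟩,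
      ⟨1, -1, 1, 1, 1, -1, 1, 1⟩, ⟨1, 1, -1, 1, 1, -1, -1, -1⟩, ⟨1, 1, 1, -1, 1, 1, 1, -1⟩, ⟨1, 1, 1, 1, -1, 1, -1, 1⟩], [], [], [
      ⟨-2, -1, 0, 0, 1, -1, -1, 0⟩, ⟨0, -1, -2, 0, -1, -1, 1, 0⟩, ⟨0, -1, 0, -2, -1, 1, -1, 0⟩, ⟨0, -1, 0, 0, 1, 1, 1, -2⟩,
      ⟨0, -1, 0, 2, -1, 1, -1, 0⟩, ⟨0, -1, 2, 0, -1, -1, 1, 0⟩, ⟨0, 1, -2, 0, 1, 1, -1, 0⟩, ⟨0, 1, 0, -2, 1, -1, 1, 0⟩,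
      ⟨0, 1, 0, 0, -1, -1, -1, 2⟩, ⟨0, 1, 0, 2, 1, -1, 1, 0⟩, ⟨0, 1, 2, 0, 1, 1, -1, 0⟩, ⟨2, 1, 0, 0, -1, 1, 1, 0⟩], [], [], [], [], [], [
      ⟨-2, 0, -1, 0, -1, -1, 0, -1⟩, ⟨-2, 0, 1, 0, 1, 1, 0, 1⟩, ⟨0, -2, -1, 0, 1, -1, 0, 1⟩, ⟨0, -2, 1, 0, -1, 1, 0, -1⟩,
      ⟨0, 0, -1, 0, -1, 1, 2, 1⟩, ⟨0, 0, -1, 2, 1, 1, 0, -1⟩, ⟨0, 0, 1, -2, -1, -1, 0, 1⟩, ⟨0, 0, 1, 0, 1, -1, -2, -1⟩,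
      ⟨0, 2, -1, 0, 1, -1, 0, 1⟩, ⟨0, 2, 1, 0, -1, 1, 0, -1⟩, ⟨2, 0, -1, 0, -1, -1, 0, -1⟩, ⟨2, 0, 1, 0, 1, 1, 0, 1⟩], []],
   [[], [], [], [
      ⟨-2, 0, -1, -1, 0, -1, 1, 0⟩, ⟨-2, 0, 1, 1, 0, 1, -1, 0⟩, ⟨0, -2, -1, 1, 0, -1, -1, 0⟩, ⟨0, -2, 1, -1, 0, 1, 1, 0⟩,
      ⟨0, 0, -1, -1, 0, 1, -1, 2⟩, ⟨0, 0, -1, 1, 2, 1, 1, 0⟩, ⟨0, 0, 1, -1, -2, -1, -1, 0⟩, ⟨0, 0, 1, 1, 0, -1, 1, -2⟩,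
      ⟨0, 2, -1, 1, 0, -1, -1, 0⟩, ⟨0, 2, 1, -1, 0, 1, 1, 0⟩, ⟨2, 0, -1, -1, 0, -1, 1, 0⟩, ⟨2, 0, 1, 1, 0, 1, -1, 0⟩], [], [], [], [
      ⟨-2, 0, 0, -1, 1, 0, -1, -1⟩, ⟨-2, 0, 0, 1, -1, 0, 1, 1⟩, ⟨0, -2, 0, -1, -1, 0, -1, 1⟩, ⟨0, -2, 0, 1, 1, 0, 1, -1⟩,
      ⟨0, 0, -2, -1, -1, 0, 1, -1⟩, ⟨0, 0, 0, -1, 1, -2, 1, 1⟩, ⟨0, 0, 0, 1, -1, 2, -1, -1⟩, ⟨0, 0, 2, 1, 1, 0, -1, 1⟩,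
      ⟨0, 2, 0, -1, -1, 0, -1, 1⟩, ⟨0, 2, 0, 1, 1, 0, 1, -1⟩, ⟨2, 0, 0, -1, 1, 0, -1, -1⟩, ⟨2, 0, 0, 1, -1, 0, 1, 1⟩], [], [], [], [
      ⟨-2, 0, -1, 0, 1, 1, 0, 1⟩, ⟨-2, 0, 1, 0, -1, -1, 0, -1⟩, ⟨0, -2, -1, 0, -1, 1, 0, -1⟩, ⟨0, -2, 1, 0, 1, -1, 0, 1⟩,
      ⟨0, 0, -1, 0, 1, -1, -2, -1⟩, ⟨0, 0, -1, 2, -1, -1, 0, 1⟩, ⟨0, 0, 1, -2, 1, 1, 0, -1⟩, ⟨0, 0, 1, 0, -1, 1, 2, 1⟩,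
      ⟨0, 2, -1, 0, -1, 1, 0, -1⟩, ⟨0, 2, 1, 0, 1, -1, 0, 1⟩, ⟨2, 0, -1, 0, 1, 1, 0, 1⟩, ⟨2, 0, 1, 0, -1, -1, 0, -1⟩], [], [], [], [
      ⟨0, 0, -2, 0, 0, -2, 0, 0⟩, ⟨0, 0, -2, 0, 0, 2, 0, 0⟩, ⟨0, 0, 0, -2, 0, 0, -2, 0⟩, ⟨0, 0, 0, -2, 0, 0, 2, 0⟩,
      ⟨0, 0, 0, 0, -2, 0, 0, -2⟩, ⟨0, 0, 0, 0, -2, 0, 0, 2⟩, ⟨0, 0, 0, 0, 2, 0, 0, -2⟩, ⟨0, 0, 0, 0, 2, 0, 0, 2⟩,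
      ⟨0, 0, 0, 2, 0, 0, -2, 0⟩, ⟨0, 0, 0, 2, 0, 0, 2, 0⟩, ⟨0, 0, 2, 0, 0, -2, 0, 0⟩, ⟨0, 0, 2, 0, 0, 2, 0, 0⟩]],
   [[], [
      ⟨-1, 0, -2, 0, 0, 1, 1, 1⟩, ⟨-1, 0, 0, -2, 0, -1, -1, 1⟩, ⟨-1, 0, 0, 0, -2, -1, 1, -1⟩, ⟨-1, 0, 0, 2, 0, -1, -1, 1⟩,
      ⟨-1, 0, 2, 0, 0, 1, 1, 1⟩, ⟨-1, 2, 0, 0, 0, 1, -1, -1⟩, ⟨1, -2, 0, 0, 0, -1, 1, 1⟩, ⟨1, 0, -2, 0, 0, -1, -1, -1⟩,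
      ⟨1, 0, 0, -2, 0, 1, 1, -1⟩, ⟨1, 0, 0, 0, 2, 1, -1, 1⟩, ⟨1, 0, 0, 2, 0, 1, 1, -1⟩, ⟨1, 0, 2, 0, 0, -1, -1, -1⟩], [], [], [
      ⟨-2, 0, -1, 0, -1, -1, 0, 1⟩, ⟨-2, 0, 1, 0, 1, 1, 0, -1⟩, ⟨0, -2, -1, 0, 1, -1, 0, -1⟩, ⟨0, -2, 1, 0, -1, 1, 0, 1⟩,
      ⟨0, 0, -1, 0, -1, 1, -2, -1⟩, ⟨0, 0, -1, 2, 1, 1, 0, 1⟩, ⟨0, 0, 1, -2, -1, -1, 0, -1⟩, ⟨0, 0, 1, 0, 1, -1, 2, 1⟩,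
      ⟨0, 2, -1, 0, 1, -1, 0, -1⟩, ⟨0, 2, 1, 0, -1, 1, 0, 1⟩, ⟨2, 0, -1, 0, -1, -1, 0, 1⟩, ⟨2, 0, 1, 0, 1, 1, 0, -1⟩], [], [], [], [], [], [], [
      ⟨-1, -1, 0, -1, -2, 0, -1, 0⟩, ⟨-1, -1, 0, -1, 2, 0, -1, 0⟩, ⟨-1, -1, 0, 1, 0, 0, 1, -2⟩, ⟨-1, 1, 0, -1, 0, -2, 1, 0⟩,
      ⟨-1, 1, 0, -1, 0, 2, 1, 0⟩, ⟨-1, 1, 2, 1, 0, 0, -1, 0⟩, ⟨1, -1, -2, -1, 0, 0, 1, 0⟩, ⟨1, -1, 0, 1, 0, -2, -1, 0⟩,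
      ⟨1, -1, 0, 1, 0, 2, -1, 0⟩, ⟨1, 1, 0, -1, 0, 0, -1, 2⟩, ⟨1, 1, 0, 1, -2, 0, 1, 0⟩, ⟨1, 1, 0, 1, 2, 0, 1, 0⟩], [], [], [
      ⟨-2, -1, -1, 1, 1, 0, 0, 0⟩, ⟨0, -1, -1, -1, -1, 2, 0, 0⟩, ⟨0, -1, 1, -1, 1, 0, 0, -2⟩, ⟨0, -1, 1, -1, 1, 0, 0, 2⟩,
      ⟨0, -1, 1, 1, -1, 0, -2, 0⟩, ⟨0, -1, 1, 1, -1, 0, 2, 0⟩, ⟨0, 1, -1, -1, 1, 0, -2, 0⟩, ⟨0, 1, -1, -1, 1, 0, 2, 0⟩,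
      ⟨0, 1, -1, 1, -1, 0, 0, -2⟩, ⟨0, 1, -1, 1, -1, 0, 0, 2⟩, ⟨0, 1, 1, 1, 1, -2, 0, 0⟩, ⟨2, 1, 1, -1, -1, 0, 0, 0⟩], []],
   [[], [
      ⟨-2, 0, -1, 0, 1, 1, 0, -1⟩, ⟨-2, 0, 1, 0, -1, -1, 0, 1⟩, ⟨0, -2, -1, 0, -1, 1, 0, 1⟩, ⟨0, -2, 1, 0, 1, -1, 0, -1⟩,
      ⟨0, 0, -1, 0, 1, -1, 2, 1⟩, ⟨0, 0, -1, 2, -1, -1, 0, -1⟩, ⟨0, 0, 1, -2, 1, 1, 0, 1⟩, ⟨0, 0, 1, 0, -1, 1, -2, -1⟩,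
      ⟨0, 2, -1, 0, -1, 1, 0, 1⟩, ⟨0, 2, 1, 0, 1, -1, 0, -1⟩, ⟨2, 0, -1, 0, 1, 1, 0, -1⟩, ⟨2, 0, 1, 0, -1, -1, 0, 1⟩], [], [], [], [], [], [
      ⟨-2, -1, 0, 0, -1, 1, -1, 0⟩, ⟨0, -1, -2, 0, 1, 1, 1, 0⟩, ⟨0, -1, 0, -2, 1, -1, -1, 0⟩, ⟨0, -1, 0, 0, -1, -1, 1, -2⟩,
      ⟨0, -1, 0, 2, 1, -1, -1, 0⟩, ⟨0, -1, 2, 0, 1, 1, 1, 0⟩, ⟨0, 1, -2, 0, -1, -1, -1, 0⟩, ⟨0, 1, 0, -2, -1, 1, 1, 0⟩,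
      ⟨0, 1, 0, 0, 1, 1, -1, 2⟩, ⟨0, 1, 0, 2, -1, 1, 1, 0⟩, ⟨0, 1, 2, 0, -1, -1, -1, 0⟩, ⟨2, 1, 0, 0, 1, -1, 1, 0⟩], [], [], [
      ⟨-1, -1, -1, -1, -1, 1, 1, -1⟩, ⟨-1, -1, -1, 1, 1, 1, -1, 1⟩, ⟨-1, -1, 1, -1, 1, -1, 1, 1⟩, ⟨-1, 1, -1, -1, 1, -1, -1, -1⟩,
      ⟨-1, 1, -1, 1, -1, -1, 1, 1⟩, ⟨-1, 1, 1, 1, 1, 1, 1, -1⟩, ⟨1, -1, -1, -1, -1, -1, -1, 1⟩, ⟨1, -1, 1, -1, 1, 1, -1, -1⟩,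
      ⟨1, -1, 1, 1, -1, 1, 1, 1⟩, ⟨1, 1, -1, 1, -1, 1, -1, -1⟩, ⟨1, 1, 1, -1, -1, -1, 1, -1⟩, ⟨1, 1, 1, 1, 1, -1, -1, 1⟩], [], [
      ⟨-1, 0, 0, -1, -1, -1, -2, 0⟩, ⟨-1, 0, 0, -1, -1, -1, 2, 0⟩, ⟨-1, 0, 0, 1, 1, -1, 0, -2⟩, ⟨-1, 0, 0, 1, 1, -1, 0, 2⟩,
      ⟨-1, 0, 2, 1, -1, 1, 0, 0⟩, ⟨-1, 2, 0, -1, 1, 1, 0, 0⟩, ⟨1, -2, 0, 1, -1, -1, 0, 0⟩, ⟨1, 0, -2, -1, 1, -1, 0, 0⟩,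
      ⟨1, 0, 0, -1, -1, 1, 0, -2⟩, ⟨1, 0, 0, -1, -1, 1, 0, 2⟩, ⟨1, 0, 0, 1, 1, 1, -2, 0⟩, ⟨1, 0, 0, 1, 1, 1, 2, 0⟩], [], [], []],
   [[], [], [], [], [
      ⟨-2, -1, 1, -1, -1, 0, 0, 0⟩, ⟨0, -1, -1, -1, 1, 0, -2, 0⟩, ⟨0, -1, -1, -1, 1, 0, 2, 0⟩, ⟨0, -1, -1, 1, -1, 0, 0, -2⟩,
      ⟨0, -1, -1, 1, -1, 0, 0, 2⟩, ⟨0, -1, 1, 1, 1, -2, 0, 0⟩, ⟨0, 1, -1, -1, -1, 2, 0, 0⟩, ⟨0, 1, 1, -1, 1, 0, 0, -2⟩,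
      ⟨0, 1, 1, -1, 1, 0, 0, 2⟩, ⟨0, 1, 1, 1, -1, 0, -2, 0⟩, ⟨0, 1, 1, 1, -1, 0, 2, 0⟩, ⟨2, 1, -1, 1, 1, 0, 0, 0⟩], [
      ⟨-1, -1, -1, -1, -1, 1, -1, 1⟩, ⟨-1, -1, -1, 1, 1, 1, 1, -1⟩, ⟨-1, -1, 1, -1, 1, -1, -1, -1⟩, ⟨-1, 1, -1, -1, 1, -1, 1, 1⟩,
      ⟨-1, 1, -1, 1, -1, -1, -1, -1⟩, ⟨-1, 1, 1, 1, 1, 1, -1, 1⟩, ⟨1, -1, -1, -1, -1, -1, 1, -1⟩, ⟨1, -1, 1, -1, 1, 1, 1, 1⟩,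
      ⟨1, -1, 1, 1, -1, 1, -1, -1⟩, ⟨1, 1, -1, 1, -1, 1, 1, 1⟩, ⟨1, 1, 1, -1, -1, -1, -1, 1⟩, ⟨1, 1, 1, 1, 1, -1, 1, -1⟩], [
      ⟨-2, 0, -1, -1, 0, -1, -1, 0⟩, ⟨-2, 0, 1, 1, 0, 1, 1, 0⟩, ⟨0, -2, -1, 1, 0, -1, 1, 0⟩, ⟨0, -2, 1, -1, 0, 1, -1, 0⟩,
      ⟨0, 0, -1, -1, 0, 1, 1, -2⟩, ⟨0, 0, -1, 1, 2, 1, -1, 0⟩, ⟨0, 0, 1, -1, -2, -1, 1, 0⟩, ⟨0, 0, 1, 1, 0, -1, -1, 2⟩,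
      ⟨0, 2, -1, 1, 0, -1, 1, 0⟩, ⟨0, 2, 1, -1, 0, 1, -1, 0⟩, ⟨2, 0, -1, -1, 0, -1, -1, 0⟩, ⟨2, 0, 1, 1, 0, 1, 1, 0⟩], [
      ⟨-1, 0, -1, 1, 0, -2, 0, 1⟩, ⟨-1, 0, -1, 1, 0, 2, 0, 1⟩, ⟨-1, 0, 1, -1, 0, 0, 2, 1⟩, ⟨-1, 0, 1, 1, -2, 0, 0, -1⟩,
      ⟨-1, 0, 1, 1, 2, 0, 0, -1⟩, ⟨-1, 2, -1, -1, 0, 0, 0, -1⟩, ⟨1, -2, 1, 1, 0, 0, 0, 1⟩, ⟨1, 0, -1, -1, -2, 0, 0, 1⟩,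
      ⟨1, 0, -1, -1, 2, 0, 0, 1⟩, ⟨1, 0, -1, 1, 0, 0, -2, -1⟩, ⟨1, 0, 1, -1, 0, -2, 0, -1⟩, ⟨1, 0, 1, -1, 0, 2, 0, -1⟩], [], [], [], [], [], [], [], []],
   [[], [], [], [], [], [], [], [], [], [], [], [], [
      ⟨-1, -1, -2, 0, 1, 0, 0, 1⟩, ⟨-1, -1, 0, 0, -1, 2, 0, -1⟩, ⟨-1, -1, 2, 0, 1, 0, 0, 1⟩, ⟨-1, 1, 0, -2, -1, 0, 0, 1⟩,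
      ⟨-1, 1, 0, 0, 1, 0, -2, -1⟩, ⟨-1, 1, 0, 2, -1, 0, 0, 1⟩, ⟨1, -1, 0, -2, 1, 0, 0, -1⟩, ⟨1, -1, 0, 0, -1, 0, 2, 1⟩,
      ⟨1, -1, 0, 2, 1, 0, 0, -1⟩, ⟨1, 1, -2, 0, -1, 0, 0, -1⟩, ⟨1, 1, 0, 0, 1, -2, 0, 1⟩, ⟨1, 1, 2, 0, -1, 0, 0, -1⟩], [
      ⟨-2, -1, 0, 0, 1, -1, 1, 0⟩, ⟨0, -1, -2, 0, -1, -1, -1, 0⟩, ⟨0, -1, 0, -2, -1, 1, 1, 0⟩, ⟨0, -1, 0, 0, 1, 1, -1, 2⟩,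
      ⟨0, -1, 0, 2, -1, 1, 1, 0⟩, ⟨0, -1, 2, 0, -1, -1, -1, 0⟩, ⟨0, 1, -2, 0, 1, 1, 1, 0⟩, ⟨0, 1, 0, -2, 1, -1, -1, 0⟩,
      ⟨0, 1, 0, 0, -1, -1, 1, -2⟩, ⟨0, 1, 0, 2, 1, -1, -1, 0⟩, ⟨0, 1, 2, 0, 1, 1, 1, 0⟩, ⟨2, 1, 0, 0, -1, 1, -1, 0⟩], [
      ⟨-1, 0, -2, 0, 0, 1, -1, -1⟩, ⟨-1, 0, 0, -2, 0, -1, 1, -1⟩, ⟨-1, 0, 0, 0, -2, -1, -1, 1⟩, ⟨-1, 0, 0, 2, 0, -1, 1, -1⟩,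
      ⟨-1, 0, 2, 0, 0, 1, -1, -1⟩, ⟨-1, 2, 0, 0, 0, 1, 1, 1⟩, ⟨1, -2, 0, 0, 0, -1, -1, -1⟩, ⟨1, 0, -2, 0, 0, -1, 1, 1⟩,
      ⟨1, 0, 0, -2, 0, 1, -1, 1⟩, ⟨1, 0, 0, 0, 2, 1, 1, -1⟩, ⟨1, 0, 0, 2, 0, 1, -1, 1⟩, ⟨1, 0, 2, 0, 0, -1, 1, 1⟩], [
      ⟨-2, 0, 0, 0, 0, 0, 0, -2⟩, ⟨-2, 0, 0, 0, 0, 0, 0, 2⟩, ⟨0, -2, 0, 0, -2, 0, 0, 0⟩, ⟨0, -2, 0, 0, 2, 0, 0, 0⟩,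
      ⟨0, 0, 0, 0, 0, -2, -2, 0⟩, ⟨0, 0, 0, 0, 0, -2, 2, 0⟩, ⟨0, 0, 0, 0, 0, 2, -2, 0⟩, ⟨0, 0, 0, 0, 0, 2, 2, 0⟩,
      ⟨0, 2, 0, 0, -2, 0, 0, 0⟩, ⟨0, 2, 0, 0, 2, 0, 0, 0⟩, ⟨2, 0, 0, 0, 0, 0, 0, -2⟩, ⟨2, 0, 0, 0, 0, 0, 0, 2⟩]],
   [[], [], [], [
      ⟨-1, -1, -2, 0, -1, 0, 0, -1⟩, ⟨-1, -1, 0, 0, 1, -2, 0, 1⟩, ⟨-1, -1, 2, 0, -1, 0, 0, -1⟩, ⟨-1, 1, 0, -2, 1, 0, 0, -1⟩,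
      ⟨-1, 1, 0, 0, -1, 0, 2, 1⟩, ⟨-1, 1, 0, 2, 1, 0, 0, -1⟩, ⟨1, -1, 0, -2, -1, 0, 0, 1⟩, ⟨1, -1, 0, 0, 1, 0, -2, -1⟩,
      ⟨1, -1, 0, 2, -1, 0, 0, 1⟩, ⟨1, 1, -2, 0, 1, 0, 0, 1⟩, ⟨1, 1, 0, 0, -1, 2, 0, -1⟩, ⟨1, 1, 2, 0, 1, 0, 0, 1⟩], [], [], [
      ⟨-2, -1, 1, 0, 0, 0, -1, 1⟩, ⟨0, -1, -1, 0, -2, 0, 1, 1⟩, ⟨0, -1, -1, 0, 2, 0, 1, 1⟩, ⟨0, -1, -1, 2, 0, 0, -1, -1⟩,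
      ⟨0, -1, 1, 0, 0, -2, 1, -1⟩, ⟨0, -1, 1, 0, 0, 2, 1, -1⟩, ⟨0, 1, -1, 0, 0, -2, -1, 1⟩, ⟨0, 1, -1, 0, 0, 2, -1, 1⟩,
      ⟨0, 1, 1, -2, 0, 0, 1, 1⟩, ⟨0, 1, 1, 0, -2, 0, -1, -1⟩, ⟨0, 1, 1, 0, 2, 0, -1, -1⟩, ⟨2, 1, -1, 0, 0, 0, 1, -1⟩], [], [], [
      ⟨-1, 0, -2, -1, 1, -1, 0, 0⟩, ⟨-1, 0, 0, -1, -1, 1, 0, -2⟩, ⟨-1, 0, 0, -1, -1, 1, 0, 2⟩, ⟨-1, 0, 0, 1, 1, 1, -2, 0⟩,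
      ⟨-1, 0, 0, 1, 1, 1, 2, 0⟩, ⟨-1, 2, 0, 1, -1, -1, 0, 0⟩, ⟨1, -2, 0, -1, 1, 1, 0, 0⟩, ⟨1, 0, 0, -1, -1, -1, -2, 0⟩,
      ⟨1, 0, 0, -1, -1, -1, 2, 0⟩, ⟨1, 0, 0, 1, 1, -1, 0, -2⟩, ⟨1, 0, 0, 1, 1, -1, 0, 2⟩, ⟨1, 0, 2, 1, -1, 1, 0, 0⟩], [], [], [
      ⟨-2, 0, -1, -1, 0, 1, -1, 0⟩, ⟨-2, 0, 1, 1, 0, -1, 1, 0⟩, ⟨0, -2, -1, 1, 0, 1, 1, 0⟩, ⟨0, -2, 1, -1, 0, -1, -1, 0⟩,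
      ⟨0, 0, -1, -1, 0, -1, 1, -2⟩, ⟨0, 0, -1, 1, -2, -1, -1, 0⟩, ⟨0, 0, 1, -1, 2, 1, 1, 0⟩, ⟨0, 0, 1, 1, 0, 1, -1, 2⟩,
      ⟨0, 2, -1, 1, 0, 1, 1, 0⟩, ⟨0, 2, 1, -1, 0, -1, -1, 0⟩, ⟨2, 0, -1, -1, 0, 1, -1, 0⟩, ⟨2, 0, 1, 1, 0, -1, 1, 0⟩], [], [], []],
   [[], [], [], [
      ⟨-2, -1, -1, 0, 0, 0, -1, 1⟩, ⟨0, -1, -1, 0, 0, -2, 1, -1⟩, ⟨0, -1, -1, 0, 0, 2, 1, -1⟩, ⟨0, -1, 1, -2, 0, 0, -1, -1⟩,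
      ⟨0, -1, 1, 0, -2, 0, 1, 1⟩, ⟨0, -1, 1, 0, 2, 0, 1, 1⟩, ⟨0, 1, -1, 0, -2, 0, -1, -1⟩, ⟨0, 1, -1, 0, 2, 0, -1, -1⟩,
      ⟨0, 1, -1, 2, 0, 0, 1, 1⟩, ⟨0, 1, 1, 0, 0, -2, -1, 1⟩, ⟨0, 1, 1, 0, 0, 2, -1, 1⟩, ⟨2, 1, 1, 0, 0, 0, 1, -1⟩], [
      ⟨-1, 0, -2, 0, 0, -1, -1, -1⟩, ⟨-1, 0, 0, -2, 0, 1, 1, -1⟩, ⟨-1, 0, 0, 0, 2, 1, -1, 1⟩, ⟨-1, 0, 0, 2, 0, 1, 1, -1⟩,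
      ⟨-1, 0, 2, 0, 0, -1, -1, -1⟩, ⟨-1, 2, 0, 0, 0, -1, 1, 1⟩, ⟨1, -2, 0, 0, 0, 1, -1, -1⟩, ⟨1, 0, -2, 0, 0, 1, 1, 1⟩,
      ⟨1, 0, 0, -2, 0, -1, -1, 1⟩, ⟨1, 0, 0, 0, -2, -1, 1, -1⟩, ⟨1, 0, 0, 2, 0, -1, -1, 1⟩, ⟨1, 0, 2, 0, 0, 1, 1, 1⟩], [], [], [], [], [], [
      ⟨-1, -1, -1, 1, -1, 1, 1, 1⟩, ⟨-1, -1, 1, -1, -1, -1, -1, 1⟩, ⟨-1, -1, 1, 1, 1, -1, 1, -1⟩, ⟨-1, 1, -1, -1, -1, -1, 1, -1⟩,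
      ⟨-1, 1, 1, -1, 1, 1, 1, 1⟩, ⟨-1, 1, 1, 1, -1, 1, -1, -1⟩, ⟨1, -1, -1, -1, 1, -1, 1, 1⟩, ⟨1, -1, -1, 1, -1, -1, -1, -1⟩,
      ⟨1, -1, 1, 1, 1, 1, -1, 1⟩, ⟨1, 1, -1, -1, -1, 1, -1, 1⟩, ⟨1, 1, -1, 1, 1, 1, 1, -1⟩, ⟨1, 1, 1, -1, 1, -1, -1, -1⟩], [], [], [
      ⟨-2, 0, 0, -1, -1, 0, 1, 1⟩, ⟨-2, 0, 0, 1, 1, 0, -1, -1⟩, ⟨0, -2, 0, -1, 1, 0, 1, -1⟩, ⟨0, -2, 0, 1, -1, 0, -1, 1⟩,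
      ⟨0, 0, -2, -1, 1, 0, -1, 1⟩, ⟨0, 0, 0, -1, -1, 2, -1, -1⟩, ⟨0, 0, 0, 1, 1, -2, 1, 1⟩, ⟨0, 0, 2, 1, -1, 0, 1, -1⟩,
      ⟨0, 2, 0, -1, 1, 0, 1, -1⟩, ⟨0, 2, 0, 1, -1, 0, -1, 1⟩, ⟨2, 0, 0, -1, -1, 0, 1, 1⟩, ⟨2, 0, 0, 1, 1, 0, -1, -1⟩], [], []],
   [[], [], [
      ⟨-2, 0, 0, -1, -1, 0, -1, -1⟩, ⟨-2, 0, 0, 1, 1, 0, 1, 1⟩, ⟨0, -2, 0, -1, 1, 0, -1, 1⟩, ⟨0, -2, 0, 1, -1, 0, 1, -1⟩,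
      ⟨0, 0, -2, -1, 1, 0, 1, -1⟩, ⟨0, 0, 0, -1, -1, 2, 1, 1⟩, ⟨0, 0, 0, 1, 1, -2, -1, -1⟩, ⟨0, 0, 2, 1, -1, 0, -1, 1⟩,
      ⟨0, 2, 0, -1, 1, 0, -1, 1⟩, ⟨0, 2, 0, 1, -1, 0, 1, -1⟩, ⟨2, 0, 0, -1, -1, 0, -1, -1⟩, ⟨2, 0, 0, 1, 1, 0, 1, 1⟩], [], [], [
      ⟨-1, -1, -1, 1, -1, 1, -1, -1⟩, ⟨-1, -1, 1, -1, -1, -1, 1, -1⟩, ⟨-1, -1, 1, 1, 1, -1, -1, 1⟩, ⟨-1, 1, -1, -1, -1, -1, -1, 1⟩,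
      ⟨-1, 1, 1, -1, 1, 1, -1, -1⟩, ⟨-1, 1, 1, 1, -1, 1, 1, 1⟩, ⟨1, -1, -1, -1, 1, -1, -1, -1⟩, ⟨1, -1, -1, 1, -1, -1, 1, 1⟩,
      ⟨1, -1, 1, 1, 1, 1, 1, -1⟩, ⟨1, 1, -1, -1, -1, 1, 1, -1⟩, ⟨1, 1, -1, 1, 1, 1, -1, 1⟩, ⟨1, 1, 1, -1, 1, -1, 1, 1⟩], [], [], [], [], [], [
      ⟨-1, 0, -2, 0, 0, -1, 1, 1⟩, ⟨-1, 0, 0, -2, 0, 1, -1, 1⟩, ⟨-1, 0, 0, 0, 2, 1, 1, -1⟩, ⟨-1, 0, 0, 2, 0, 1, -1, 1⟩,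
      ⟨-1, 0, 2, 0, 0, -1, 1, 1⟩, ⟨-1, 2, 0, 0, 0, -1, -1, -1⟩, ⟨1, -2, 0, 0, 0, 1, 1, 1⟩, ⟨1, 0, -2, 0, 0, 1, -1, -1⟩,
      ⟨1, 0, 0, -2, 0, -1, 1, -1⟩, ⟨1, 0, 0, 0, -2, -1, -1, 1⟩, ⟨1, 0, 0, 2, 0, -1, 1, -1⟩, ⟨1, 0, 2, 0, 0, 1, -1, -1⟩], [
      ⟨-2, -1, -1, 0, 0, 0, 1, -1⟩, ⟨0, -1, -1, 0, 0, -2, -1, 1⟩, ⟨0, -1, -1, 0, 0, 2, -1, 1⟩, ⟨0, -1, 1, -2, 0, 0, 1, 1⟩,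
      ⟨0, -1, 1, 0, -2, 0, -1, -1⟩, ⟨0, -1, 1, 0, 2, 0, -1, -1⟩, ⟨0, 1, -1, 0, -2, 0, 1, 1⟩, ⟨0, 1, -1, 0, 2, 0, 1, 1⟩,
      ⟨0, 1, -1, 2, 0, 0, -1, -1⟩, ⟨0, 1, 1, 0, 0, -2, 1, -1⟩, ⟨0, 1, 1, 0, 0, 2, 1, -1⟩, ⟨2, 1, 1, 0, 0, 0, -1, 1⟩], [], [], []],
   [[], [], [
      ⟨-1, 0, -1, -1, -2, 0, 0, 1⟩, ⟨-1, 0, -1, -1, 2, 0, 0, 1⟩, ⟨-1, 0, -1, 1, 0, 0, -2, -1⟩, ⟨-1, 0, 1, -1, 0, -2, 0, -1⟩,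
      ⟨-1, 0, 1, -1, 0, 2, 0, -1⟩, ⟨-1, 2, 1, 1, 0, 0, 0, 1⟩, ⟨1, -2, -1, -1, 0, 0, 0, -1⟩, ⟨1, 0, -1, 1, 0, -2, 0, 1⟩,
      ⟨1, 0, -1, 1, 0, 2, 0, 1⟩, ⟨1, 0, 1, -1, 0, 0, 2, 1⟩, ⟨1, 0, 1, 1, -2, 0, 0, -1⟩, ⟨1, 0, 1, 1, 2, 0, 0, -1⟩], [], [
      ⟨-1, -1, 0, -1, 0, 0, -1, 2⟩, ⟨-1, -1, 0, 1, -2, 0, 1, 0⟩, ⟨-1, -1, 0, 1, 2, 0, 1, 0⟩, ⟨-1, 1, -2, -1, 0, 0, 1, 0⟩,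
      ⟨-1, 1, 0, 1, 0, -2, -1, 0⟩, ⟨-1, 1, 0, 1, 0, 2, -1, 0⟩, ⟨1, -1, 0, -1, 0, -2, 1, 0⟩, ⟨1, -1, 0, -1, 0, 2, 1, 0⟩,
      ⟨1, -1, 2, 1, 0, 0, -1, 0⟩, ⟨1, 1, 0, -1, -2, 0, -1, 0⟩, ⟨1, 1, 0, -1, 2, 0, -1, 0⟩, ⟨1, 1, 0, 1, 0, 0, 1, -2⟩], [], [], [], [], [
      ⟨-2, -1, 1, 0, 0, 0, 1, -1⟩, ⟨0, -1, -1, 0, -2, 0, -1, -1⟩, ⟨0, -1, -1, 0, 2, 0, -1, -1⟩, ⟨0, -1, -1, 2, 0, 0, 1, 1⟩,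
      ⟨0, -1, 1, 0, 0, -2, -1, 1⟩, ⟨0, -1, 1, 0, 0, 2, -1, 1⟩, ⟨0, 1, -1, 0, 0, -2, 1, -1⟩, ⟨0, 1, -1, 0, 0, 2, 1, -1⟩,
      ⟨0, 1, 1, -2, 0, 0, -1, -1⟩, ⟨0, 1, 1, 0, -2, 0, 1, 1⟩, ⟨0, 1, 1, 0, 2, 0, 1, 1⟩, ⟨2, 1, -1, 0, 0, 0, -1, 1⟩], [], [], [], [], [], [
      ⟨-2, 0, 0, -2, 0, 0, 0, 0⟩, ⟨-2, 0, 0, 2, 0, 0, 0, 0⟩, ⟨0, -2, 0, 0, 0, 0, -2, 0⟩, ⟨0, -2, 0, 0, 0, 0, 2, 0⟩,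
      ⟨0, 0, -2, 0, 0, 0, 0, -2⟩, ⟨0, 0, -2, 0, 0, 0, 0, 2⟩, ⟨0, 0, 2, 0, 0, 0, 0, -2⟩, ⟨0, 0, 2, 0, 0, 0, 0, 2⟩,
      ⟨0, 2, 0, 0, 0, 0, -2, 0⟩, ⟨0, 2, 0, 0, 0, 0, 2, 0⟩, ⟨2, 0, 0, -2, 0, 0, 0, 0⟩, ⟨2, 0, 0, 2, 0, 0, 0, 0⟩]]],
  [
   [[], [
      ⟨-1, -2, 0, 0, 0, -1, -1, 1⟩, ⟨-1, 0, 0, -2, 0, 1, -1, -1⟩, ⟨-1, 0, 0, 0, 2, 1, 1, 1⟩, ⟨-1, 0, 0, 2, 0, 1, -1, -1⟩,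
      ⟨1, 0, 0, -2, 0, -1, 1, 1⟩, ⟨1, 0, 0, 0, -2, -1, -1, -1⟩, ⟨1, 0, 0, 2, 0, -1, 1, 1⟩, ⟨1, 2, 0, 0, 0, 1, 1, -1⟩], [
      ⟨-2, -1, 0, 0, 1, 1, -1, 0⟩, ⟨0, -1, 0, -2, -1, -1, -1, 0⟩, ⟨0, -1, 0, 0, 1, -1, 1, 2⟩, ⟨0, -1, 0, 2, -1, -1, -1, 0⟩,
      ⟨0, 1, 0, -2, 1, 1, 1, 0⟩, ⟨0, 1, 0, 0, -1, 1, -1, -2⟩, ⟨0, 1, 0, 2, 1, 1, 1, 0⟩, ⟨2, 1, 0, 0, -1, -1, 1, 0⟩], [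
      ⟨-1, -1, 0, -2, 1, 0, 0, 1⟩, ⟨-1, -1, 0, 0, -1, 0, -2, -1⟩, ⟨-1, -1, 0, 2, 1, 0, 0, 1⟩, ⟨-1, 1, 0, 0, 1, 2, 0, -1⟩,
      ⟨1, -1, 0, 0, -1, -2, 0, 1⟩, ⟨1, 1, 0, -2, -1, 0, 0, -1⟩, ⟨1, 1, 0, 0, 1, 0, 2, 1⟩, ⟨1, 1, 0, 2, -1, 0, 0, -1⟩], [
      ⟨0, -2, -1, 0, 1, 1, 0, 1⟩, ⟨0, -2, 1, 0, -1, -1, 0, -1⟩, ⟨0, 0, -1, -2, 1, -1, 0, -1⟩, ⟨0, 0, -1, 0, -1, -1, 2, 1⟩,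
      ⟨0, 0, 1, 0, 1, 1, -2, -1⟩, ⟨0, 0, 1, 2, -1, 1, 0, 1⟩, ⟨0, 2, -1, 0, 1, 1, 0, 1⟩, ⟨0, 2, 1, 0, -1, -1, 0, -1⟩], [
      ⟨-1, -2, 1, 0, 1, 0, 1, 0⟩, ⟨-1, 0, -1, -2, -1, 0, 1, 0⟩, ⟨-1, 0, -1, 0, 1, 0, -1, -2⟩, ⟨-1, 0, 1, 0, -1, -2, -1, 0⟩,
      ⟨1, 0, -1, 0, 1, 2, 1, 0⟩, ⟨1, 0, 1, 0, -1, 0, 1, 2⟩, ⟨1, 0, 1, 2, 1, 0, -1, 0⟩, ⟨1, 2, -1, 0, -1, 0, -1, 0⟩], [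
      ⟨-2, -1, -1, 0, 0, 0, 1, 1⟩, ⟨0, -1, -1, 0, 0, -2, -1, -1⟩, ⟨0, -1, -1, 0, 0, 2, -1, -1⟩, ⟨0, -1, 1, 2, 0, 0, 1, -1⟩,
      ⟨0, 1, -1, -2, 0, 0, -1, 1⟩, ⟨0, 1, 1, 0, 0, -2, 1, 1⟩, ⟨0, 1, 1, 0, 0, 2, 1, 1⟩, ⟨2, 1, 1, 0, 0, 0, -1, -1⟩], [
      ⟨-1, -1, -1, 0, -2, -1, 0, 0⟩, ⟨-1, -1, 1, 0, 0, 1, 0, -2⟩, ⟨-1, -1, 1, 0, 0, 1, 0, 2⟩, ⟨-1, 1, 1, 2, 0, -1, 0, 0⟩,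
      ⟨1, -1, -1, -2, 0, 1, 0, 0⟩, ⟨1, 1, -1, 0, 0, -1, 0, -2⟩, ⟨1, 1, -1, 0, 0, -1, 0, 2⟩, ⟨1, 1, 1, 0, 2, 1, 0, 0⟩], [
      ⟨0, -2, 0, -1, 1, 0, -1, -1⟩, ⟨0, -2, 0, 1, -1, 0, 1, 1⟩, ⟨0, 0, -2, -1, 1, 0, 1, 1⟩, ⟨0, 0, 0, -1, -1, -2, 1, -1⟩,
      ⟨0, 0, 0, 1, 1, 2, -1, 1⟩, ⟨0, 0, 2, 1, -1, 0, -1, -1⟩, ⟨0, 2, 0, -1, 1, 0, -1, -1⟩, ⟨0, 2, 0, 1, -1, 0, 1, 1⟩], [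
      ⟨-1, -2, 0, -1, -1, 1, 0, 0⟩, ⟨-1, 0, 0, 1, -1, -1, 0, -2⟩, ⟨-1, 0, 0, 1, -1, -1, 0, 2⟩, ⟨-1, 0, 2, 1, 1, 1, 0, 0⟩,
      ⟨1, 0, -2, -1, -1, -1, 0, 0⟩, ⟨1, 0, 0, -1, 1, 1, 0, -2⟩, ⟨1, 0, 0, -1, 1, 1, 0, 2⟩, ⟨1, 2, 0, 1, 1, -1, 0, 0⟩], [
      ⟨-2, -1, 0, -1, 0, -1, 0, -1⟩, ⟨0, -1, 0, -1, 0, 1, 2, 1⟩, ⟨0, -1, 0, 1, 2, 1, 0, -1⟩, ⟨0, -1, 2, 1, 0, -1, 0, 1⟩,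
      ⟨0, 1, -2, -1, 0, 1, 0, -1⟩, ⟨0, 1, 0, -1, -2, -1, 0, 1⟩, ⟨0, 1, 0, 1, 0, -1, -2, -1⟩, ⟨2, 1, 0, 1, 0, 1, 0, 1⟩], [
      ⟨-1, -1, -2, -1, 0, 0, -1, 0⟩, ⟨-1, -1, 0, 1, 0, -2, 1, 0⟩, ⟨-1, -1, 0, 1, 0, 2, 1, 0⟩, ⟨-1, 1, 0, -1, 0, 0, 1, 2⟩,
      ⟨1, -1, 0, 1, 0, 0, -1, -2⟩, ⟨1, 1, 0, -1, 0, -2, -1, 0⟩, ⟨1, 1, 0, -1, 0, 2, -1, 0⟩, ⟨1, 1, 2, 1, 0, 0, 1, 0⟩], [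
      ⟨0, -2, -1, -1, 0, -1, 1, 0⟩, ⟨0, -2, 1, 1, 0, 1, -1, 0⟩, ⟨0, 0, -1, -1, 2, 1, -1, 0⟩, ⟨0, 0, -1, 1, 0, 1, 1, 2⟩,
      ⟨0, 0, 1, -1, 0, -1, -1, -2⟩, ⟨0, 0, 1, 1, -2, -1, 1, 0⟩, ⟨0, 2, -1, -1, 0, -1, 1, 0⟩, ⟨0, 2, 1, 1, 0, 1, -1, 0⟩], [
      ⟨-1, -2, -1, 1, 0, 0, 0, -1⟩, ⟨-1, 0, -1, -1, 0, -2, 0, 1⟩, ⟨-1, 0, -1, -1, 0, 2, 0, 1⟩, ⟨-1, 0, 1, 1, 0, 0, 2, 1⟩,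
      ⟨1, 0, -1, -1, 0, 0, -2, -1⟩, ⟨1, 0, 1, 1, 0, -2, 0, -1⟩, ⟨1, 0, 1, 1, 0, 2, 0, -1⟩, ⟨1, 2, 1, -1, 0, 0, 0, 1⟩], [
      ⟨-2, -1, 1, 1, -1, 0, 0, 0⟩, ⟨0, -1, -1, -1, -1, 0, 0, -2⟩, ⟨0, -1, -1, -1, -1, 0, 0, 2⟩, ⟨0, -1, 1, -1, 1, 2, 0, 0⟩,
      ⟨0, 1, -1, 1, -1, -2, 0, 0⟩, ⟨0, 1, 1, 1, 1, 0, 0, -2⟩, ⟨0, 1, 1, 1, 1, 0, 0, 2⟩, ⟨2, 1, -1, -1, 1, 0, 0, 0⟩], [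
      ⟨-1, -1, -1, -1, 1, 1, 1, -1⟩, ⟨-1, -1, 1, -1, -1, -1, 1, 1⟩, ⟨-1, -1, 1, 1, 1, -1, -1, -1⟩, ⟨-1, 1, -1, -1, -1, -1, -1, -1⟩,
      ⟨1, -1, 1, 1, 1, 1, 1, 1⟩, ⟨1, 1, -1, -1, -1, 1, 1, 1⟩, ⟨1, 1, -1, 1, 1, 1, -1, -1⟩, ⟨1, 1, 1, 1, -1, -1, -1, 1⟩]],
   [[
      ⟨-1, -2, -1, 0, 1, 0, 1, 0⟩, ⟨-1, 0, -1, 0, -1, -2, -1, 0⟩, ⟨-1, 0, 1, 0, 1, 0, -1, -2⟩, ⟨-1, 0, 1, 2, -1, 0, 1, 0⟩,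
      ⟨1, 0, -1, -2, 1, 0, -1, 0⟩, ⟨1, 0, -1, 0, -1, 0, 1, 2⟩, ⟨1, 0, 1, 0, 1, 2, 1, 0⟩, ⟨1, 2, 1, 0, -1, 0, -1, 0⟩], [
      ⟨0, -2, -1, 0, -1, -1, 0, -1⟩, ⟨0, -2, 1, 0, 1, 1, 0, 1⟩, ⟨0, 0, -1, -2, -1, 1, 0, 1⟩, ⟨0, 0, -1, 0, 1, 1, -2, -1⟩,
      ⟨0, 0, 1, 0, -1, -1, 2, 1⟩, ⟨0, 0, 1, 2, 1, -1, 0, -1⟩, ⟨0, 2, -1, 0, -1, -1, 0, -1⟩, ⟨0, 2, 1, 0, 1, 1, 0, 1⟩], [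
      ⟨-1, -1, -1, 0, 0, 1, 0, -2⟩, ⟨-1, -1, -1, 0, 0, 1, 0, 2⟩, ⟨-1, -1, 1, 0, -2, -1, 0, 0⟩, ⟨-1, 1, -1, -2, 0, -1, 0, 0⟩,
      ⟨1, -1, 1, 2, 0, 1, 0, 0⟩, ⟨1, 1, -1, 0, 2, 1, 0, 0⟩, ⟨1, 1, 1, 0, 0, -1, 0, -2⟩, ⟨1, 1, 1, 0, 0, -1, 0, 2⟩], [
      ⟨-2, -1, 1, 0, 0, 0, 1, 1⟩, ⟨0, -1, -1, -2, 0, 0, 1, -1⟩, ⟨0, -1, 1, 0, 0, -2, -1, -1⟩, ⟨0, -1, 1, 0, 0, 2, -1, -1⟩,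
      ⟨0, 1, -1, 0, 0, -2, 1, 1⟩, ⟨0, 1, -1, 0, 0, 2, 1, 1⟩, ⟨0, 1, 1, 2, 0, 0, -1, 1⟩, ⟨2, 1, -1, 0, 0, 0, -1, -1⟩], [], [], [], [], [], [], [], [], [], [], [], []],
   [[
      ⟨-2, -1, 0, 1, 0, 1, 0, 1⟩, ⟨0, -1, -2, -1, 0, 1, 0, -1⟩, ⟨0, -1, 0, -1, -2, -1, 0, 1⟩, ⟨0, -1, 0, 1, 0, -1, -2, -1⟩,
      ⟨0, 1, 0, -1, 0, 1, 2, 1⟩, ⟨0, 1, 0, 1, 2, 1, 0, -1⟩, ⟨0, 1, 2, 1, 0, -1, 0, 1⟩, ⟨2, 1, 0, -1, 0, -1, 0, -1⟩], [], [], [], [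
      ⟨-2, -1, -1, -1, 1, 0, 0, 0⟩, ⟨0, -1, -1, 1, -1, -2, 0, 0⟩, ⟨0, -1, 1, 1, 1, 0, 0, -2⟩, ⟨0, -1, 1, 1, 1, 0, 0, 2⟩,
      ⟨0, 1, -1, -1, -1, 0, 0, -2⟩, ⟨0, 1, -1, -1, -1, 0, 0, 2⟩, ⟨0, 1, 1, -1, 1, 2, 0, 0⟩, ⟨2, 1, 1, 1, -1, 0, 0, 0⟩], [], [], [], [
      ⟨-2, -1, 0, 0, -1, -1, 1, 0⟩, ⟨0, -1, 0, -2, 1, 1, 1, 0⟩, ⟨0, -1, 0, 0, -1, 1, -1, -2⟩, ⟨0, -1, 0, 2, 1, 1, 1, 0⟩,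
      ⟨0, 1, 0, -2, -1, -1, -1, 0⟩, ⟨0, 1, 0, 0, 1, -1, 1, 2⟩, ⟨0, 1, 0, 2, -1, -1, -1, 0⟩, ⟨2, 1, 0, 0, 1, 1, -1, 0⟩], [], [], [], [
      ⟨-2, -1, 1, 0, 0, 0, -1, -1⟩, ⟨0, -1, -1, -2, 0, 0, -1, 1⟩, ⟨0, -1, 1, 0, 0, -2, 1, 1⟩, ⟨0, -1, 1, 0, 0, 2, 1, 1⟩,
      ⟨0, 1, -1, 0, 0, -2, -1, -1⟩, ⟨0, 1, -1, 0, 0, 2, -1, -1⟩, ⟨0, 1, 1, 2, 0, 0, 1, -1⟩, ⟨2, 1, -1, 0, 0, 0, 1, 1⟩], [], [], []],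
   [[
      ⟨-1, -1, -1, -1, 1, 1, -1, 1⟩, ⟨-1, -1, 1, -1, -1, -1, -1, -1⟩, ⟨-1, -1, 1, 1, 1, -1, 1, 1⟩, ⟨-1, 1, -1, -1, -1, -1, 1, 1⟩,
      ⟨1, -1, 1, 1, 1, 1, -1, -1⟩, ⟨1, 1, -1, -1, -1, 1, -1, -1⟩, ⟨1, 1, -1, 1, 1, 1, 1, 1⟩, ⟨1, 1, 1, 1, -1, -1, 1, -1⟩], [], [], [], [], [], [], [
      ⟨0, -2, 0, -1, 1, 0, 1, 1⟩, ⟨0, -2, 0, 1, -1, 0, -1, -1⟩, ⟨0, 0, -2, -1, 1, 0, -1, -1⟩, ⟨0, 0, 0, -1, -1, -2, -1, 1⟩,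
      ⟨0, 0, 0, 1, 1, 2, 1, -1⟩, ⟨0, 0, 2, 1, -1, 0, 1, 1⟩, ⟨0, 2, 0, -1, 1, 0, 1, 1⟩, ⟨0, 2, 0, 1, -1, 0, -1, -1⟩], [], [
      ⟨-2, -1, -1, 0, 0, 0, -1, -1⟩, ⟨0, -1, -1, 0, 0, -2, 1, 1⟩, ⟨0, -1, -1, 0, 0, 2, 1, 1⟩, ⟨0, -1, 1, 2, 0, 0, -1, 1⟩,
      ⟨0, 1, -1, -2, 0, 0, 1, -1⟩, ⟨0, 1, 1, 0, 0, -2, -1, -1⟩, ⟨0, 1, 1, 0, 0, 2, -1, -1⟩, ⟨2, 1, 1, 0, 0, 0, 1, 1⟩], [], [], [], [], [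
      ⟨-1, -2, 0, 0, 0, -1, 1, -1⟩, ⟨-1, 0, 0, -2, 0, 1, 1, 1⟩, ⟨-1, 0, 0, 0, 2, 1, -1, -1⟩, ⟨-1, 0, 0, 2, 0, 1, 1, 1⟩,
      ⟨1, 0, 0, -2, 0, -1, -1, -1⟩, ⟨1, 0, 0, 0, -2, -1, 1, 1⟩, ⟨1, 0, 0, 2, 0, -1, -1, -1⟩, ⟨1, 2, 0, 0, 0, 1, -1, 1⟩], []],
   [[
      ⟨0, -2, 0, 0, 0, -2, 0, 0⟩, ⟨0, -2, 0, 0, 0, 2, 0, 0⟩, ⟨0, 0, 0, -2, 0, 0, 0, -2⟩, ⟨0, 0, 0, -2, 0, 0, 0, 2⟩,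
      ⟨0, 0, 0, 2, 0, 0, 0, -2⟩, ⟨0, 0, 0, 2, 0, 0, 0, 2⟩, ⟨0, 2, 0, 0, 0, -2, 0, 0⟩, ⟨0, 2, 0, 0, 0, 2, 0, 0⟩], [], [], [], [], [
      ⟨-1, -2, 1, 0, -1, 0, -1, 0⟩, ⟨-1, 0, -1, -2, 1, 0, -1, 0⟩, ⟨-1, 0, -1, 0, -1, 0, 1, 2⟩, ⟨-1, 0, 1, 0, 1, 2, 1, 0⟩,
      ⟨1, 0, -1, 0, -1, -2, -1, 0⟩, ⟨1, 0, 1, 0, 1, 0, -1, -2⟩, ⟨1, 0, 1, 2, -1, 0, 1, 0⟩, ⟨1, 2, -1, 0, 1, 0, 1, 0⟩], [], [], [], [], [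
      ⟨-2, -1, 0, 1, 0, -1, 0, 1⟩, ⟨0, -1, -2, -1, 0, -1, 0, -1⟩, ⟨0, -1, 0, -1, 2, 1, 0, 1⟩, ⟨0, -1, 0, 1, 0, 1, -2, -1⟩,
      ⟨0, 1, 0, -1, 0, -1, 2, 1⟩, ⟨0, 1, 0, 1, -2, -1, 0, -1⟩, ⟨0, 1, 2, 1, 0, 1, 0, 1⟩, ⟨2, 1, 0, -1, 0, 1, 0, -1⟩], [], [], [], [], [
      ⟨-1, -1, -1, -1, -1, 1, -1, -1⟩, ⟨-1, -1, -1, 1, 1, 1, 1, 1⟩, ⟨-1, -1, 1, 1, -1, -1, 1, -1⟩, ⟨-1, 1, 1, 1, 1, 1, -1, -1⟩,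
      ⟨1, -1, -1, -1, -1, -1, 1, 1⟩, ⟨1, 1, -1, -1, 1, 1, -1, 1⟩, ⟨1, 1, 1, -1, -1, -1, -1, -1⟩, ⟨1, 1, 1, 1, 1, -1, 1, 1⟩]],
   [[
      ⟨-1, -2, -1, 0, -1, 0, -1, 0⟩, ⟨-1, 0, -1, 0, 1, 2, 1, 0⟩, ⟨-1, 0, 1, 0, -1, 0, 1, 2⟩, ⟨-1, 0, 1, 2, 1, 0, -1, 0⟩,
      ⟨1, 0, -1, -2, -1, 0, 1, 0⟩, ⟨1, 0, -1, 0, 1, 0, -1, -2⟩, ⟨1, 0, 1, 0, -1, -2, -1, 0⟩, ⟨1, 2, 1, 0, 1, 0, 1, 0⟩], [], [], [], [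
      ⟨-1, -2, 0, 0, 0, 1, 1, -1⟩, ⟨-1, 0, 0, -2, 0, -1, 1, 1⟩, ⟨-1, 0, 0, 0, -2, -1, -1, -1⟩, ⟨-1, 0, 0, 2, 0, -1, 1, 1⟩,
      ⟨1, 0, 0, -2, 0, 1, -1, -1⟩, ⟨1, 0, 0, 0, 2, 1, 1, 1⟩, ⟨1, 0, 0, 2, 0, 1, -1, -1⟩, ⟨1, 2, 0, 0, 0, -1, -1, 1⟩], [], [], [], [
      ⟨-1, -2, 1, -1, 0, 0, 0, 1⟩, ⟨-1, 0, -1, -1, 0, 0, -2, -1⟩, ⟨-1, 0, 1, 1, 0, -2, 0, -1⟩, ⟨-1, 0, 1, 1, 0, 2, 0, -1⟩,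
      ⟨1, 0, -1, -1, 0, -2, 0, 1⟩, ⟨1, 0, -1, -1, 0, 2, 0, 1⟩, ⟨1, 0, 1, 1, 0, 0, 2, 1⟩, ⟨1, 2, -1, 1, 0, 0, 0, -1⟩], [], [], [], [
      ⟨-1, -2, 0, 1, 1, -1, 0, 0⟩, ⟨-1, 0, -2, -1, -1, -1, 0, 0⟩, ⟨-1, 0, 0, -1, 1, 1, 0, -2⟩, ⟨-1, 0, 0, -1, 1, 1, 0, 2⟩,
      ⟨1, 0, 0, 1, -1, -1, 0, -2⟩, ⟨1, 0, 0, 1, -1, -1, 0, 2⟩, ⟨1, 0, 2, 1, 1, 1, 0, 0⟩, ⟨1, 2, 0, -1, -1, 1, 0, 0⟩], [], [], []],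
   [[
      ⟨-2, -1, 0, -1, 0, 1, 0, -1⟩, ⟨0, -1, 0, -1, 0, -1, 2, 1⟩, ⟨0, -1, 0, 1, -2, -1, 0, -1⟩, ⟨0, -1, 2, 1, 0, 1, 0, 1⟩,
      ⟨0, 1, -2, -1, 0, -1, 0, -1⟩, ⟨0, 1, 0, -1, 2, 1, 0, 1⟩, ⟨0, 1, 0, 1, 0, 1, -2, -1⟩, ⟨2, 1, 0, 1, 0, -1, 0, 1⟩], [], [], [], [], [], [
      ⟨0, -2, -1, -1, 0, 1, 1, 0⟩, ⟨0, -2, 1, 1, 0, -1, -1, 0⟩, ⟨0, 0, -1, -1, -2, -1, -1, 0⟩, ⟨0, 0, -1, 1, 0, -1, 1, 2⟩,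
      ⟨0, 0, 1, -1, 0, 1, -1, -2⟩, ⟨0, 0, 1, 1, 2, 1, 1, 0⟩, ⟨0, 2, -1, -1, 0, 1, 1, 0⟩, ⟨0, 2, 1, 1, 0, -1, -1, 0⟩], [], [], [], [], [
      ⟨-1, -2, 0, 0, 0, 1, -1, 1⟩, ⟨-1, 0, 0, -2, 0, -1, -1, -1⟩, ⟨-1, 0, 0, 0, -2, -1, 1, 1⟩, ⟨-1, 0, 0, 2, 0, -1, -1, -1⟩,
      ⟨1, 0, 0, -2, 0, 1, 1, 1⟩, ⟨1, 0, 0, 0, 2, 1, -1, -1⟩, ⟨1, 0, 0, 2, 0, 1, 1, 1⟩, ⟨1, 2, 0, 0, 0, -1, 1, -1⟩], [], [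
      ⟨-1, -1, -1, 0, 2, 1, 0, 0⟩, ⟨-1, -1, 1, 0, 0, -1, 0, -2⟩, ⟨-1, -1, 1, 0, 0, -1, 0, 2⟩, ⟨-1, 1, 1, 2, 0, 1, 0, 0⟩,
      ⟨1, -1, -1, -2, 0, -1, 0, 0⟩, ⟨1, 1, -1, 0, 0, 1, 0, -2⟩, ⟨1, 1, -1, 0, 0, 1, 0, 2⟩, ⟨1, 1, 1, 0, -2, -1, 0, 0⟩], [], []],
   [[
      ⟨-1, -1, -1, -1, -1, 1, 1, 1⟩, ⟨-1, -1, -1, 1, 1, 1, -1, -1⟩, ⟨-1, -1, 1, 1, -1, -1, -1, 1⟩, ⟨-1, 1, 1, 1, 1, 1, 1, 1⟩,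
      ⟨1, -1, -1, -1, -1, -1, -1, -1⟩, ⟨1, 1, -1, -1, 1, 1, 1, -1⟩, ⟨1, 1, 1, -1, -1, -1, 1, 1⟩, ⟨1, 1, 1, 1, 1, -1, -1, -1⟩], [], [], [], [
      ⟨-1, -1, 0, -1, 0, -2, -1, 0⟩, ⟨-1, -1, 0, -1, 0, 2, -1, 0⟩, ⟨-1, -1, 2, 1, 0, 0, 1, 0⟩, ⟨-1, 1, 0, 1, 0, 0, -1, -2⟩,
      ⟨1, -1, 0, -1, 0, 0, 1, 2⟩, ⟨1, 1, -2, -1, 0, 0, -1, 0⟩, ⟨1, 1, 0, 1, 0, -2, 1, 0⟩, ⟨1, 1, 0, 1, 0, 2, 1, 0⟩], [], [], [], [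
      ⟨-1, -1, -1, 0, 0, -1, 0, -2⟩, ⟨-1, -1, -1, 0, 0, -1, 0, 2⟩, ⟨-1, -1, 1, 0, 2, 1, 0, 0⟩, ⟨-1, 1, -1, -2, 0, 1, 0, 0⟩,
      ⟨1, -1, 1, 2, 0, -1, 0, 0⟩, ⟨1, 1, -1, 0, -2, -1, 0, 0⟩, ⟨1, 1, 1, 0, 0, 1, 0, -2⟩, ⟨1, 1, 1, 0, 0, 1, 0, 2⟩], [], [], [], [
      ⟨-1, -1, 0, -2, -1, 0, 0, -1⟩, ⟨-1, -1, 0, 0, 1, 0, 2, 1⟩, ⟨-1, -1, 0, 2, -1, 0, 0, -1⟩, ⟨-1, 1, 0, 0, -1, -2, 0, 1⟩,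
      ⟨1, -1, 0, 0, 1, 2, 0, -1⟩, ⟨1, 1, 0, -2, 1, 0, 0, 1⟩, ⟨1, 1, 0, 0, -1, 0, -2, -1⟩, ⟨1, 1, 0, 2, 1, 0, 0, 1⟩], [], [], []],
   [[
      ⟨0, -2, 0, -2, 0, 0, 0, 0⟩, ⟨0, -2, 0, 2, 0, 0, 0, 0⟩, ⟨0, 0, 0, 0, 0, -2, 0, -2⟩, ⟨0, 0, 0, 0, 0, -2, 0, 2⟩,
      ⟨0, 0, 0, 0, 0, 2, 0, -2⟩, ⟨0, 0, 0, 0, 0, 2, 0, 2⟩, ⟨0, 2, 0, -2, 0, 0, 0, 0⟩, ⟨0, 2, 0, 2, 0, 0, 0, 0⟩], [], [], [], [], [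
      ⟨-1, -2, -1, 0, -1, 0, 1, 0⟩, ⟨-1, 0, -1, 0, 1, 2, -1, 0⟩, ⟨-1, 0, 1, 0, -1, 0, -1, -2⟩, ⟨-1, 0, 1, 2, 1, 0, 1, 0⟩,
      ⟨1, 0, -1, -2, -1, 0, -1, 0⟩, ⟨1, 0, -1, 0, 1, 0, 1, 2⟩, ⟨1, 0, 1, 0, -1, -2, 1, 0⟩, ⟨1, 2, 1, 0, 1, 0, -1, 0⟩], [], [], [], [], [
      ⟨-2, -1, 0, -1, 0, 1, 0, 1⟩, ⟨0, -1, 0, -1, 0, -1, -2, -1⟩, ⟨0, -1, 0, 1, -2, -1, 0, 1⟩, ⟨0, -1, 2, 1, 0, 1, 0, -1⟩,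
      ⟨0, 1, -2, -1, 0, -1, 0, 1⟩, ⟨0, 1, 0, -1, 2, 1, 0, -1⟩, ⟨0, 1, 0, 1, 0, 1, 2, 1⟩, ⟨2, 1, 0, 1, 0, -1, 0, -1⟩], [], [], [], [], [
      ⟨-1, -1, -1, -1, 1, -1, 1, 1⟩, ⟨-1, -1, -1, 1, -1, -1, -1, -1⟩, ⟨-1, -1, 1, 1, 1, 1, -1, 1⟩, ⟨-1, 1, 1, 1, -1, -1, 1, 1⟩,
      ⟨1, -1, -1, -1, 1, 1, -1, -1⟩, ⟨1, 1, -1, -1, -1, -1, 1, -1⟩, ⟨1, 1, 1, -1, 1, 1, 1, 1⟩, ⟨1, 1, 1, 1, -1, 1, -1, -1⟩]],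
   [[
      ⟨-1, -2, 1, 0, -1, 0, 1, 0⟩, ⟨-1, 0, -1, -2, 1, 0, 1, 0⟩, ⟨-1, 0, -1, 0, -1, 0, -1, -2⟩, ⟨-1, 0, 1, 0, 1, 2, -1, 0⟩,
      ⟨1, 0, -1, 0, -1, -2, 1, 0⟩, ⟨1, 0, 1, 0, 1, 0, 1, 2⟩, ⟨1, 0, 1, 2, -1, 0, -1, 0⟩, ⟨1, 2, -1, 0, 1, 0, -1, 0⟩], [], [], [], [], [], [
      ⟨-1, -1, 0, -2, -1, 0, 0, 1⟩, ⟨-1, -1, 0, 0, 1, 0, -2, -1⟩, ⟨-1, -1, 0, 2, -1, 0, 0, 1⟩, ⟨-1, 1, 0, 0, -1, -2, 0, -1⟩,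
      ⟨1, -1, 0, 0, 1, 2, 0, 1⟩, ⟨1, 1, 0, -2, 1, 0, 0, -1⟩, ⟨1, 1, 0, 0, -1, 0, 2, 1⟩, ⟨1, 1, 0, 2, 1, 0, 0, -1⟩], [], [], [], [], [
      ⟨-2, -1, 1, 1, 1, 0, 0, 0⟩, ⟨0, -1, -1, -1, 1, 0, 0, -2⟩, ⟨0, -1, -1, -1, 1, 0, 0, 2⟩, ⟨0, -1, 1, -1, -1, -2, 0, 0⟩,
      ⟨0, 1, -1, 1, 1, 2, 0, 0⟩, ⟨0, 1, 1, 1, -1, 0, 0, -2⟩, ⟨0, 1, 1, 1, -1, 0, 0, 2⟩, ⟨2, 1, -1, -1, -1, 0, 0, 0⟩], [], [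
      ⟨0, -2, 0, -1, -1, 0, -1, -1⟩, ⟨0, -2, 0, 1, 1, 0, 1, 1⟩, ⟨0, 0, -2, -1, -1, 0, 1, 1⟩, ⟨0, 0, 0, -1, 1, 2, 1, -1⟩,
      ⟨0, 0, 0, 1, -1, -2, -1, 1⟩, ⟨0, 0, 2, 1, 1, 0, -1, -1⟩, ⟨0, 2, 0, -1, -1, 0, -1, -1⟩, ⟨0, 2, 0, 1, 1, 0, 1, 1⟩], [], []],
   [[
      ⟨-2, -1, 0, 1, 0, -1, 0, -1⟩, ⟨0, -1, -2, -1, 0, -1, 0, 1⟩, ⟨0, -1, 0, -1, 2, 1, 0, -1⟩, ⟨0, -1, 0, 1, 0, 1, 2, 1⟩,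
      ⟨0, 1, 0, -1, 0, -1, -2, -1⟩, ⟨0, 1, 0, 1, -2, -1, 0, 1⟩, ⟨0, 1, 2, 1, 0, 1, 0, -1⟩, ⟨2, 1, 0, -1, 0, 1, 0, 1⟩], [
      ⟨-1, -1, 0, -1, 0, -2, 1, 0⟩, ⟨-1, -1, 0, -1, 0, 2, 1, 0⟩, ⟨-1, -1, 2, 1, 0, 0, -1, 0⟩, ⟨-1, 1, 0, 1, 0, 0, 1, 2⟩,
      ⟨1, -1, 0, -1, 0, 0, -1, -2⟩, ⟨1, 1, -2, -1, 0, 0, 1, 0⟩, ⟨1, 1, 0, 1, 0, -2, -1, 0⟩, ⟨1, 1, 0, 1, 0, 2, -1, 0⟩], [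
      ⟨0, -2, 0, -1, -1, 0, 1, 1⟩, ⟨0, -2, 0, 1, 1, 0, -1, -1⟩, ⟨0, 0, -2, -1, -1, 0, -1, -1⟩, ⟨0, 0, 0, -1, 1, 2, -1, 1⟩,
      ⟨0, 0, 0, 1, -1, -2, 1, -1⟩, ⟨0, 0, 2, 1, 1, 0, 1, 1⟩, ⟨0, 2, 0, -1, -1, 0, 1, 1⟩, ⟨0, 2, 0, 1, 1, 0, -1, -1⟩], [
      ⟨-1, -2, 0, 1, -1, 1, 0, 0⟩, ⟨-1, 0, -2, -1, 1, 1, 0, 0⟩, ⟨-1, 0, 0, -1, -1, -1, 0, -2⟩, ⟨-1, 0, 0, -1, -1, -1, 0, 2⟩,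
      ⟨1, 0, 0, 1, 1, 1, 0, -2⟩, ⟨1, 0, 0, 1, 1, 1, 0, 2⟩, ⟨1, 0, 2, 1, -1, -1, 0, 0⟩, ⟨1, 2, 0, -1, 1, -1, 0, 0⟩], [], [], [], [], [], [], [], [], [], [], [], []],
   [[
      ⟨-1, -1, -1, -1, 1, -1, -1, -1⟩, ⟨-1, -1, -1, 1, -1, -1, 1, 1⟩, ⟨-1, -1, 1, 1, 1, 1, 1, -1⟩, ⟨-1, 1, 1, 1, -1, -1, -1, -1⟩,
      ⟨1, -1, -1, -1, 1, 1, 1, 1⟩, ⟨1, 1, -1, -1, -1, -1, -1, 1⟩, ⟨1, 1, 1, -1, 1, 1, -1, -1⟩, ⟨1, 1, 1, 1, -1, 1, 1, 1⟩], [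
      ⟨-2, -1, -1, -1, -1, 0, 0, 0⟩, ⟨0, -1, -1, 1, 1, 2, 0, 0⟩, ⟨0, -1, 1, 1, -1, 0, 0, -2⟩, ⟨0, -1, 1, 1, -1, 0, 0, 2⟩,
      ⟨0, 1, -1, -1, 1, 0, 0, -2⟩, ⟨0, 1, -1, -1, 1, 0, 0, 2⟩, ⟨0, 1, 1, -1, -1, -2, 0, 0⟩, ⟨2, 1, 1, 1, 1, 0, 0, 0⟩], [
      ⟨-1, -2, 1, -1, 0, 0, 0, -1⟩, ⟨-1, 0, -1, -1, 0, 0, 2, 1⟩, ⟨-1, 0, 1, 1, 0, -2, 0, 1⟩, ⟨-1, 0, 1, 1, 0, 2, 0, 1⟩,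
      ⟨1, 0, -1, -1, 0, -2, 0, -1⟩, ⟨1, 0, -1, -1, 0, 2, 0, -1⟩, ⟨1, 0, 1, 1, 0, 0, -2, -1⟩, ⟨1, 2, -1, 1, 0, 0, 0, 1⟩], [
      ⟨0, -2, -1, -1, 0, 1, -1, 0⟩, ⟨0, -2, 1, 1, 0, -1, 1, 0⟩, ⟨0, 0, -1, -1, -2, -1, 1, 0⟩, ⟨0, 0, -1, 1, 0, -1, -1, -2⟩,
      ⟨0, 0, 1, -1, 0, 1, 1, 2⟩, ⟨0, 0, 1, 1, 2, 1, -1, 0⟩, ⟨0, 2, -1, -1, 0, 1, -1, 0⟩, ⟨0, 2, 1, 1, 0, -1, 1, 0⟩], [], [], [], [], [], [], [], [], [], [], [], []],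
   [[
      ⟨0, -2, 0, 0, 0, 0, 0, -2⟩, ⟨0, -2, 0, 0, 0, 0, 0, 2⟩, ⟨0, 0, 0, -2, 0, -2, 0, 0⟩, ⟨0, 0, 0, -2, 0, 2, 0, 0⟩,
      ⟨0, 0, 0, 2, 0, -2, 0, 0⟩, ⟨0, 0, 0, 2, 0, 2, 0, 0⟩, ⟨0, 2, 0, 0, 0, 0, 0, -2⟩, ⟨0, 2, 0, 0, 0, 0, 0, 2⟩], [], [], [], [], [
      ⟨-1, -2, -1, 0, 1, 0, -1, 0⟩, ⟨-1, 0, -1, 0, -1, -2, 1, 0⟩, ⟨-1, 0, 1, 0, 1, 0, 1, 2⟩, ⟨-1, 0, 1, 2, -1, 0, -1, 0⟩,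
      ⟨1, 0, -1, -2, 1, 0, 1, 0⟩, ⟨1, 0, -1, 0, -1, 0, -1, -2⟩, ⟨1, 0, 1, 0, 1, 2, -1, 0⟩, ⟨1, 2, 1, 0, -1, 0, 1, 0⟩], [], [], [], [], [
      ⟨-2, -1, 0, 1, 0, 1, 0, -1⟩, ⟨0, -1, -2, -1, 0, 1, 0, 1⟩, ⟨0, -1, 0, -1, -2, -1, 0, -1⟩, ⟨0, -1, 0, 1, 0, -1, 2, 1⟩,
      ⟨0, 1, 0, -1, 0, 1, -2, -1⟩, ⟨0, 1, 0, 1, 2, 1, 0, 1⟩, ⟨0, 1, 2, 1, 0, -1, 0, -1⟩, ⟨2, 1, 0, -1, 0, -1, 0, 1⟩], [], [], [], [], [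
      ⟨-1, -1, -1, -1, -1, -1, -1, 1⟩, ⟨-1, -1, 1, -1, 1, 1, -1, -1⟩, ⟨-1, -1, 1, 1, -1, 1, 1, 1⟩, ⟨-1, 1, -1, -1, 1, 1, 1, 1⟩,
      ⟨1, -1, 1, 1, -1, -1, -1, -1⟩, ⟨1, 1, -1, -1, 1, -1, -1, -1⟩, ⟨1, 1, -1, 1, -1, -1, 1, 1⟩, ⟨1, 1, 1, 1, 1, 1, 1, -1⟩]],
   [[
      ⟨-1, -2, 1, 0, 1, 0, -1, 0⟩, ⟨-1, 0, -1, -2, -1, 0, -1, 0⟩, ⟨-1, 0, -1, 0, 1, 0, 1, 2⟩, ⟨-1, 0, 1, 0, -1, -2, 1, 0⟩,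
      ⟨1, 0, -1, 0, 1, 2, -1, 0⟩, ⟨1, 0, 1, 0, -1, 0, -1, -2⟩, ⟨1, 0, 1, 2, 1, 0, 1, 0⟩, ⟨1, 2, -1, 0, -1, 0, 1, 0⟩], [], [], [], [], [], [], [
      ⟨-2, -1, 0, 0, 1, 1, 1, 0⟩, ⟨0, -1, 0, -2, -1, -1, 1, 0⟩, ⟨0, -1, 0, 0, 1, -1, -1, -2⟩, ⟨0, -1, 0, 2, -1, -1, 1, 0⟩,
      ⟨0, 1, 0, -2, 1, 1, -1, 0⟩, ⟨0, 1, 0, 0, -1, 1, 1, 2⟩, ⟨0, 1, 0, 2, 1, 1, -1, 0⟩, ⟨2, 1, 0, 0, -1, -1, -1, 0⟩], [], [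
      ⟨0, -2, -1, -1, 0, -1, -1, 0⟩, ⟨0, -2, 1, 1, 0, 1, 1, 0⟩, ⟨0, 0, -1, -1, 2, 1, 1, 0⟩, ⟨0, 0, -1, 1, 0, 1, -1, -2⟩,
      ⟨0, 0, 1, -1, 0, -1, 1, 2⟩, ⟨0, 0, 1, 1, -2, -1, -1, 0⟩, ⟨0, 2, -1, -1, 0, -1, -1, 0⟩, ⟨0, 2, 1, 1, 0, 1, 1, 0⟩], [], [], [], [], [
      ⟨-1, -1, -2, -1, 0, 0, 1, 0⟩, ⟨-1, -1, 0, 1, 0, -2, -1, 0⟩, ⟨-1, -1, 0, 1, 0, 2, -1, 0⟩, ⟨-1, 1, 0, -1, 0, 0, -1, -2⟩,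
      ⟨1, -1, 0, 1, 0, 0, 1, 2⟩, ⟨1, 1, 0, -1, 0, -2, 1, 0⟩, ⟨1, 1, 0, -1, 0, 2, 1, 0⟩, ⟨1, 1, 2, 1, 0, 0, -1, 0⟩], []],
   [[
      ⟨-2, -1, 0, -1, 0, -1, 0, 1⟩, ⟨0, -1, 0, -1, 0, 1, -2, -1⟩, ⟨0, -1, 0, 1, 2, 1, 0, 1⟩, ⟨0, -1, 2, 1, 0, -1, 0, -1⟩,
      ⟨0, 1, -2, -1, 0, 1, 0, 1⟩, ⟨0, 1, 0, -1, -2, -1, 0, -1⟩, ⟨0, 1, 0, 1, 0, -1, 2, 1⟩, ⟨2, 1, 0, 1, 0, 1, 0, -1⟩], [], [], [], [], [], [], [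
      ⟨-1, -2, -1, 1, 0, 0, 0, 1⟩, ⟨-1, 0, -1, -1, 0, -2, 0, -1⟩, ⟨-1, 0, -1, -1, 0, 2, 0, -1⟩, ⟨-1, 0, 1, 1, 0, 0, -2, -1⟩,
      ⟨1, 0, -1, -1, 0, 0, 2, 1⟩, ⟨1, 0, 1, 1, 0, -2, 0, 1⟩, ⟨1, 0, 1, 1, 0, 2, 0, 1⟩, ⟨1, 2, 1, -1, 0, 0, 0, -1⟩], [], [
      ⟨-1, -1, 0, -2, 1, 0, 0, -1⟩, ⟨-1, -1, 0, 0, -1, 0, 2, 1⟩, ⟨-1, -1, 0, 2, 1, 0, 0, -1⟩, ⟨-1, 1, 0, 0, 1, 2, 0, 1⟩,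
      ⟨1, -1, 0, 0, -1, -2, 0, -1⟩, ⟨1, 1, 0, -2, -1, 0, 0, 1⟩, ⟨1, 1, 0, 0, 1, 0, -2, -1⟩, ⟨1, 1, 0, 2, -1, 0, 0, 1⟩], [], [], [], [], [
      ⟨0, -2, -1, 0, 1, 1, 0, -1⟩, ⟨0, -2, 1, 0, -1, -1, 0, 1⟩, ⟨0, 0, -1, -2, 1, -1, 0, 1⟩, ⟨0, 0, -1, 0, -1, -1, -2, -1⟩,
      ⟨0, 0, 1, 0, 1, 1, 2, 1⟩, ⟨0, 0, 1, 2, -1, 1, 0, -1⟩, ⟨0, 2, -1, 0, 1, 1, 0, -1⟩, ⟨0, 2, 1, 0, -1, -1, 0, 1⟩], []],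
   [[
      ⟨-1, -1, -1, -1, -1, -1, 1, -1⟩, ⟨-1, -1, 1, -1, 1, 1, 1, 1⟩, ⟨-1, -1, 1, 1, -1, 1, -1, -1⟩, ⟨-1, 1, -1, -1, 1, 1, -1, -1⟩,
      ⟨1, -1, 1, 1, -1, -1, 1, 1⟩, ⟨1, 1, -1, -1, 1, -1, 1, 1⟩, ⟨1, 1, -1, 1, -1, -1, -1, -1⟩, ⟨1, 1, 1, 1, 1, 1, -1, 1⟩], [], [], [], [], [], [
      ⟨-1, -2, 0, -1, 1, -1, 0, 0⟩, ⟨-1, 0, 0, 1, 1, 1, 0, -2⟩, ⟨-1, 0, 0, 1, 1, 1, 0, 2⟩, ⟨-1, 0, 2, 1, -1, -1, 0, 0⟩,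
      ⟨1, 0, -2, -1, 1, 1, 0, 0⟩, ⟨1, 0, 0, -1, -1, -1, 0, -2⟩, ⟨1, 0, 0, -1, -1, -1, 0, 2⟩, ⟨1, 2, 0, 1, -1, 1, 0, 0⟩], [], [], [], [], [
      ⟨0, -2, -1, 0, -1, -1, 0, 1⟩, ⟨0, -2, 1, 0, 1, 1, 0, -1⟩, ⟨0, 0, -1, -2, -1, 1, 0, -1⟩, ⟨0, 0, -1, 0, 1, 1, 2, 1⟩,
      ⟨0, 0, 1, 0, -1, -1, -2, -1⟩, ⟨0, 0, 1, 2, 1, -1, 0, 1⟩, ⟨0, 2, -1, 0, -1, -1, 0, 1⟩, ⟨0, 2, 1, 0, 1, 1, 0, -1⟩], [], [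
      ⟨-2, -1, 0, 0, -1, -1, -1, 0⟩, ⟨0, -1, 0, -2, 1, 1, -1, 0⟩, ⟨0, -1, 0, 0, -1, 1, 1, 2⟩, ⟨0, -1, 0, 2, 1, 1, -1, 0⟩,
      ⟨0, 1, 0, -2, -1, -1, 1, 0⟩, ⟨0, 1, 0, 0, 1, -1, -1, -2⟩, ⟨0, 1, 0, 2, -1, -1, 1, 0⟩, ⟨2, 1, 0, 0, 1, 1, 1, 0⟩], [], []]],
  [
   [[], [], [], [], [], [], [], [], [], [], [], [], [], [], [], []],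
   [[], [], [], [], [], [], [], [], [
      ⟨-1, -2, 1, 1, 0, 0, 0, -1⟩, ⟨1, 2, -1, -1, 0, 0, 0, 1⟩], [
      ⟨0, 0, -1, -1, 0, -1, -1, -2⟩, ⟨0, 0, 1, 1, 0, 1, 1, 2⟩], [
      ⟨-1, -1, -1, -1, -1, -1, 1, 1⟩, ⟨1, 1, 1, 1, 1, 1, -1, -1⟩], [
      ⟨0, -1, -1, -1, 1, 2, 0, 0⟩, ⟨0, 1, 1, 1, -1, -2, 0, 0⟩], [], [], [], []],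
   [[], [
      ⟨-1, -1, 0, -1, 0, 0, 1, 2⟩, ⟨1, 1, 0, 1, 0, 0, -1, -2⟩], [], [], [], [
      ⟨-1, -1, -1, -1, -1, -1, -1, -1⟩, ⟨1, 1, 1, 1, 1, 1, 1, 1⟩], [], [], [], [
      ⟨-1, -1, 0, 0, 1, 2, 0, -1⟩, ⟨1, 1, 0, 0, -1, -2, 0, 1⟩], [], [], [], [
      ⟨-1, -1, 1, 2, 0, -1, 0, 0⟩, ⟨1, 1, -1, -2, 0, 1, 0, 0⟩], [], []],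
   [[], [
      ⟨0, -1, 1, 1, -1, -2, 0, 0⟩, ⟨0, 1, -1, -1, 1, 2, 0, 0⟩], [], [], [], [], [
      ⟨-1, -2, 0, 1, 1, 1, 0, 0⟩, ⟨1, 2, 0, -1, -1, -1, 0, 0⟩], [], [
      ⟨-1, -1, -1, -2, 0, -1, 0, 0⟩, ⟨1, 1, 1, 2, 0, 1, 0, 0⟩], [], [], [], [], [], [], [
      ⟨0, 0, 0, 0, 0, 0, -2, -2⟩, ⟨0, 0, 0, 0, 0, 0, 2, 2⟩]],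
   [[], [], [
      ⟨0, -1, 0, 0, -1, -1, -1, -2⟩, ⟨0, 1, 0, 0, 1, 1, 1, 2⟩], [], [], [], [], [
      ⟨-1, -1, 1, 2, 0, 1, 0, 0⟩, ⟨1, 1, -1, -2, 0, -1, 0, 0⟩], [
      ⟨0, 0, 0, -1, 1, 2, -1, -1⟩, ⟨0, 0, 0, 1, -1, -2, 1, 1⟩], [], [], [], [], [
      ⟨-1, -2, -1, -1, 0, 0, 0, 1⟩, ⟨1, 2, 1, 1, 0, 0, 0, -1⟩], [], []],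
   [[], [], [
      ⟨-1, -1, -1, -2, 0, 1, 0, 0⟩, ⟨1, 1, 1, 2, 0, -1, 0, 0⟩], [], [], [], [
      ⟨-1, -1, 0, 0, -1, -2, 0, 1⟩, ⟨1, 1, 0, 0, 1, 2, 0, -1⟩], [], [], [], [
      ⟨-1, -1, 1, 1, 1, 1, 1, 1⟩, ⟨1, 1, -1, -1, -1, -1, -1, -1⟩], [], [], [], [
      ⟨-1, -1, 0, 1, 0, 0, -1, -2⟩, ⟨1, 1, 0, -1, 0, 0, 1, 2⟩], []],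
   [[], [], [], [
      ⟨-1, -2, 0, -1, -1, -1, 0, 0⟩, ⟨1, 2, 0, 1, 1, 1, 0, 0⟩], [], [
      ⟨-1, -1, 1, 1, 1, 1, -1, -1⟩, ⟨1, 1, -1, -1, -1, -1, 1, 1⟩], [], [], [
      ⟨0, -1, 0, 0, 1, 1, 1, 2⟩, ⟨0, 1, 0, 0, -1, -1, -1, -2⟩], [], [], [], [], [], [
      ⟨0, 0, -1, -2, 1, 1, 0, -1⟩, ⟨0, 0, 1, 2, -1, -1, 0, 1⟩], []],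
   [[], [], [], [
      ⟨0, 0, -1, -1, 0, 1, -1, -2⟩, ⟨0, 0, 1, 1, 0, -1, 1, 2⟩], [], [], [], [
      ⟨0, 0, 0, -1, 1, 2, 1, 1⟩, ⟨0, 0, 0, 1, -1, -2, -1, -1⟩], [], [], [], [
      ⟨0, 0, -1, -2, -1, -1, 0, 1⟩, ⟨0, 0, 1, 2, 1, 1, 0, -1⟩], [], [], [], [
      ⟨-2, -2, 0, 0, 0, 0, 0, 0⟩, ⟨2, 2, 0, 0, 0, 0, 0, 0⟩]],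
   [[], [
      ⟨-1, -2, 0, 0, 0, 1, -1, -1⟩, ⟨1, 2, 0, 0, 0, -1, 1, 1⟩], [], [], [
      ⟨0, 0, -1, -2, 1, 1, 0, 1⟩, ⟨0, 0, 1, 2, -1, -1, 0, -1⟩], [], [], [], [], [], [], [
      ⟨-1, -1, 0, 1, 0, 0, 1, 2⟩, ⟨1, 1, 0, -1, 0, 0, -1, -2⟩], [], [], [
      ⟨0, -1, -1, -1, -1, -2, 0, 0⟩, ⟨0, 1, 1, 1, 1, 2, 0, 0⟩], []],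
   [[], [
      ⟨0, 0, -1, -2, -1, -1, 0, -1⟩, ⟨0, 0, 1, 2, 1, 1, 0, 1⟩], [], [], [], [], [], [
      ⟨0, -1, 0, 0, -1, -1, 1, 2⟩, ⟨0, 1, 0, 0, 1, 1, -1, -2⟩], [], [], [
      ⟨-1, -1, 1, 1, -1, -1, -1, -1⟩, ⟨1, 1, -1, -1, 1, 1, 1, 1⟩], [], [
      ⟨-1, -2, 0, -1, 1, 1, 0, 0⟩, ⟨1, 2, 0, 1, -1, -1, 0, 0⟩], [], [], []],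
   [[], [], [], [], [
      ⟨0, -1, 1, 1, 1, 2, 0, 0⟩, ⟨0, 1, -1, -1, -1, -2, 0, 0⟩], [
      ⟨-1, -1, 1, 1, -1, -1, 1, 1⟩, ⟨1, 1, -1, -1, 1, 1, -1, -1⟩], [
      ⟨0, 0, -1, -1, 0, 1, 1, 2⟩, ⟨0, 0, 1, 1, 0, -1, -1, -2⟩], [
      ⟨-1, -2, -1, -1, 0, 0, 0, -1⟩, ⟨1, 2, 1, 1, 0, 0, 0, 1⟩], [], [], [], [], [], [], [], []],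
   [[], [], [], [], [], [], [], [], [], [], [], [], [
      ⟨-1, -1, 0, 0, -1, -2, 0, -1⟩, ⟨1, 1, 0, 0, 1, 2, 0, 1⟩], [
      ⟨0, -1, 0, 0, 1, 1, -1, -2⟩, ⟨0, 1, 0, 0, -1, -1, 1, 2⟩], [
      ⟨-1, -2, 0, 0, 0, 1, 1, 1⟩, ⟨1, 2, 0, 0, 0, -1, -1, -1⟩], [
      ⟨0, 0, -2, -2, 0, 0, 0, 0⟩, ⟨0, 0, 2, 2, 0, 0, 0, 0⟩]],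
   [[], [], [], [
      ⟨-1, -1, 0, 0, 1, 2, 0, 1⟩, ⟨1, 1, 0, 0, -1, -2, 0, -1⟩], [], [], [
      ⟨0, -1, -1, -2, 0, 0, -1, -1⟩, ⟨0, 1, 1, 2, 0, 0, 1, 1⟩], [], [], [
      ⟨-1, -2, 0, 1, -1, -1, 0, 0⟩, ⟨1, 2, 0, -1, 1, 1, 0, 0⟩], [], [], [
      ⟨0, 0, -1, -1, 0, -1, 1, 2⟩, ⟨0, 0, 1, 1, 0, 1, -1, -2⟩], [], [], []],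
   [[], [], [], [
      ⟨0, -1, 1, 2, 0, 0, -1, -1⟩, ⟨0, 1, -1, -2, 0, 0, 1, 1⟩], [
      ⟨-1, -2, 0, 0, 0, -1, 1, 1⟩, ⟨1, 2, 0, 0, 0, 1, -1, -1⟩], [], [], [], [], [], [
      ⟨-1, -1, -1, -1, 1, 1, -1, -1⟩, ⟨1, 1, 1, 1, -1, -1, 1, 1⟩], [], [], [
      ⟨0, 0, 0, -1, -1, -2, -1, -1⟩, ⟨0, 0, 0, 1, 1, 2, 1, 1⟩], [], []],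
   [[], [], [
      ⟨0, 0, 0, -1, -1, -2, 1, 1⟩, ⟨0, 0, 0, 1, 1, 2, -1, -1⟩], [], [], [
      ⟨-1, -1, -1, -1, 1, 1, 1, 1⟩, ⟨1, 1, 1, 1, -1, -1, -1, -1⟩], [], [], [], [], [], [
      ⟨-1, -2, 0, 0, 0, -1, -1, -1⟩, ⟨1, 2, 0, 0, 0, 1, 1, 1⟩], [
      ⟨0, -1, 1, 2, 0, 0, 1, 1⟩, ⟨0, 1, -1, -2, 0, 0, -1, -1⟩], [], [], []],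
   [[], [], [
      ⟨-1, -2, 1, 1, 0, 0, 0, 1⟩, ⟨1, 2, -1, -1, 0, 0, 0, -1⟩], [], [
      ⟨-1, -1, 0, -1, 0, 0, -1, -2⟩, ⟨1, 1, 0, 1, 0, 0, 1, 2⟩], [], [], [], [], [
      ⟨0, -1, -1, -2, 0, 0, 1, 1⟩, ⟨0, 1, 1, 2, 0, 0, -1, -1⟩], [], [], [], [], [], [
      ⟨0, 0, 0, 0, -2, -2, 0, 0⟩, ⟨0, 0, 0, 0, 2, 2, 0, 0⟩]]]]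

end Cfsg.Agent.H60J2
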