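import Cfsg.Agent.Lib.Helper60.J2PermData

/-!
# Certificate data for the 2-fusion system of the Hall–Janko group (helper60)

Words are lists of generator indices (rows of `j2Tab`), the first letter acting first.
`fusWTo`: a word mapping the point `0` to each point.  `fusGen`: six involutions generating a
Sylow 2-subgroup `S` of the stabiliser of `0` (the first four are reflections of the indices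
`fusGenF`).  `fusL`: the 128 elements of `S`; `fusSig`: left multiplication by the generators;
`fusTree`: a spanning tree; `fusKeys`: the images of the base points; `fusKF`: the positions of the
eleven reflections commuting with the reflection `0`; `fusCen`: witnesses of non-centrality;
`fusChain`: the last two generators as (conjugate of an element of `Q`) times (element of `Q`);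
`fusOrb`: orbit representatives for a stabiliser chain; `fusX`: three involutions of the
stabiliser with products of orders 3 and 5.  Generated offline; re-checked by the kernel.
-/

set_option autoImplicit false

namespace Cfsg.Agent.H60J2

def fusF0 : List Nat := [0, 9, 306, 307, 308, 309, 310, 311, 312, 313, 314]

def fusWTo : List (List Nat) := [
  [], [2, 1, 3, 0, 1, 0], [3, 2, 1, 3, 1, 3], [2, 1, 0, 3, 0], [1, 3, 2, 3, 1, 3], [1, 0, 3, 2, 0, 3], [2, 1, 0, 3],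
  [2, 1, 0, 3, 2, 3, 1], [2, 1, 3, 0, 1], [1, 3, 1, 3, 2, 3, 2], [1, 0, 2, 3, 0, 1], [1, 0, 3, 2, 3, 2],
  [3, 1, 3, 1, 2, 3], [1, 2, 3, 0, 2], [1, 2, 3, 0, 2, 0], [2, 3, 1, 3, 0, 1], [3, 1, 2, 0, 1, 3], [1, 3, 1, 2, 1, 3],
  [2, 3, 2, 1, 0], [1, 2, 1, 3, 0], [2, 1, 3, 1, 0], [1, 3, 1, 3, 2, 3], [3, 2, 3, 1, 3, 1], [2, 1, 3, 1],
  [1, 2, 1, 3], [2, 3, 2, 1], [2, 3, 1, 0, 2], [1, 2, 3, 1, 3, 0, 2], [3, 2, 1, 0, 2], [1, 0, 3, 1, 2], [1, 0, 3, 1, 2, 0],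
  [3, 2, 1, 0, 2, 0], [2, 1, 0, 3, 2, 3], [1, 2, 1, 3, 0, 1], [2, 1, 3, 2, 0], [1, 3, 1, 2], [3, 2, 3, 2, 0],
  [2, 3, 1, 0, 3], [2, 3, 1, 0, 3, 0], [3, 2, 3, 2], [1, 2, 0, 3, 1], [2, 1, 3, 2], [1, 2, 3, 1, 2, 3, 0],
  [3, 0, 2, 3], [3, 0, 1, 2], [2, 1, 3, 0, 2, 0], [2, 1, 3, 0, 2], [3, 0, 1, 2, 0], [2, 3, 0, 2, 3], [1, 2, 3, 1, 2, 3],
  [1, 2, 3, 1, 3, 2], [2, 3, 1, 2, 0], [1, 0, 3, 1, 0, 2], [3, 1, 2, 1, 0], [3, 1, 2, 1], [1, 0, 3, 1, 0, 2, 0],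
  [2, 3, 1, 2], [1, 0, 3, 2, 0, 1], [1, 3, 2, 1, 3, 0], [1, 3, 1, 2, 3, 2, 1], [1, 2, 0, 3, 1, 2, 1, 3],
  [1, 0, 2, 1], [1, 2, 0, 1], [1, 2, 3, 2, 0, 2, 3], [2, 3, 1, 2, 3, 2, 3], [1, 3, 2, 1, 3], [3, 2, 3, 1, 2, 1],
  [1, 2, 3, 2], [1, 2, 1, 3, 1, 2], [1, 2, 0, 3, 2, 3, 1], [1, 3, 2, 3, 1, 2], [1, 0, 2, 3, 1, 3], [1, 2, 3, 2, 0],
  [1, 2, 1, 3, 2, 3], [3, 2, 0, 1], [3, 2, 0, 1, 0], [3, 1], [1, 3], [1, 3, 1, 3, 2, 0], [1, 3, 1, 3, 2], [1, 2, 3, 2, 3, 1],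
  [1, 3, 2, 3, 2, 1], [3, 0, 1, 2, 1], [3, 0, 1, 2, 1, 0], [1, 2, 3, 1, 2, 0, 2, 1], [1, 3, 1, 2, 3, 2, 3],
  [2, 3, 2], [2, 3, 2, 0], [1, 0, 2, 3], [1, 0, 2, 3, 0], [2, 3, 1, 2, 3, 2], [3, 0, 1, 2, 0, 1], [1, 2, 3, 1, 2, 0, 2],
  [3, 2, 1, 0, 2, 1], [1, 0, 2, 3, 0, 2], [2, 3, 2, 0, 1], [1, 2, 1, 3, 2, 3, 1], [1, 3, 1, 3, 2, 0, 2],
  [3, 2], [3, 2, 0], [2, 1, 3, 0, 2, 3, 2], [1, 2, 0, 3, 1, 2, 1], [2, 3, 0], [2, 3], [2, 3, 1, 3, 1, 2], [3, 1, 3, 2, 1, 3],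
  [2, 3, 0, 1, 3, 0], [2, 3, 0, 1, 3], [2, 3, 1, 3, 0], [2, 3, 1, 3], [1, 3, 2, 0, 3, 2, 1], [1, 2, 3, 2, 0, 3, 1, 3],
  [1, 2, 3, 2, 0, 3], [1, 2, 3, 2, 0, 3, 0], [1, 2, 0, 3, 2, 1], [1, 2, 3, 0, 2, 1], [1, 3, 2, 0, 3, 2, 3],
  [3, 0, 1, 2, 0, 3], [3, 1, 2], [3, 1, 2, 0], [3, 0, 2, 0, 2, 1, 0], [3, 0, 2, 0, 2, 1], [3, 1, 3, 2, 1, 0],
  [3, 1, 3, 2, 1], [1, 0, 2, 3, 2, 3], [3, 2, 3, 2, 1, 3], [2, 1, 3, 2, 1, 0], [2, 1, 3, 2, 1], [2, 1, 0, 3, 2],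
  [2, 1, 0, 3, 2, 0], [1], [1, 0], [3, 0, 2, 3, 1], [3, 0, 2, 3, 1, 0], [1, 3, 2, 0, 3], [3, 2, 3, 1, 3], [1, 2, 1, 3, 1],
  [1, 2, 1, 3, 1, 0], [1, 3, 2, 3], [3, 2, 3, 1], [3, 2, 1, 3, 0], [3, 2, 1, 3], [3, 1, 2, 1, 0, 2], [2, 1, 3, 0, 2, 3, 1],
  [2, 1, 0, 3, 0, 2, 3], [2, 1, 3, 2, 0, 2], [2, 3, 2, 0, 2, 1], [1, 0, 3, 2, 1, 3], [1, 2, 0], [1, 2], [1, 2, 0, 3, 2, 3],
  [1, 2, 0, 3, 2, 3, 0], [3, 1, 3, 2, 0], [3, 1, 3, 2], [3, 2, 0, 2], [3, 0, 2, 0, 2], [1, 2, 0, 3, 0, 1],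
  [1, 3, 1, 2, 1], [1, 2, 3, 2, 1], [3, 0, 2, 1], [3, 2, 0, 1, 2, 0], [3, 2, 0, 1, 2], [1, 0, 3, 2, 1, 0],
  [1, 0, 3, 2, 1], [3, 0, 1, 2, 3, 1], [3, 0, 1, 2, 3, 1, 0], [1, 2, 3, 0], [1, 2, 3], [1, 0, 3, 1, 0], [1, 0, 3, 1],
  [2, 3, 0, 2], [2, 3, 0, 2, 0], [2, 3, 2, 0, 1, 2], [1, 0, 2, 3, 2, 0, 2], [2, 1, 0, 3, 2, 1], [3, 2, 0, 2, 3],
  [3, 2, 3, 1, 2, 3], [3, 0, 2, 3, 1, 3], [3, 1, 3, 1, 2, 0], [3, 1, 3, 1, 2], [2, 3, 1, 3, 1, 0], [2, 3, 1, 3, 1],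
  [1, 2, 0, 3, 2], [1, 2, 0, 3, 2, 0], [3, 1, 2, 0, 2], [1, 3, 2, 0, 2], [1, 3, 2, 3, 2, 0], [3, 2, 3, 2, 1],
  [1, 3, 1], [1, 3, 1, 2, 3], [1, 0, 2, 3, 1], [3, 1, 3, 2, 0, 1, 2], [1, 0, 3, 1, 0, 2, 1], [1, 2, 3, 1, 3],
  [1, 2, 3, 1, 3, 0], [1, 2, 0, 3, 2, 3, 2], [1, 2, 1, 3, 1, 0, 3, 1], [1, 0, 2, 3, 1, 0], [1, 3, 1, 2, 3, 0],
  [3, 0, 1], [3, 2, 3, 2, 1, 0], [1, 3, 2, 3, 2], [2, 3, 2, 0, 2], [2, 3, 0, 2, 0, 2], [2, 3, 1, 3, 1, 0, 2],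
  [1, 3, 2, 3, 1, 2, 1], [3, 0, 2, 0], [3, 0, 2], [2, 1, 0, 3, 1], [1, 3, 2, 0, 2, 1], [1, 0, 2, 3, 2], [1, 0, 2, 3, 2, 0],
  [1, 3, 1, 3], [3, 1, 3, 1], [3, 1, 2, 0, 1, 2], [2, 3, 1, 3, 0, 1, 3], [1, 3, 2, 1], [1, 2, 3, 1], [1, 2, 0, 3, 1, 2],
  [1, 3, 1, 2, 3, 1], [1, 2, 0, 3, 1, 3], [2, 3, 0, 1, 0], [1, 2, 1, 3, 1, 2, 3], [3, 2, 3, 1, 2], [2, 3, 1, 3, 1, 0, 3],
  [1, 0, 3, 2, 0, 1, 2], [2, 1, 0, 3, 2, 3, 2], [2, 3, 2, 1, 0, 3], [3, 2, 3, 1, 2, 0], [1, 0, 2, 3, 1, 0, 3],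
  [2, 3, 0, 1], [1, 2, 0, 3, 1, 3, 0], [1, 3, 2, 1, 3, 1], [1, 0, 3, 1, 2, 3], [3, 2, 0, 2, 1], [1, 3, 2, 0, 3, 2],
  [3, 2, 1, 3, 1, 0, 2], [3, 1, 3, 2, 0, 1], [1, 2, 0, 3, 2, 1, 3], [1, 2, 3, 2, 3, 1, 3], [3, 0, 1, 2, 3],
  [3, 2, 0, 2, 1, 0], [3, 2, 3], [3, 2, 3, 0], [3, 2, 1, 3, 1, 0], [3, 2, 1, 3, 1], [1, 2, 3, 0, 2, 0, 2],
  [1, 2, 3, 2, 0, 2], [1, 2, 3, 2, 3], [1, 2, 3, 2, 3, 0], [1, 0, 3, 2, 1, 0, 3], [1, 2, 3, 0, 2, 3, 1],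
  [1, 2, 0, 3], [1, 2, 0, 3, 0], [3, 0], [3], [1, 2, 3, 1, 2, 0], [1, 2, 3, 1, 2], [2, 1, 3, 1, 0, 3], [2, 3, 2, 0, 3],
  [1, 0, 2], [1, 2, 1], [1, 3, 1, 3, 2, 1], [1, 2, 3, 1, 3, 1], [1, 0, 3, 2], [1, 0, 3, 2, 0], [3, 2, 1], [3, 2, 1, 0],
  [2, 1, 3], [2, 1, 3, 0], [1, 3, 2, 3, 2, 0, 2], [1, 3, 1, 3, 2, 0, 3], [3, 1, 3, 2, 3], [3, 2, 1, 3, 2],
  [1, 0, 3, 2, 0, 3, 2], [3, 0, 1, 2, 3, 2], [1, 0, 2, 3, 1, 3, 2], [1, 0, 2, 3, 0, 1, 2], [2, 1], [2, 1, 0],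
  [2, 1, 3, 2, 0, 3], [1, 2, 1, 3, 1, 0, 3], [1, 0, 3, 2, 3], [1, 3, 2, 3, 1], [2, 3, 1], [2, 3, 1, 0], [3, 2, 1, 3, 0, 1],
  [3, 1, 3, 2, 1, 0, 3], [2, 1, 0, 3, 0, 2], [2, 3, 2, 0, 1, 3], [1, 3, 2], [1, 3, 2, 0], [1, 0, 3, 1, 2, 3, 1],
  [1, 0, 3, 1, 2, 3, 1, 0], [2, 1, 3, 0, 2, 3], [1, 2, 3, 0, 2, 3], [2, 3, 1, 2, 3], [3, 1, 2, 0, 1], [2, 1, 0, 3, 2, 0, 3],
  [1, 2, 1, 3, 1, 0, 3, 2], [3, 1, 3], [1, 0, 3], [2, 1, 3, 2, 0, 1, 0], [2, 1, 3, 2, 0, 1], [1, 3, 1, 2, 3, 2],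
  [1, 2, 3, 2, 0, 3, 1], [2, 3, 2, 1, 0, 2], [2], [2, 1, 3, 1, 2], [1, 2, 1, 3, 2], [3, 1, 2, 0, 3], [3, 0, 2, 1, 3],
  [3, 0, 1, 2, 1, 0, 3], [2, 3, 1, 2, 1], [2, 1, 3, 0, 1, 3]]

def fusGen : List (List Nat) := [
  [2, 3, 2, 3, 0, 1, 3, 1, 0, 3, 2, 3, 2], [0, 1, 2, 1, 3, 2, 0, 2, 3, 1, 2, 1], [2, 0, 2], [0, 3, 1, 2, 3, 2, 1, 3],
  [1, 2, 1, 0, 2, 3, 1, 3, 1, 0, 3], [1, 3, 0, 1, 3, 1, 2, 0, 1, 3, 0, 2, 3]]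

def fusGenF : List Nat := [9, 306, 307, 308]

def fusL : List (List Nat) := [
  [0, 1, 3, 1, 3, 1, 0, 2, 1, 0, 3, 2, 0, 3], [1, 3, 1, 3, 1, 0, 2, 1, 0, 3, 2, 0, 3], [0, 2, 0, 3, 2, 3, 1, 3, 1, 2],
  [2, 0, 3, 2, 3, 1, 3, 1, 2], [1, 2, 1, 0, 2, 3, 1, 3, 1, 0, 3], [0, 1, 2, 1, 0, 2, 3, 1, 3, 1, 0, 3],
  [2, 0, 3, 2, 0, 1, 2, 1, 3, 0, 2, 3, 2], [0, 2, 0, 3, 2, 0, 1, 2, 1, 3, 0, 2, 3, 2], [0, 3, 1, 3, 2, 3, 0, 1, 2, 0, 1, 3, 2, 3, 2],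
  [3, 1, 3, 2, 3, 0, 1, 2, 0, 1, 3, 2, 3, 2], [3, 0, 2, 3, 1, 2, 1, 3, 0, 2, 1, 3, 0, 2], [1, 2, 3, 1, 0, 3, 0, 2, 3, 0, 1, 3, 2, 1],
  [3, 2, 0, 2, 1, 3, 1, 0, 3, 0, 2, 1], [0, 3, 2, 0, 2, 1, 3, 1, 0, 3, 0, 2, 1], [2, 0, 1, 3, 1, 3, 2, 3, 0, 2],
  [0, 2, 0, 1, 3, 1, 3, 2, 3, 0, 2], [0], [], [2, 1, 3, 2, 0, 3, 1, 3, 2, 1, 3, 1, 2, 1], [1, 2, 1, 3, 1, 2, 3, 1, 3, 0, 2, 3, 1, 2],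
  [3, 1, 2, 3, 2, 1, 3, 2, 0, 2], [2, 0, 2, 3, 1, 2, 3, 2, 1, 3], [1, 2, 1, 3, 2, 0, 2, 3, 2, 1, 0, 2],
  [2, 0, 1, 2, 3, 2, 0, 2, 3, 1, 2, 1], [1, 0, 3, 0, 2, 0, 1, 3, 1, 2, 3, 1, 3, 1, 2, 3], [1, 2, 1, 3, 2, 3, 2, 1, 3, 0, 2, 1, 3, 2, 3, 2],
  [2, 1, 0, 2, 3, 1, 2, 3, 0, 2, 3, 2, 3, 1], [1, 3, 2, 3, 2, 0, 3, 2, 1, 3, 2, 0, 1, 2], [2, 0, 3, 0, 1, 2, 1, 0, 3, 2],
  [2, 3, 0, 1, 2, 1, 0, 3, 0, 2], [2, 1, 3, 1, 0, 3, 2, 3, 0, 1, 3, 1, 2], [2, 3, 2, 3, 0, 1, 3, 1, 0, 3, 2, 3, 2],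
  [0, 2, 1, 3, 1, 3, 2, 3, 0, 2], [2, 1, 3, 1, 3, 2, 3, 0, 2], [0, 2, 0, 1, 2, 3, 2, 0, 2, 1, 3, 2, 3, 1, 2],
  [2, 0, 1, 2, 3, 2, 0, 2, 1, 3, 2, 3, 1, 2], [0, 2, 3, 2, 3, 1, 0, 2, 1, 0, 3, 2, 3, 1, 3], [2, 3, 2, 3, 1, 0, 2, 1, 0, 3, 2, 3, 1, 3],
  [2, 3, 2, 0, 1, 3, 1, 2, 1, 0, 2, 3], [0, 2, 3, 2, 0, 1, 3, 1, 2, 1, 0, 2, 3], [2, 0, 1, 2, 0, 2, 3, 1, 3, 1, 0, 3, 2, 0, 2],
  [0, 2, 0, 1, 2, 0, 2, 3, 1, 3, 1, 0, 3, 2, 0, 2], [2, 3, 1, 2, 0, 3, 1, 2, 1, 3, 2, 0, 3], [2, 3, 1, 2, 0, 2, 1, 0, 3, 0, 2, 3, 2],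
  [2, 3, 2, 3, 1, 3, 1, 2], [0, 2, 3, 2, 3, 1, 3, 1, 2], [1, 0, 2, 3, 2, 1, 3, 2, 0, 2, 1, 3, 2], [2, 3, 0, 2, 3, 1, 2, 0, 1, 3, 1, 3, 1],
  [0, 3, 1, 3, 2, 3, 2, 0, 1, 2, 0, 3, 1, 2], [0, 3, 0, 1, 3, 2, 0, 2, 3, 2, 3, 2, 1], [2, 1, 3, 0, 2, 1, 0, 2, 3, 2, 3, 1, 3],
  [0, 1, 0, 3, 2, 0, 3, 1, 3, 2, 0, 3, 0, 1], [2, 0, 2, 1, 0, 3, 2, 3, 1, 2, 3, 2, 0, 3], [0, 2, 1, 3, 1, 0, 3, 1, 2, 0, 2, 1, 3, 2],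
  [3, 0, 1, 2, 0, 2, 3, 1, 0, 3, 2, 0, 3], [1, 0, 3, 2, 3, 1, 2, 0, 3, 2, 0, 3, 2], [1, 3, 0, 1, 3, 1, 2, 0, 1, 3, 0, 2, 3],
  [0, 3, 0, 1, 2, 0, 2, 3, 1, 0, 3, 2, 0, 3], [2, 1, 3, 1, 0, 3, 1, 2, 0, 2, 1, 3, 2], [0, 2, 0, 2, 1, 0, 3, 2, 3, 1, 2, 3, 2, 0, 3],
  [1, 0, 3, 2, 0, 3, 1, 3, 2, 0, 3, 0, 1], [0, 2, 1, 3, 0, 2, 1, 0, 2, 3, 2, 3, 1, 3], [3, 0, 1, 3, 2, 0, 2, 3, 2, 3, 2, 1],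
  [3, 1, 3, 2, 3, 2, 0, 1, 2, 0, 3, 1, 2], [1, 2, 0, 3, 1, 3, 2, 3, 2, 1, 0, 3, 1, 2], [0, 3, 0, 2, 3, 0, 1, 3, 2, 0, 2, 1, 0, 3],
  [1, 0, 3, 0, 2, 3, 1, 3, 0, 2, 3, 0, 1], [3, 0, 2, 3, 2, 1, 3, 2, 3, 0, 1], [0, 2, 3, 1, 2, 0, 2, 1, 3, 0, 1, 3, 1, 2],
  [2, 0, 1, 3, 0, 2, 1, 0, 2, 3, 2, 3, 1, 3], [1, 2, 3, 2, 3, 2, 0, 2, 3, 1, 0, 3], [0, 1, 0, 3, 2, 3, 1, 2, 3, 2, 0, 3],
  [1, 0, 3, 2, 3, 1, 2, 3, 2, 0, 3], [0, 1, 2, 3, 2, 3, 2, 0, 2, 3, 1, 0, 3], [1, 0, 2, 1, 3, 2, 3, 0, 1, 0, 2, 3, 2, 1],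
  [2, 3, 1, 2, 0, 2, 1, 3, 0, 1, 3, 1, 2], [0, 3, 0, 2, 3, 2, 1, 3, 2, 3, 0, 1], [0, 1, 0, 3, 0, 2, 3, 1, 3, 0, 2, 3, 0, 1],
  [3, 0, 2, 3, 0, 1, 3, 2, 0, 2, 1, 0, 3], [0, 1, 2, 0, 3, 1, 3, 2, 3, 2, 1, 0, 3, 1, 2], [0, 2, 3, 2, 3, 1, 3, 1, 0, 2],
  [2, 3, 2, 3, 1, 3, 1, 0, 2], [1, 0, 2, 3, 2, 1, 3, 2, 0, 2, 1, 3, 0, 2], [0, 1, 0, 2, 3, 2, 1, 3, 2, 0, 2, 1, 3, 0, 2],
  [0, 2, 0, 1, 2, 0, 2, 3, 1, 3, 1, 0, 3], [2, 0, 1, 2, 0, 2, 3, 1, 3, 1, 0, 3], [0, 2, 3, 2, 0, 1, 2, 1, 3, 0, 2, 3, 2],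
  [2, 3, 2, 0, 1, 2, 1, 3, 0, 2, 3, 2], [2, 0, 1, 2, 3, 2, 3, 1, 3, 0, 2, 0, 1, 0, 3, 1, 2], [0, 2, 0, 1, 2, 3, 2, 3, 1, 3, 0, 2, 0, 1, 0, 3, 1, 2],
  [2, 3, 2, 0, 3, 1, 2, 1, 0, 2, 3, 0, 2], [0, 2, 3, 2, 0, 3, 1, 2, 1, 0, 2, 3, 0, 2], [2, 1, 3, 1, 3, 2, 3, 2],
  [0, 2, 1, 3, 1, 3, 2, 3, 2], [0, 1, 2, 0, 3, 0, 1, 3, 1, 2, 0, 2, 3], [1, 2, 0, 3, 0, 1, 3, 1, 2, 0, 2, 3],
  [0, 1, 3, 0, 2, 3, 2, 0, 3, 1], [1, 3, 0, 2, 3, 2, 0, 3, 1], [2, 0, 1, 3, 1, 0, 3, 2, 3, 0, 1, 3, 1, 2],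
  [2, 0, 3, 2, 3, 0, 1, 3, 1, 0, 3, 2, 3, 2], [3, 2, 0, 3, 2, 0, 3, 1, 2, 1, 3, 1, 0, 3, 2], [2, 3, 0, 1, 3, 1, 2, 1, 3, 0, 2, 3, 0, 2, 3],
  [1, 3, 2, 3, 2, 0, 3, 2, 1, 3, 2, 0, 1, 0, 2], [2, 0, 1, 0, 2, 3, 1, 2, 3, 0, 2, 3, 2, 3, 1], [0, 3, 1, 2, 3, 2, 1, 3],
  [3, 1, 2, 3, 2, 1, 3], [1, 2, 1, 3, 2, 0, 2, 3, 1, 2, 1], [0, 1, 2, 1, 3, 2, 0, 2, 3, 1, 2, 1], [2, 0, 2],
  [0, 2, 0, 2], [2, 0, 1, 3, 2, 0, 3, 1, 3, 2, 1, 3, 1, 2, 1], [1, 2, 1, 3, 1, 2, 3, 1, 3, 0, 2, 3, 1, 0, 2],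
  [1, 0, 2, 3, 2, 3, 2, 1, 0, 2, 1, 3, 0, 2], [1, 3, 0, 1, 3, 2, 1, 0, 2, 1, 3, 0, 2, 3], [0, 2, 0, 1, 3, 1, 3, 2, 3, 2],
  [2, 0, 1, 3, 1, 3, 2, 3, 2], [2, 3, 1, 3, 2, 3, 2, 1, 0, 2, 3, 2, 1, 0, 3], [2, 0, 3, 2, 3, 1, 0, 2, 1, 0, 3, 2, 3, 1, 3],
  [2, 0, 3, 2, 0, 1, 3, 1, 2, 1, 0, 2, 3], [3, 0, 2, 3, 1, 2, 1, 3, 0, 2, 1, 3, 2], [3, 0, 1, 3, 1, 3, 2, 0, 2, 1, 0, 2],
  [0, 3, 0, 1, 3, 1, 3, 2, 0, 2, 1, 0, 2], [2, 0, 3, 1, 2, 0, 3, 1, 2, 1, 3, 2, 0, 3], [1, 2, 3, 1, 0, 3, 2, 0, 3, 0, 1, 3, 2, 1],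
  [1, 3, 1, 3, 1, 0, 2, 1, 3, 2, 0, 3, 2], [2, 3, 1, 2, 0, 2, 3, 1, 2, 3, 2, 0, 1], [2, 0, 3, 2, 3, 1, 3, 1, 0, 2],
  [0, 2, 0, 3, 2, 3, 1, 3, 1, 0, 2]]

def fusSig : List (List Nat) := [
[
  46, 47, 44, 45, 42, 43, 40, 41, 38, 39, 36, 37, 34, 35, 32, 33, 30, 31, 28, 29, 26, 27, 24, 25,
  22, 23, 20, 21, 18, 19, 16, 17, 14, 15, 12, 13, 10, 11, 8, 9, 6, 7, 4, 5, 2, 3, 0, 1, 49, 48, 51,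
  50, 53, 52, 55, 54, 57, 56, 59, 58, 61, 60, 63, 62, 65, 64, 67, 66, 69, 68, 71, 70, 73, 72, 75,
  74, 77, 76, 79, 78, 127, 126, 125, 124, 123, 122, 121, 120, 119, 118, 117, 116, 115, 114, 113, 112,
  111, 110, 109, 108, 107, 106, 105, 104, 103, 102, 101, 100, 99, 98, 97, 96, 95, 94, 93, 92, 91,
  90, 89, 88, 87, 86, 85, 84, 83, 82, 81, 80],
[
  115, 114, 112, 113, 118, 119, 117, 116, 123, 122, 120, 121, 126, 127, 125, 124, 106, 107, 105, 104,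
  111, 110, 108, 109, 98, 99, 97, 96, 103, 102, 100, 101, 83, 82, 80, 81, 86, 87, 85, 84, 91, 90,
  88, 89, 94, 95, 93, 92, 64, 78, 69, 75, 72, 70, 77, 67, 76, 66, 73, 71, 68, 74, 65, 79, 48, 62,
  57, 55, 60, 50, 53, 59, 52, 58, 61, 51, 56, 54, 49, 63, 34, 35, 33, 32, 39, 38, 36, 37, 42, 43,
  41, 40, 47, 46, 44, 45, 27, 26, 24, 25, 30, 31, 29, 28, 19, 18, 16, 17, 22, 23, 21, 20, 2, 3, 1,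
  0, 7, 6, 4, 5, 10, 11, 9, 8, 15, 14, 12, 13],
[
  124, 125, 127, 126, 120, 121, 123, 122, 116, 117, 119, 118, 112, 113, 115, 114, 109, 108, 110, 111,
  105, 104, 106, 107, 100, 101, 103, 102, 96, 97, 99, 98, 93, 92, 94, 95, 89, 88, 90, 91, 85, 84,
  86, 87, 81, 80, 82, 83, 74, 68, 64, 78, 67, 77, 73, 71, 72, 70, 66, 76, 65, 79, 75, 69, 50, 60,
  58, 52, 49, 63, 57, 55, 56, 54, 48, 62, 59, 53, 51, 61, 45, 44, 46, 47, 41, 40, 42, 43, 37, 36,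
  38, 39, 33, 32, 34, 35, 28, 29, 31, 30, 24, 25, 27, 26, 21, 20, 22, 23, 17, 16, 18, 19, 12, 13,
  15, 14, 8, 9, 11, 10, 4, 5, 7, 6, 0, 1, 3, 2],
[
  113, 112, 115, 114, 116, 117, 118, 119, 121, 120, 123, 122, 124, 125, 126, 127, 105, 104, 107, 106,
  108, 109, 110, 111, 96, 97, 98, 99, 101, 100, 103, 102, 80, 81, 82, 83, 85, 84, 87, 86, 88, 89,
  90, 91, 93, 92, 95, 94, 71, 73, 76, 66, 64, 78, 75, 69, 74, 68, 65, 79, 77, 67, 70, 72, 52, 58,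
  51, 61, 57, 55, 62, 48, 63, 49, 56, 54, 50, 60, 53, 59, 32, 33, 34, 35, 37, 36, 39, 38, 40, 41,
  42, 43, 45, 44, 47, 46, 24, 25, 26, 27, 29, 28, 31, 30, 17, 16, 19, 18, 20, 21, 22, 23, 1, 0, 3,
  2, 4, 5, 6, 7, 9, 8, 11, 10, 12, 13, 14, 15],
[
  59, 52, 78, 65, 17, 16, 103, 102, 25, 24, 110, 111, 57, 54, 69, 74, 5, 4, 91, 90, 36, 37, 123, 122,
  9, 8, 87, 86, 41, 40, 118, 119, 61, 50, 77, 66, 20, 21, 98, 99, 29, 28, 106, 107, 62, 49, 72, 71,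
  94, 45, 33, 83, 1, 115, 13, 126, 127, 12, 114, 0, 82, 32, 44, 95, 112, 3, 35, 80, 124, 14, 93, 47,
  46, 92, 15, 125, 81, 34, 2, 113, 67, 76, 60, 51, 109, 108, 27, 26, 100, 101, 19, 18, 73, 70, 48,
  63, 120, 121, 38, 39, 88, 89, 7, 6, 116, 117, 42, 43, 85, 84, 10, 11, 64, 79, 58, 53, 104, 105,
  30, 31, 96, 97, 23, 22, 68, 75, 55, 56],
[
  10, 11, 6, 7, 15, 14, 2, 3, 12, 13, 0, 1, 8, 9, 5, 4, 55, 56, 48, 63, 61, 50, 59, 52, 75, 68, 73,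
  70, 66, 77, 78, 65, 85, 84, 88, 89, 80, 81, 92, 93, 82, 83, 95, 94, 86, 87, 90, 91, 18, 98, 21,
  101, 23, 103, 96, 16, 17, 97, 102, 22, 100, 20, 99, 19, 111, 31, 28, 108, 25, 105, 27, 107, 106,
  26, 104, 24, 109, 29, 30, 110, 36, 37, 40, 41, 33, 32, 44, 45, 34, 35, 46, 47, 38, 39, 43, 42, 54,
  57, 49, 62, 60, 51, 58, 53, 74, 69, 72, 71, 67, 76, 79, 64, 122, 123, 119, 118, 127, 126, 115, 114,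
  125, 124, 112, 113, 121, 120, 117, 116]]

def fusTree : List (Nat × Nat × Nat) := [
  (31, 0, 17), (107, 1, 17), (108, 2, 17), (104, 3, 17), (4, 4, 17), (56, 5, 17), (101, 1, 31), (98, 2, 31), (102, 3, 31), (119, 4, 31), (65, 5, 31), (100, 0, 107), (23, 2, 107), (18, 3, 107), (43, 4, 107), (71, 5, 107), (99, 0, 108), (22, 1, 108), (20, 3, 108), (85, 4, 108), (67, 5, 108), (103, 0, 104), (19, 1, 104), (21, 2, 104), (116, 4, 104), (74, 5, 104), (42, 0, 4), (118, 1, 4), (120, 2, 4), (15, 5, 4), (57, 0, 56), (76, 1, 56), (72, 2, 56), (127, 4, 56), (106, 0, 101), (25, 2, 101), (28, 3, 101), (89, 4, 101), (51, 5, 101), (109, 0, 98), (24, 1, 98), (26, 3, 98), (38, 4, 98), (49, 5, 98), (105, 0, 102), (29, 1, 102), (27, 2, 102), (7, 4, 102), (58, 5, 102),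 (88, 0, 119), (5, 1, 119), (10, 2, 119), (114, 5, 119), (64, 0, 65), (62, 1, 65), (60, 2, 65), (3, 4, 65), (30, 1, 100), (111, 3, 23), (122, 4, 23), (52, 5, 23), (110, 2, 18), (91, 4, 18), (48, 5, 18), (87, 2, 43), (94, 5, 43), (70, 0, 71), (59, 1, 71), (55, 2, 71), (47, 4, 71), (39, 4, 99), (123, 4, 22), (36, 4, 20), (61, 5, 20), (40, 2, 85), (32, 5, 85), (66, 0, 67), (80, 4, 67), (6, 4, 103), (53, 5, 103), (90, 4, 19), (63, 5, 19), (37, 4, 21), (50, 5, 21), (8, 2, 116), (75, 0, 74), (86, 2, 42), (95, 5, 42), (11, 2, 118), (115, 5, 118), (9, 3, 120), (96, 4, 120), (125, 5, 120), (33, 0, 15), (124, 1, 15), (68, 3, 57), (12, 4, 57), (97, 5, 57), (77, 0, 76), (81, 4, 76), (73, 0, 72), (46, 4, 72), (13, 1, 127), (2, 2, 127), (16, 1, 106), (41, 4, 28),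 (35, 5, 89), (78, 2, 51), (83, 4, 51), (84, 4, 109), (92, 5, 38), (45, 4, 49), (117, 4, 105), (69, 5, 105), (34, 5, 88), (121, 2, 5), (14, 5, 5), (0, 5, 10), (93, 0, 114), (1, 1, 114), (112, 4, 64), (44, 4, 62), (82, 4, 60), (113, 1, 3), (126, 2, 3), (79, 5, 110), (54, 0, 55)]

def fusKeys : List Nat := [
  5868398970, 6274824885, 5993720775, 6149504340, 8446067910, 8477224875, 8540034615, 8508282930,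
  8352400770, 8320847535, 8383855725, 8414417340, 6118153335, 6025080600, 5930817165, 6212418030,
  7976441025, 7945086240, 8007399855, 8039152170, 7815995460, 7847549325, 7910259840, 7878309705,
  9195720345, 9226281960, 9288992475, 9258034590, 9097389630, 9066630195, 9128943810, 9160100775,
  5899568220, 6243680835, 6086905650, 6056344665, 8722124460, 8690174325, 8753182515, 8784141030,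
  8565747120, 8596507185, 8659316925, 8627962140, 5962481910, 6180777225, 5837161365, 6306099030,
  5191510590, 3381051555, 4631386095, 3941375760, 5131083825, 3440885490, 3912700680, 4722972345,
  4691022210, 3880751175, 3472639065, 5162838030, 3972336795, 4662347760, 3412212300, 5222671965,
  8160828795, 8944607385, 9444999375, 7661033415, 9379610730, 7725431070, 8879418135, 8225426475,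
  8194667040, 8911171080, 7694474445, 9411166485, 7629085800, 9475564140, 8975768130, 8129478420,
  7189325010, 6908121675, 7127111565, 6970336380, 4195311750, 4226468715, 4289278455, 4257526770,
  4101644610, 4070091375, 4133099565, 4163661180, 7282800000, 6814656765, 7064207955, 7033250070,
  3721418190, 3690658755, 3752873145, 3784228560, 3569009850, 3600960615, 3662976555, 3632018670,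
  4940796735, 4971755250, 5034763440, 5002813305, 4850900145, 4819545360, 4882355100, 4913115165,
  7001703135, 7095768750, 6845225940, 7252247205, 4470673725, 4440112740, 4502128680, 4533682545,
  4314494835, 4346247150, 4408461540, 4377305205, 6939593325, 7157888640, 6876784530, 7220698695]

def fusKF : List Nat := [16, 31, 107, 108, 104, 97, 96, 105, 109, 106, 30]

def fusCen : List (Nat × Nat) := [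
  (0, 1), (0, 1), (0, 1), (0, 1), (0, 1), (0, 1), (0, 1), (0, 1), (0, 1), (0, 1), (0, 1), (0, 1), (0, 1), (0, 1), (0, 1), (0, 1), (0, 0), (0, 0), (1, 1), (1, 1), (2, 1), (2, 1), (1, 1), (1, 1), (3, 1), (3, 1), (1, 1), (1, 1), (2, 1), (2, 1), (1, 1), (1, 1), (0, 1), (0, 1), (0, 1), (0, 1), (0, 1), (0, 1), (0, 1), (0, 1), (0, 1), (0, 1), (0, 1), (0, 1), (0, 1), (0, 1), (0, 1), (0, 1), (0, 1), (0, 1), (0, 1), (0, 1), (0, 1), (0, 1), (0, 1), (0, 1), (0, 1), (0, 1), (0, 1), (0, 1), (0, 1), (0, 1), (0, 1), (0, 1), (0, 1), (0, 1), (0, 1), (0, 1), (0, 1), (0, 1), (0, 1), (0, 1), (0, 1), (0, 1), (0, 1), (0, 1), (0, 1), (0, 1), (0, 1), (0, 1), (0, 1), (0, 1), (0, 1), (0, 1), (0, 1), (0, 1), (0, 1), (0, 1), (0, 1), (0, 1), (0, 1), (0, 1), (0, 1), (0, 1), (0,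 1), (0, 1), (0, 1), (0, 1), (0, 1), (0, 1), (0, 1), (0, 1), (0, 1), (0, 1), (0, 1), (0, 1), (0, 1), (0, 1), (0, 1), (0, 1), (0, 1), (0, 1), (0, 1), (0, 1), (0, 1), (0, 1), (0, 1), (0, 1), (0, 1), (0, 1), (0, 1), (0, 1), (0, 1), (0, 1), (0, 1), (0, 1), (0, 1), (0, 1)]

def fusChain : List (List Nat × List Nat × List Nat) := [
  ([2, 1, 3, 1, 2], [307, 309], [9, 307]),
  ([3, 0, 2, 1, 3], [307, 311], [307, 309])]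

def fusOrb : List (List (List Nat)) := [
[
  [], [1, 3, 0, 1, 3], [2, 0, 2, 3, 1, 0, 3, 1], [1, 2, 1, 0, 2, 0, 1], [3, 0, 1, 3, 1, 3, 0, 1], [3, 0, 2, 3, 2, 0, 3, 2, 3],
  [1, 0, 2, 0, 1, 2, 1], [3, 1, 0, 3, 1], [1, 3, 0, 1, 3, 2, 0, 2], [2, 0, 2]],
[
  [], [1, 3, 2, 0, 2, 3, 0, 1, 0, 3, 2], [3, 2, 0, 3, 0, 1, 2, 0, 1], [1, 0, 3, 2, 3, 1, 3, 0, 2, 1, 0, 2, 1],
  [3, 0, 2, 1, 0, 3, 1, 2, 3, 2, 1], [1, 3, 0, 2, 1, 3, 1, 3, 0, 1, 0, 2], [1, 0, 2, 1, 0, 3, 0, 2, 3],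
  [3, 1, 3, 0, 2, 3, 1, 0, 3, 2, 3]],
[
  [], [1, 3, 0, 1, 2, 0, 3, 1, 0, 2, 1], [1, 2, 0, 1, 2, 3, 0, 2, 1, 0, 3, 1, 2, 0, 2], [1, 2, 0, 1, 3, 0, 2, 1, 0, 3, 1],
  [1, 3, 1, 0, 3, 2, 0, 3, 2, 3, 2, 0, 1, 3], [2, 0, 2, 3, 1, 2, 3, 2, 1, 3]],
[
  [], [1, 0, 3, 0, 2, 0, 1, 3, 1, 2, 3, 1, 3, 1, 2, 3]]]

def fusX : List (List Nat) := [
  [1, 2, 1, 0, 2, 3, 1, 3, 1, 0, 3], [2, 0, 1, 3, 0, 2, 1, 3, 0, 1, 0, 2, 3], [1, 3, 2, 0, 1, 0, 3, 2, 3, 0, 1, 3]]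

end Cfsg.Agent.H60J2
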