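import Cfsg.Agent.Lib.Helper60.J2PermData

/-!
# Certificate data for the primitivity of the Hall–Janko group on its 315 reflections (helper60)

`orbTab` gives the orbit (1..5) of each point under the stabiliser of the point `0`, `orbReps` the
orbit representatives, `redWords` a word in the four generators (row indices of `j2Tab`) fixing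
`0` and mapping the representative to the point, `crossSteps` the steps joining the orbits.
Generated offline; re-checked by the kernel.
-/

set_option autoImplicit false

namespace Cfsg.Agent.H60J2

def orbTab : List Nat := [
  0, 1, 1, 1, 1, 1, 1, 1, 1, 2, 1, 1, 1, 1, 1, 1, 1, 1, 1, 1, 1, 1, 1, 1, 1, 1, 1, 1, 1, 1, 1, 1, 1, 1, 1, 1, 1, 1, 1, 1,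
  1, 1, 1, 1, 1, 1, 1, 1, 1, 1, 1, 1, 1, 1, 1, 1, 1, 1, 1, 1, 1, 1, 1, 1, 1, 1, 1, 1, 1, 1, 1, 1, 1, 1, 3, 3, 3, 3, 3, 3,
  3, 3, 3, 3, 3, 3, 3, 3, 3, 3, 4, 4, 4, 4, 4, 4, 4, 4, 4, 4, 4, 4, 4, 4, 4, 4, 5, 5, 5, 5, 5, 5, 5, 5, 5, 5, 5, 5, 5, 5,
  5, 5, 5, 5, 5, 5, 5, 5, 5, 5, 5, 5, 5, 5, 5, 5, 5, 5, 5, 5, 5, 5, 5, 5, 5, 5, 5, 5, 5, 5, 5, 5, 5, 5, 5, 5, 5, 5, 5, 5,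
  5, 5, 5, 5, 5, 5, 5, 5, 5, 5, 3, 3, 3, 3, 3, 3, 3, 3, 3, 3, 3, 3, 3, 3, 3, 3, 5, 5, 5, 5, 5, 5, 5, 5, 5, 5, 5, 5, 5, 5,
  5, 5, 4, 4, 4, 4, 4, 4, 4, 4, 4, 4, 4, 4, 4, 4, 4, 4, 5, 5, 5, 5, 5, 5, 5, 5, 5, 5, 5, 5, 5, 5, 5, 5, 1, 1, 1, 1, 1, 1,
  1, 1, 5, 5, 5, 5, 5, 5, 5, 5, 5, 5, 5, 5, 5, 5, 5, 5, 5, 5, 5, 5, 5, 5, 5, 5, 5, 5, 5, 5, 5, 5, 5, 5, 5, 5, 5, 5, 5, 5,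
  5, 5, 5, 5, 5, 5, 5, 5, 5, 5, 5, 5, 5, 5, 5, 5, 5, 5, 5, 5, 5, 5, 5, 5, 5, 5, 2, 2, 2, 2, 2, 2, 2, 2, 2]

def orbReps : List Nat := [0, 1, 9, 74, 90, 106]

def redWords : List (List Nat) := [
  [], [], [3, 2, 0, 3, 0, 1, 2, 0, 1], [2, 3, 0, 1, 2, 1, 0, 3, 0, 2],
  [0, 1, 0, 2, 1, 0, 3, 0, 2, 3], [1, 0, 2, 1, 0, 3, 0, 2, 3], [2, 0, 3, 0, 1, 2, 1, 0, 3, 2], [0, 3, 2, 0, 3, 0, 1, 2, 0, 1],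
  [0], [], [0, 3, 2, 0, 1, 3, 0, 2, 3, 1, 3], [3, 0, 1, 3, 1, 3, 0, 1],
  [3, 2, 1, 3, 2, 3, 0, 1, 0, 2, 3], [1, 3, 2, 0, 1, 0, 3, 2, 1], [0, 1, 3, 2, 0, 1, 0, 3, 2, 1], [0, 3, 2, 1, 3, 2, 3, 0, 1, 0, 2, 3],
  [0, 3, 0, 1, 3, 1, 3, 0, 1], [3, 2, 0, 1, 3, 0, 2, 3, 1, 3], [0, 3, 1, 0, 3, 1], [0, 1, 3, 2, 3, 0, 1, 3, 2, 3],
  [2, 1, 3, 1, 3, 2, 3, 2], [0, 2, 0, 3, 2, 3, 1, 3, 1, 2], [2, 0, 3, 2, 3, 1, 3, 1, 2], [0, 2, 1, 3, 1, 3, 2, 3, 2],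
  [1, 3, 2, 3, 0, 1, 3, 2, 3], [3, 1, 0, 3, 1], [1, 2, 0, 1, 3, 0, 2, 3, 2, 0, 2], [0, 1, 3, 0, 2, 3, 2, 1, 3],
  [0, 1, 3, 0, 1, 3, 2, 0, 2], [0, 2, 0, 2, 1, 3, 0, 1, 3], [2, 0, 2, 1, 3, 0, 1, 3], [1, 3, 0, 1, 3, 2, 0, 2],
  [1, 3, 0, 2, 3, 2, 1, 3], [2, 3, 0, 1, 3, 2, 1, 3, 2, 0, 3], [0, 1, 0, 2, 0, 1, 2, 1], [0, 1, 0, 3, 2, 0, 2, 3, 1, 3, 0, 2],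
  [0, 3, 2, 0, 3, 1, 0, 2, 1], [0, 1, 0, 3, 1, 3, 1, 0, 3], [1, 0, 3, 1, 3, 1, 0, 3], [3, 2, 0, 3, 1, 0, 2, 1],
  [1, 0, 3, 2, 0, 2, 3, 1, 3, 0, 2], [1, 0, 2, 0, 1, 2, 1], [1, 0, 3, 1, 3, 1, 0, 3, 2, 0, 2], [3, 2, 0, 3, 2, 1, 0, 2, 1],
  [0, 1, 0, 3, 2, 0, 2, 3, 1, 3, 2], [1, 2, 1, 0, 2, 0, 1], [0, 1, 2, 1, 0, 2, 0, 1], [1, 0, 3, 2, 0, 2, 3, 1, 3, 2],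
  [0, 3, 2, 0, 3, 2, 1, 0, 2, 1], [0, 1, 0, 3, 1, 3, 1, 0, 3, 2, 0, 2], [2, 0, 1, 0, 3, 1, 3, 1, 2, 1, 3], [0, 1, 2, 0, 1, 3, 0, 2, 3],
  [1, 2, 0, 3, 1, 0, 2, 1, 3, 1], [1, 3, 0, 1, 3], [0, 1, 3, 0, 1, 3], [0, 1, 2, 0, 3, 1, 0, 2, 1, 3, 1],
  [1, 2, 0, 1, 3, 0, 2, 3], [1, 2, 1, 3, 2, 1, 0, 2, 0, 3, 2], [2, 1, 3, 1, 0, 2, 3, 1, 2, 0, 3], [0, 2, 0, 2, 3, 1, 0, 3, 1],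
  [3, 1, 2, 3, 2, 0, 3, 1], [2, 3, 2, 3, 1, 3, 1, 2], [0, 2, 3, 2, 3, 1, 3, 1, 2], [0, 3, 1, 2, 3, 2, 0, 3, 1],
  [2, 0, 2, 3, 1, 0, 3, 1], [0, 2, 1, 3, 1, 0, 2, 3, 1, 2, 0, 3], [2, 0, 2, 3, 0, 1, 3, 1, 3, 0, 1], [0, 3, 0, 2, 3, 2, 0, 3, 2, 3],
  [3, 0, 1, 3, 2, 1, 0, 3, 2, 0, 3], [0, 3, 2, 3, 1, 0, 3, 2, 0, 1, 3], [3, 2, 3, 1, 0, 3, 2, 0, 1, 3], [1, 2, 0, 2, 3, 1, 3, 1, 2, 1, 3],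
  [3, 0, 2, 3, 2, 0, 3, 2, 3], [1, 0, 3, 2, 3, 1, 2, 3, 2, 0, 3], [], [0],
  [0, 2, 0, 3, 2, 3, 1, 3, 1, 2], [2, 0, 3, 2, 3, 1, 3, 1, 2], [2, 0, 2, 3, 1, 0, 3, 1], [1, 0, 3, 1, 3, 1, 0, 3],
  [2, 0, 1, 3, 1, 3, 2, 3, 0, 2], [1, 0, 3, 2, 0, 2, 3, 1, 3, 2], [1, 0, 2, 0, 1, 2, 1], [0, 1, 0, 2, 0, 1, 2, 1],
  [1, 0, 2, 0, 1, 2, 3, 0, 1, 3], [0, 1, 0, 2, 0, 1, 2, 3, 0, 1, 3], [2, 3, 2, 3, 1, 3, 1, 2], [0, 2, 3, 2, 3, 1, 3, 1, 2],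
  [1, 3, 0, 1, 3], [0, 1, 3, 0, 1, 3], [], [0],
  [0, 1, 2, 1, 0, 2, 0, 1], [1, 2, 1, 0, 2, 0, 1], [2, 0, 2, 1, 3, 0, 1, 3], [0, 2, 0, 2, 1, 3, 0, 1, 3],
  [1, 0, 3, 1, 3, 1, 0, 3], [0, 1, 0, 3, 1, 3, 1, 0, 3], [0, 3, 1, 0, 3, 1, 2, 0, 2], [3, 1, 0, 3, 1, 2, 0, 2],
  [0, 1, 3, 0, 1, 3], [1, 3, 0, 1, 3], [2, 0, 2, 3, 1, 0, 3, 1], [2, 3, 2, 3, 1, 3, 1, 2],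
  [0, 3, 0, 2, 3, 2, 0, 3, 2, 3], [3, 0, 2, 3, 2, 0, 3, 2, 3], [], [0],
  [0, 1, 0, 2, 1, 3, 1, 3, 2, 0, 3, 1, 3], [1, 0, 2, 1, 3, 1, 3, 2, 0, 3, 1, 3], [0, 1, 3, 2, 0, 2, 3, 0, 1, 0, 3, 2], [1, 3, 2, 0, 2, 3, 0, 1, 0, 3, 2],
  [0, 2, 0, 3, 2, 3, 1, 3, 1, 2], [2, 0, 3, 2, 3, 1, 3, 1, 2], [0, 2, 0, 2, 1, 3, 0, 1, 3], [2, 0, 2, 1, 3, 0, 1, 3],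
  [3, 0, 1, 2, 0, 2, 3, 2, 1, 3, 0, 1], [1, 2, 3, 0, 2, 3, 2, 1, 3, 0, 1, 2], [0, 1, 2, 0, 1, 3, 0, 2, 1, 0, 3, 1], [1, 2, 0, 1, 3, 0, 2, 1, 0, 3, 1],
  [0, 1, 0, 3, 2, 0, 2, 3, 1, 3, 2], [1, 0, 3, 2, 0, 2, 3, 1, 3, 2], [3, 1, 2, 3, 2, 1, 3, 2, 0, 2], [2, 0, 2, 3, 1, 2, 3, 2, 1, 3],
  [0, 1, 0, 3, 1, 3, 1, 0, 3], [1, 0, 3, 1, 3, 1, 0, 3], [0, 1, 2, 0, 1, 0, 3, 2, 3, 2, 0, 3], [1, 2, 0, 1, 0, 3, 2, 3, 2, 0, 3],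
  [2, 0, 1, 3, 1, 3, 2, 3, 0, 2], [0, 2, 0, 1, 3, 1, 3, 2, 3, 0, 2], [3, 1, 0, 3, 1, 2, 0, 2], [0, 3, 1, 0, 3, 1, 2, 0, 2],
  [3, 0, 1, 2, 0, 2, 3, 2, 3, 1, 0, 3], [2, 3, 1, 2, 3, 0, 1, 0, 3, 2, 1, 3], [0, 2, 0, 2, 3, 1, 0, 3, 1], [2, 0, 2, 3, 1, 0, 3, 1],
  [3, 1, 2, 0, 2, 1, 0, 3, 0, 1, 2], [0, 3, 1, 2, 0, 2, 1, 0, 3, 0, 1, 2], [1, 3, 0, 1, 2, 0, 3, 1, 0, 2, 1], [0, 1, 3, 0, 1, 2, 0, 3, 1, 0, 2, 1],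
  [3, 1, 3, 0, 1, 2, 1, 3, 2, 0, 3, 2], [2, 1, 0, 2, 3, 0, 2, 0, 1, 0, 2, 3], [0, 3, 1, 2, 3, 2, 0, 3, 1], [3, 1, 2, 3, 2, 0, 3, 1],
  [0, 1, 2, 0, 3, 1, 0, 2, 1, 3, 1], [1, 2, 0, 3, 1, 0, 2, 1, 3, 1], [0, 2, 1, 3, 1, 3, 2, 3, 0, 2], [2, 1, 3, 1, 3, 2, 3, 0, 2],
  [3, 1, 0, 3, 2, 1, 0, 2, 0, 1], [0, 3, 1, 0, 3, 2, 1, 0, 2, 0, 1], [1, 0, 2, 0, 1, 2, 3, 0, 1, 3], [0, 1, 0, 2, 0, 1, 2, 3, 0, 1, 3],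
  [3, 0, 1, 0, 2, 0, 1, 3, 0, 2, 1], [0, 3, 0, 1, 0, 2, 0, 1, 3, 0, 2, 1], [0, 3, 0, 2, 3, 2, 3, 0, 1, 0, 2, 1], [3, 0, 2, 3, 2, 3, 0, 1, 0, 2, 1],
  [0, 1, 3, 0, 2, 3, 2, 1, 3, 2, 0, 2], [1, 3, 0, 2, 3, 2, 1, 3, 2, 0, 2], [0, 3, 2, 0, 3, 2, 1, 0, 2, 1], [3, 2, 0, 3, 2, 1, 0, 2, 1],
  [1, 3, 0, 1, 3], [0, 1, 3, 0, 1, 3], [2, 3, 2, 3, 1, 3, 1, 2], [0, 2, 3, 2, 3, 1, 3, 1, 2],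
  [1, 0, 2, 0, 3, 2, 1, 3, 0, 2, 0, 3], [1, 3, 0, 2, 1, 3, 1, 3, 0, 1, 0, 2], [1, 2, 3, 0, 1, 0, 2, 3, 1], [1, 0, 2, 1, 0, 3, 0, 2, 3],
  [0, 3, 0, 2, 3, 2, 0, 3, 2, 3], [3, 0, 2, 3, 2, 0, 3, 2, 3], [3, 2, 0, 3, 1, 0, 2, 1], [0, 3, 2, 0, 3, 1, 0, 2, 1],
  [0, 1, 3, 0, 1, 3, 2, 0, 2], [1, 3, 0, 1, 3, 2, 0, 2], [1, 2, 1, 0, 2, 0, 1], [0, 1, 2, 1, 0, 2, 0, 1],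
  [0, 1, 3, 0, 2, 3, 2, 1, 3], [1, 3, 0, 2, 3, 2, 1, 3], [0, 3, 1, 2, 3, 2, 1, 3], [3, 1, 2, 3, 2, 1, 3],
  [3, 2, 3, 0, 2, 3, 2, 0, 3], [2, 0, 1, 3, 1, 3, 2, 3, 2], [0, 2, 0, 2], [2, 0, 2],
  [0, 2, 0, 3, 2, 3, 1, 3, 1, 0, 2], [2, 0, 3, 2, 3, 1, 3, 1, 0, 2], [2, 3, 0, 1, 0, 3, 2, 1, 0, 3, 2, 1], [2, 1, 0, 3, 0, 1, 2, 0, 2, 1, 3],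
  [1, 2, 0, 1, 2, 3, 0, 2, 3], [2, 0, 1, 3, 2, 3, 1, 3, 0, 2, 0, 1], [0, 1, 2, 0, 1, 3, 0, 2, 3, 2, 0, 2], [0, 2, 3, 1, 0, 2, 3, 0, 1, 2, 3],
  [1, 0, 2, 0, 1, 2, 1], [1, 0, 3, 2, 1, 0, 2, 3, 0, 2, 3, 2, 3], [2, 3, 0, 2, 3, 2, 1, 3, 1, 0, 3, 2, 3], [0, 1, 0, 2, 0, 1, 2, 1],
  [2, 3, 1, 0, 2, 3, 0, 1, 2, 3], [1, 2, 0, 1, 3, 0, 2, 3, 2, 0, 2], [1, 0, 3, 2, 0, 2, 1, 3, 1, 2, 3, 2], [0, 1, 2, 0, 1, 2, 3, 0, 2, 3],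
  [0, 2, 1, 0, 3, 0, 1, 2, 0, 2, 1, 3], [0, 2, 3, 0, 1, 0, 3, 2, 1, 0, 3, 2, 1], [1, 3, 0, 2, 3, 2, 0, 3, 1], [0, 1, 3, 0, 2, 3, 2, 0, 3, 1],
  [0, 1, 3, 0, 2, 3, 2, 1, 3], [1, 3, 0, 2, 3, 2, 1, 3], [3, 1, 0, 3, 1], [0, 3, 1, 0, 3, 1],
  [0, 1, 3, 0, 1, 3, 2, 0, 2], [1, 3, 0, 1, 3, 2, 0, 2], [0, 3, 1, 2, 3, 2, 1, 3], [3, 1, 2, 3, 2, 1, 3],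
  [3, 2, 3, 0, 2, 3, 2, 0, 3], [2, 0, 1, 3, 1, 3, 2, 3, 2], [2, 0, 2], [0, 2, 0, 2],
  [0, 1, 0, 2, 0, 1, 2, 1], [1, 0, 2, 0, 1, 2, 1], [1, 2, 0, 1, 2, 3, 0, 2, 3, 2, 0, 2], [2, 0, 3, 1, 0, 2, 3, 0, 1, 2, 3],
  [0, 2, 1, 3, 2, 3, 1, 3, 0, 2, 0, 1], [0, 1, 2, 0, 1, 3, 0, 2, 3], [0, 2, 0, 3, 1, 3, 2, 0, 2, 3, 0, 1], [1, 0, 3, 1, 2, 1, 0, 2, 0, 3, 2, 3],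
  [1, 2, 1, 0, 2, 0, 1], [0, 1, 2, 0, 2, 3, 1, 3, 1, 2, 0, 3, 1], [1, 2, 0, 2, 3, 1, 3, 1, 2, 0, 3, 1], [0, 1, 2, 1, 0, 2, 0, 1],
  [1, 3, 2, 1, 3, 0, 2, 3, 1, 2, 3, 1], [2, 0, 3, 1, 3, 2, 0, 2, 3, 0, 1], [1, 2, 0, 1, 3, 0, 2, 3], [2, 1, 3, 2, 3, 1, 3, 0, 2, 0, 1],
  [0, 2, 0, 3, 1, 0, 2, 3, 0, 1, 2, 3], [3, 2, 0, 3, 2, 1, 0, 2, 3, 0, 1, 3], [1, 3, 0, 2, 3, 2, 0, 3, 1], [0, 3, 1, 2, 3, 2, 1, 3],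
  [0, 2, 0, 2], [3, 2, 0, 3, 1, 2, 0, 1, 2], [0, 3, 2, 0, 3, 1, 2, 0, 1, 2], [2, 0, 2],
  [3, 1, 2, 3, 2, 1, 3], [0, 1, 3, 0, 2, 3, 2, 0, 3, 1], [1, 3, 0, 2, 3, 2, 0, 3, 1], [0, 1, 3, 0, 2, 3, 2, 0, 3, 1],
  [1, 3, 0, 2, 1, 3, 1, 3, 0, 1, 2], [0, 1, 3, 0, 2, 1, 3, 1, 3, 0, 1, 2], [0, 1, 0, 3, 1, 2, 1, 3, 2, 0, 3, 2], [1, 0, 3, 1, 2, 1, 3, 2, 0, 3, 2],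
  [2, 3, 0, 2, 3, 0, 2, 0, 3, 2, 3], [2, 3, 0, 2, 0, 1, 2, 3, 1, 2, 1], [3, 2, 0, 3, 1, 0, 2, 1], [0, 3, 2, 0, 3, 1, 0, 2, 1],
  [1, 3, 0, 1, 3, 2, 0, 2], [0, 1, 3, 0, 1, 3, 2, 0, 2], [0, 2, 3, 0, 2, 3, 1, 2, 1, 3, 0, 1], [2, 3, 0, 2, 3, 1, 2, 1, 3, 0, 1],
  [0, 1, 3, 0, 2, 3, 2, 1, 3], [1, 3, 0, 2, 3, 2, 1, 3], [0, 2, 1, 3, 1, 3, 2, 3, 2], [2, 1, 3, 1, 3, 2, 3, 2],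
  [3, 1, 0, 3, 0, 2, 0, 1, 2, 1], [0, 3, 1, 0, 3, 0, 2, 0, 1, 2, 1], [0, 2, 1, 0, 2, 1, 3, 0, 2, 3], [2, 1, 0, 2, 1, 3, 0, 2, 3],
  [1, 2, 3, 2, 1, 3, 2, 3, 2, 0, 2, 3], [1, 2, 0, 3, 0, 1, 3, 1, 2, 0, 2, 3], [0, 3, 1, 2, 3, 2, 0, 3, 1, 2, 0, 2], [3, 1, 2, 3, 2, 0, 3, 1, 2, 0, 2],
  [3, 0, 1, 3, 2, 1, 0, 2, 0, 3, 2, 3], [3, 1, 2, 0, 1, 0, 3, 2, 1, 3, 0, 2], [1, 2, 3, 0, 1, 0, 2, 0, 1, 3], [0, 1, 2, 3, 0, 1, 0, 2, 0, 1, 3],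
  [0, 2, 3, 1, 3, 0, 2, 3, 1, 0, 2, 3], [2, 3, 1, 3, 0, 2, 3, 1, 0, 2, 3], [2, 0, 1, 0, 3, 1, 3, 1, 2, 1, 3], [2, 3, 2, 3, 0, 2, 3, 1, 2, 0, 3],
  [0, 3, 1, 0, 2, 3, 0, 1, 3, 2, 3], [3, 1, 0, 2, 3, 0, 1, 3, 2, 3], [0, 3, 1, 0, 3, 1], [3, 1, 0, 3, 1],
  [1, 3, 2, 0, 3, 2, 0, 3, 2, 1, 0, 3], [0, 1, 3, 2, 0, 3, 2, 0, 3, 2, 1, 0, 3], [0, 3, 1, 2, 3, 2, 1, 3], [3, 1, 2, 3, 2, 1, 3],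
  [0, 1, 0, 3, 1, 3, 1, 0, 3, 2, 0, 2], [1, 0, 3, 1, 3, 1, 0, 3, 2, 0, 2], [3, 0, 2, 1, 3, 2, 0, 3, 2, 3, 2], [0, 3, 0, 2, 1, 3, 2, 0, 3, 2, 3, 2],
  [2, 0, 1, 3, 1, 3, 2, 3, 2], [3, 2, 3, 0, 2, 3, 2, 0, 3], [0, 3, 2, 1, 0, 3, 2, 0, 1, 3, 2], [3, 2, 1, 0, 3, 2, 0, 1, 3, 2],
  [1, 0, 3, 2, 0, 2, 3, 1, 3, 0, 2], [0, 1, 0, 3, 2, 0, 2, 3, 1, 3, 0, 2], [0, 2, 0, 2, 1, 3, 0, 1, 3, 2, 0, 2], [2, 0, 2, 1, 3, 0, 1, 3, 2, 0, 2],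
  [1, 3, 0, 1, 0, 2, 3, 2, 0, 3, 2, 3], [0, 1, 3, 0, 1, 0, 2, 3, 2, 0, 3, 2, 3], [0, 2, 0, 2], [2, 0, 2],
  [3, 1, 3, 2, 3, 0, 2, 3, 1, 2, 3], [1, 2, 1, 3, 0, 2, 3, 0, 2, 1, 3], [3, 0, 2, 0, 1, 0, 2, 3, 2, 1], [0, 3, 0, 2, 0, 1, 0, 2, 3, 2, 1],
  [0, 2, 0, 3, 2, 3, 1, 3, 1, 0, 2], [2, 0, 3, 2, 3, 1, 3, 1, 0, 2], [1, 3, 0, 1, 3], [2, 0, 2, 3, 1, 0, 3, 1],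
  [1, 2, 1, 0, 2, 0, 1], [3, 0, 1, 3, 1, 3, 0, 1], [3, 0, 2, 3, 2, 0, 3, 2, 3], [1, 0, 2, 0, 1, 2, 1],
  [3, 1, 0, 3, 1], [1, 3, 0, 1, 3, 2, 0, 2], [2, 0, 2]]

def crossSteps : List (List (Nat × Nat × List Nat)) := [
  [],
  [(1, 0, [1]), (0, 3, [1]), (0, 6, [1]), (0, 8, [3])],
  [(0, 9, [2]), (0, 1, [2]), (0, 3, [1]), (0, 6, [1])],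
  [(82, 0, [3]), (0, 74, [1]), (0, 79, [3]), (0, 8, [3])],
  [(102, 0, [3]), (0, 90, [1]), (0, 79, [3]), (0, 8, [3])],
  [(0, 106, [1]), (0, 74, [1]), (0, 79, [3]), (0, 8, [3])]]

end Cfsg.Agent.H60J2
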