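import Cfsg.Agent.Lib.Helper60.J2Enum

/-!
# Representatives of the 315 lines of minimal vectors (helper60)

Generated offline; every property used is re-checked by the kernel.
-/

set_option autoImplicit false

namespace Cfsg.Agent.H60J2

/-- One minimal vector on each of the 315 lines, with its norm profile. -/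
def repsP : List (T3 × ((Int × Int) × (Int × Int) × (Int × Int))) := [
  (⟨⟨0, 0, 0, 0, 0, 0, 0, 0⟩, ⟨0, 0, 0, 0, 0, 0, 0, 0⟩, ⟨4, 0, 0, 0, 0, 0, 0, 0⟩⟩, ((0, 0), (0, 0), (16, 0))),
  (⟨⟨0, 0, 0, 0, 0, 0, 0, 0⟩, ⟨1, -2, 1, 0, 1, 0, 1, 0⟩, ⟨-1, 0, -1, 0, 1, -2, 1, 0⟩⟩, ((0, 0), (8, 0), (8, 0))),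
  (⟨⟨0, 0, 0, 0, 0, 0, 0, 0⟩, ⟨1, -2, 1, 0, 1, 0, 1, 0⟩, ⟨-1, 0, 1, -2, 1, 0, -1, 0⟩⟩, ((0, 0), (8, 0), (8, 0))),
  (⟨⟨0, 0, 0, 0, 0, 0, 0, 0⟩, ⟨1, -2, 1, 0, 1, 0, 1, 0⟩, ⟨-1, 0, 1, 0, -1, 0, 1, -2⟩⟩, ((0, 0), (8, 0), (8, 0))),
  (⟨⟨0, 0, 0, 0, 0, 0, 0, 0⟩, ⟨1, -2, 1, 0, 1, 0, 1, 0⟩, ⟨-1, 2, -1, 0, -1, 0, -1, 0⟩⟩, ((0, 0), (8, 0), (8, 0))),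
  (⟨⟨0, 0, 0, 0, 0, 0, 0, 0⟩, ⟨1, -2, 1, 0, 1, 0, 1, 0⟩, ⟨1, -2, 1, 0, 1, 0, 1, 0⟩⟩, ((0, 0), (8, 0), (8, 0))),
  (⟨⟨0, 0, 0, 0, 0, 0, 0, 0⟩, ⟨1, -2, 1, 0, 1, 0, 1, 0⟩, ⟨1, 0, -1, 0, 1, 0, -1, 2⟩⟩, ((0, 0), (8, 0), (8, 0))),
  (⟨⟨0, 0, 0, 0, 0, 0, 0, 0⟩, ⟨1, -2, 1, 0, 1, 0, 1, 0⟩, ⟨1, 0, -1, 2, -1, 0, 1, 0⟩⟩, ((0, 0), (8, 0), (8, 0))),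
  (⟨⟨0, 0, 0, 0, 0, 0, 0, 0⟩, ⟨1, -2, 1, 0, 1, 0, 1, 0⟩, ⟨1, 0, 1, 0, -1, 2, -1, 0⟩⟩, ((0, 0), (8, 0), (8, 0))),
  (⟨⟨0, 0, 0, 0, 0, 0, 0, 0⟩, ⟨4, 0, 0, 0, 0, 0, 0, 0⟩, ⟨0, 0, 0, 0, 0, 0, 0, 0⟩⟩, ((0, 0), (16, 0), (0, 0))),
  (⟨⟨2, 0, 0, 0, 0, 0, 0, 0⟩, ⟨-2, 0, 0, 0, 0, 0, 0, 0⟩, ⟨-1, 0, -1, 0, 1, 0, -1, 2⟩⟩, ((4, 0), (4, 0), (8, 0))),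
  (⟨⟨2, 0, 0, 0, 0, 0, 0, 0⟩, ⟨-2, 0, 0, 0, 0, 0, 0, 0⟩, ⟨-1, 0, -1, 2, -1, 0, 1, 0⟩⟩, ((4, 0), (4, 0), (8, 0))),
  (⟨⟨2, 0, 0, 0, 0, 0, 0, 0⟩, ⟨-2, 0, 0, 0, 0, 0, 0, 0⟩, ⟨-1, 0, 1, 0, -1, 2, -1, 0⟩⟩, ((4, 0), (4, 0), (8, 0))),
  (⟨⟨2, 0, 0, 0, 0, 0, 0, 0⟩, ⟨-2, 0, 0, 0, 0, 0, 0, 0⟩, ⟨-1, 2, 1, 0, 1, 0, 1, 0⟩⟩, ((4, 0), (4, 0), (8, 0))),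
  (⟨⟨2, 0, 0, 0, 0, 0, 0, 0⟩, ⟨-2, 0, 0, 0, 0, 0, 0, 0⟩, ⟨1, -2, -1, 0, -1, 0, -1, 0⟩⟩, ((4, 0), (4, 0), (8, 0))),
  (⟨⟨2, 0, 0, 0, 0, 0, 0, 0⟩, ⟨-2, 0, 0, 0, 0, 0, 0, 0⟩, ⟨1, 0, -1, 0, 1, -2, 1, 0⟩⟩, ((4, 0), (4, 0), (8, 0))),
  (⟨⟨2, 0, 0, 0, 0, 0, 0, 0⟩, ⟨-2, 0, 0, 0, 0, 0, 0, 0⟩, ⟨1, 0, 1, -2, 1, 0, -1, 0⟩⟩, ((4, 0), (4, 0), (8, 0))),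
  (⟨⟨2, 0, 0, 0, 0, 0, 0, 0⟩, ⟨-2, 0, 0, 0, 0, 0, 0, 0⟩, ⟨1, 0, 1, 0, -1, 0, 1, -2⟩⟩, ((4, 0), (4, 0), (8, 0))),
  (⟨⟨2, 0, 0, 0, 0, 0, 0, 0⟩, ⟨0, 0, -2, 0, 0, 0, 0, 0⟩, ⟨-1, 0, -1, 0, -1, 0, 1, -2⟩⟩, ((4, 0), (4, 0), (8, 0))),
  (⟨⟨2, 0, 0, 0, 0, 0, 0, 0⟩, ⟨0, 0, -2, 0, 0, 0, 0, 0⟩, ⟨-1, 0, -1, 2, 1, 0, -1, 0⟩⟩, ((4, 0), (4, 0), (8, 0))),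
  (⟨⟨2, 0, 0, 0, 0, 0, 0, 0⟩, ⟨0, 0, -2, 0, 0, 0, 0, 0⟩, ⟨-1, 0, 1, 0, 1, -2, 1, 0⟩⟩, ((4, 0), (4, 0), (8, 0))),
  (⟨⟨2, 0, 0, 0, 0, 0, 0, 0⟩, ⟨0, 0, -2, 0, 0, 0, 0, 0⟩, ⟨-1, 2, 1, 0, -1, 0, -1, 0⟩⟩, ((4, 0), (4, 0), (8, 0))),
  (⟨⟨2, 0, 0, 0, 0, 0, 0, 0⟩, ⟨0, 0, -2, 0, 0, 0, 0, 0⟩, ⟨1, -2, -1, 0, 1, 0, 1, 0⟩⟩, ((4, 0), (4, 0), (8, 0))),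
  (⟨⟨2, 0, 0, 0, 0, 0, 0, 0⟩, ⟨0, 0, -2, 0, 0, 0, 0, 0⟩, ⟨1, 0, -1, 0, -1, 2, -1, 0⟩⟩, ((4, 0), (4, 0), (8, 0))),
  (⟨⟨2, 0, 0, 0, 0, 0, 0, 0⟩, ⟨0, 0, -2, 0, 0, 0, 0, 0⟩, ⟨1, 0, 1, -2, -1, 0, 1, 0⟩⟩, ((4, 0), (4, 0), (8, 0))),
  (⟨⟨2, 0, 0, 0, 0, 0, 0, 0⟩, ⟨0, 0, -2, 0, 0, 0, 0, 0⟩, ⟨1, 0, 1, 0, 1, 0, -1, 2⟩⟩, ((4, 0), (4, 0), (8, 0))),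
  (⟨⟨2, 0, 0, 0, 0, 0, 0, 0⟩, ⟨0, 0, 0, 0, -2, 0, 0, 0⟩, ⟨-1, 0, -1, 0, -1, 2, 1, 0⟩⟩, ((4, 0), (4, 0), (8, 0))),
  (⟨⟨2, 0, 0, 0, 0, 0, 0, 0⟩, ⟨0, 0, 0, 0, -2, 0, 0, 0⟩, ⟨-1, 0, 1, -2, -1, 0, -1, 0⟩⟩, ((4, 0), (4, 0), (8, 0))),
  (⟨⟨2, 0, 0, 0, 0, 0, 0, 0⟩, ⟨0, 0, 0, 0, -2, 0, 0, 0⟩, ⟨-1, 0, 1, 0, 1, 0, 1, -2⟩⟩, ((4, 0), (4, 0), (8, 0))),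
  (⟨⟨2, 0, 0, 0, 0, 0, 0, 0⟩, ⟨0, 0, 0, 0, -2, 0, 0, 0⟩, ⟨-1, 2, -1, 0, 1, 0, -1, 0⟩⟩, ((4, 0), (4, 0), (8, 0))),
  (⟨⟨2, 0, 0, 0, 0, 0, 0, 0⟩, ⟨0, 0, 0, 0, -2, 0, 0, 0⟩, ⟨1, -2, 1, 0, -1, 0, 1, 0⟩⟩, ((4, 0), (4, 0), (8, 0))),
  (⟨⟨2, 0, 0, 0, 0, 0, 0, 0⟩, ⟨0, 0, 0, 0, -2, 0, 0, 0⟩, ⟨1, 0, -1, 0, -1, 0, -1, 2⟩⟩, ((4, 0), (4, 0), (8, 0))),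
  (⟨⟨2, 0, 0, 0, 0, 0, 0, 0⟩, ⟨0, 0, 0, 0, -2, 0, 0, 0⟩, ⟨1, 0, -1, 2, 1, 0, 1, 0⟩⟩, ((4, 0), (4, 0), (8, 0))),
  (⟨⟨2, 0, 0, 0, 0, 0, 0, 0⟩, ⟨0, 0, 0, 0, -2, 0, 0, 0⟩, ⟨1, 0, 1, 0, 1, -2, -1, 0⟩⟩, ((4, 0), (4, 0), (8, 0))),
  (⟨⟨2, 0, 0, 0, 0, 0, 0, 0⟩, ⟨0, 0, 0, 0, 0, 0, -2, 0⟩, ⟨-1, 0, -1, 0, 1, -2, -1, 0⟩⟩, ((4, 0), (4, 0), (8, 0))),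
  (⟨⟨2, 0, 0, 0, 0, 0, 0, 0⟩, ⟨0, 0, 0, 0, 0, 0, -2, 0⟩, ⟨-1, 0, 1, -2, 1, 0, 1, 0⟩⟩, ((4, 0), (4, 0), (8, 0))),
  (⟨⟨2, 0, 0, 0, 0, 0, 0, 0⟩, ⟨0, 0, 0, 0, 0, 0, -2, 0⟩, ⟨-1, 0, 1, 0, -1, 0, -1, 2⟩⟩, ((4, 0), (4, 0), (8, 0))),
  (⟨⟨2, 0, 0, 0, 0, 0, 0, 0⟩, ⟨0, 0, 0, 0, 0, 0, -2, 0⟩, ⟨-1, 2, -1, 0, -1, 0, 1, 0⟩⟩, ((4, 0), (4, 0), (8, 0))),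
  (⟨⟨2, 0, 0, 0, 0, 0, 0, 0⟩, ⟨0, 0, 0, 0, 0, 0, -2, 0⟩, ⟨1, -2, 1, 0, 1, 0, -1, 0⟩⟩, ((4, 0), (4, 0), (8, 0))),
  (⟨⟨2, 0, 0, 0, 0, 0, 0, 0⟩, ⟨0, 0, 0, 0, 0, 0, -2, 0⟩, ⟨1, 0, -1, 0, 1, 0, 1, -2⟩⟩, ((4, 0), (4, 0), (8, 0))),
  (⟨⟨2, 0, 0, 0, 0, 0, 0, 0⟩, ⟨0, 0, 0, 0, 0, 0, -2, 0⟩, ⟨1, 0, -1, 2, -1, 0, -1, 0⟩⟩, ((4, 0), (4, 0), (8, 0))),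
  (⟨⟨2, 0, 0, 0, 0, 0, 0, 0⟩, ⟨0, 0, 0, 0, 0, 0, -2, 0⟩, ⟨1, 0, 1, 0, -1, 2, 1, 0⟩⟩, ((4, 0), (4, 0), (8, 0))),
  (⟨⟨2, 0, 0, 0, 0, 0, 0, 0⟩, ⟨0, 0, 0, 0, 0, 0, 2, 0⟩, ⟨-1, 0, -1, 0, 1, -2, -1, 0⟩⟩, ((4, 0), (4, 0), (8, 0))),
  (⟨⟨2, 0, 0, 0, 0, 0, 0, 0⟩, ⟨0, 0, 0, 0, 0, 0, 2, 0⟩, ⟨-1, 0, 1, -2, 1, 0, 1, 0⟩⟩, ((4, 0), (4, 0), (8, 0))),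
  (⟨⟨2, 0, 0, 0, 0, 0, 0, 0⟩, ⟨0, 0, 0, 0, 0, 0, 2, 0⟩, ⟨-1, 0, 1, 0, -1, 0, -1, 2⟩⟩, ((4, 0), (4, 0), (8, 0))),
  (⟨⟨2, 0, 0, 0, 0, 0, 0, 0⟩, ⟨0, 0, 0, 0, 0, 0, 2, 0⟩, ⟨-1, 2, -1, 0, -1, 0, 1, 0⟩⟩, ((4, 0), (4, 0), (8, 0))),
  (⟨⟨2, 0, 0, 0, 0, 0, 0, 0⟩, ⟨0, 0, 0, 0, 0, 0, 2, 0⟩, ⟨1, -2, 1, 0, 1, 0, -1, 0⟩⟩, ((4, 0), (4, 0), (8, 0))),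
  (⟨⟨2, 0, 0, 0, 0, 0, 0, 0⟩, ⟨0, 0, 0, 0, 0, 0, 2, 0⟩, ⟨1, 0, -1, 0, 1, 0, 1, -2⟩⟩, ((4, 0), (4, 0), (8, 0))),
  (⟨⟨2, 0, 0, 0, 0, 0, 0, 0⟩, ⟨0, 0, 0, 0, 0, 0, 2, 0⟩, ⟨1, 0, -1, 2, -1, 0, -1, 0⟩⟩, ((4, 0), (4, 0), (8, 0))),
  (⟨⟨2, 0, 0, 0, 0, 0, 0, 0⟩, ⟨0, 0, 0, 0, 0, 0, 2, 0⟩, ⟨1, 0, 1, 0, -1, 2, 1, 0⟩⟩, ((4, 0), (4, 0), (8, 0))),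
  (⟨⟨2, 0, 0, 0, 0, 0, 0, 0⟩, ⟨0, 0, 0, 0, 2, 0, 0, 0⟩, ⟨-1, 0, -1, 0, -1, 2, 1, 0⟩⟩, ((4, 0), (4, 0), (8, 0))),
  (⟨⟨2, 0, 0, 0, 0, 0, 0, 0⟩, ⟨0, 0, 0, 0, 2, 0, 0, 0⟩, ⟨-1, 0, 1, -2, -1, 0, -1, 0⟩⟩, ((4, 0), (4, 0), (8, 0))),
  (⟨⟨2, 0, 0, 0, 0, 0, 0, 0⟩, ⟨0, 0, 0, 0, 2, 0, 0, 0⟩, ⟨-1, 0, 1, 0, 1, 0, 1, -2⟩⟩, ((4, 0), (4, 0), (8, 0))),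
  (⟨⟨2, 0, 0, 0, 0, 0, 0, 0⟩, ⟨0, 0, 0, 0, 2, 0, 0, 0⟩, ⟨-1, 2, -1, 0, 1, 0, -1, 0⟩⟩, ((4, 0), (4, 0), (8, 0))),
  (⟨⟨2, 0, 0, 0, 0, 0, 0, 0⟩, ⟨0, 0, 0, 0, 2, 0, 0, 0⟩, ⟨1, -2, 1, 0, -1, 0, 1, 0⟩⟩, ((4, 0), (4, 0), (8, 0))),
  (⟨⟨2, 0, 0, 0, 0, 0, 0, 0⟩, ⟨0, 0, 0, 0, 2, 0, 0, 0⟩, ⟨1, 0, -1, 0, -1, 0, -1, 2⟩⟩, ((4, 0), (4, 0), (8, 0))),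
  (⟨⟨2, 0, 0, 0, 0, 0, 0, 0⟩, ⟨0, 0, 0, 0, 2, 0, 0, 0⟩, ⟨1, 0, -1, 2, 1, 0, 1, 0⟩⟩, ((4, 0), (4, 0), (8, 0))),
  (⟨⟨2, 0, 0, 0, 0, 0, 0, 0⟩, ⟨0, 0, 0, 0, 2, 0, 0, 0⟩, ⟨1, 0, 1, 0, 1, -2, -1, 0⟩⟩, ((4, 0), (4, 0), (8, 0))),
  (⟨⟨2, 0, 0, 0, 0, 0, 0, 0⟩, ⟨0, 0, 2, 0, 0, 0, 0, 0⟩, ⟨-1, 0, -1, 0, -1, 0, 1, -2⟩⟩, ((4, 0), (4, 0), (8, 0))),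
  (⟨⟨2, 0, 0, 0, 0, 0, 0, 0⟩, ⟨0, 0, 2, 0, 0, 0, 0, 0⟩, ⟨-1, 0, -1, 2, 1, 0, -1, 0⟩⟩, ((4, 0), (4, 0), (8, 0))),
  (⟨⟨2, 0, 0, 0, 0, 0, 0, 0⟩, ⟨0, 0, 2, 0, 0, 0, 0, 0⟩, ⟨-1, 0, 1, 0, 1, -2, 1, 0⟩⟩, ((4, 0), (4, 0), (8, 0))),
  (⟨⟨2, 0, 0, 0, 0, 0, 0, 0⟩, ⟨0, 0, 2, 0, 0, 0, 0, 0⟩, ⟨-1, 2, 1, 0, -1, 0, -1, 0⟩⟩, ((4, 0), (4, 0), (8, 0))),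
  (⟨⟨2, 0, 0, 0, 0, 0, 0, 0⟩, ⟨0, 0, 2, 0, 0, 0, 0, 0⟩, ⟨1, -2, -1, 0, 1, 0, 1, 0⟩⟩, ((4, 0), (4, 0), (8, 0))),
  (⟨⟨2, 0, 0, 0, 0, 0, 0, 0⟩, ⟨0, 0, 2, 0, 0, 0, 0, 0⟩, ⟨1, 0, -1, 0, -1, 2, -1, 0⟩⟩, ((4, 0), (4, 0), (8, 0))),
  (⟨⟨2, 0, 0, 0, 0, 0, 0, 0⟩, ⟨0, 0, 2, 0, 0, 0, 0, 0⟩, ⟨1, 0, 1, -2, -1, 0, 1, 0⟩⟩, ((4, 0), (4, 0), (8, 0))),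
  (⟨⟨2, 0, 0, 0, 0, 0, 0, 0⟩, ⟨0, 0, 2, 0, 0, 0, 0, 0⟩, ⟨1, 0, 1, 0, 1, 0, -1, 2⟩⟩, ((4, 0), (4, 0), (8, 0))),
  (⟨⟨2, 0, 0, 0, 0, 0, 0, 0⟩, ⟨2, 0, 0, 0, 0, 0, 0, 0⟩, ⟨-1, 0, -1, 0, 1, 0, -1, 2⟩⟩, ((4, 0), (4, 0), (8, 0))),
  (⟨⟨2, 0, 0, 0, 0, 0, 0, 0⟩, ⟨2, 0, 0, 0, 0, 0, 0, 0⟩, ⟨-1, 0, -1, 2, -1, 0, 1, 0⟩⟩, ((4, 0), (4, 0), (8, 0))),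
  (⟨⟨2, 0, 0, 0, 0, 0, 0, 0⟩, ⟨2, 0, 0, 0, 0, 0, 0, 0⟩, ⟨-1, 0, 1, 0, -1, 2, -1, 0⟩⟩, ((4, 0), (4, 0), (8, 0))),
  (⟨⟨2, 0, 0, 0, 0, 0, 0, 0⟩, ⟨2, 0, 0, 0, 0, 0, 0, 0⟩, ⟨-1, 2, 1, 0, 1, 0, 1, 0⟩⟩, ((4, 0), (4, 0), (8, 0))),
  (⟨⟨2, 0, 0, 0, 0, 0, 0, 0⟩, ⟨2, 0, 0, 0, 0, 0, 0, 0⟩, ⟨1, -2, -1, 0, -1, 0, -1, 0⟩⟩, ((4, 0), (4, 0), (8, 0))),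
  (⟨⟨2, 0, 0, 0, 0, 0, 0, 0⟩, ⟨2, 0, 0, 0, 0, 0, 0, 0⟩, ⟨1, 0, -1, 0, 1, -2, 1, 0⟩⟩, ((4, 0), (4, 0), (8, 0))),
  (⟨⟨2, 0, 0, 0, 0, 0, 0, 0⟩, ⟨2, 0, 0, 0, 0, 0, 0, 0⟩, ⟨1, 0, 1, -2, 1, 0, -1, 0⟩⟩, ((4, 0), (4, 0), (8, 0))),
  (⟨⟨2, 0, 0, 0, 0, 0, 0, 0⟩, ⟨2, 0, 0, 0, 0, 0, 0, 0⟩, ⟨1, 0, 1, 0, -1, 0, 1, -2⟩⟩, ((4, 0), (4, 0), (8, 0))),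
  (⟨⟨2, 0, 0, 0, 0, 0, 0, 0⟩, ⟨0, -1, 0, -1, 0, -1, 0, 1⟩, ⟨-1, 1, -1, 1, 1, -1, 1, -1⟩⟩, ((4, 0), (4, 4), (8, -4))),
  (⟨⟨2, 0, 0, 0, 0, 0, 0, 0⟩, ⟨0, -1, 0, -1, 0, -1, 0, 1⟩, ⟨1, -1, 1, -1, -1, 1, -1, 1⟩⟩, ((4, 0), (4, 4), (8, -4))),
  (⟨⟨2, 0, 0, 0, 0, 0, 0, 0⟩, ⟨0, -1, 0, -1, 0, 1, 0, -1⟩, ⟨-1, 1, 1, -1, 1, -1, -1, 1⟩⟩, ((4, 0), (4, 4), (8, -4))),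
  (⟨⟨2, 0, 0, 0, 0, 0, 0, 0⟩, ⟨0, -1, 0, -1, 0, 1, 0, -1⟩, ⟨1, -1, -1, 1, -1, 1, 1, -1⟩⟩, ((4, 0), (4, 4), (8, -4))),
  (⟨⟨2, 0, 0, 0, 0, 0, 0, 0⟩, ⟨0, -1, 0, 1, 0, -1, 0, -1⟩, ⟨-1, 1, 1, -1, -1, 1, 1, -1⟩⟩, ((4, 0), (4, 4), (8, -4))),
  (⟨⟨2, 0, 0, 0, 0, 0, 0, 0⟩, ⟨0, -1, 0, 1, 0, -1, 0, -1⟩, ⟨1, -1, -1, 1, 1, -1, -1, 1⟩⟩, ((4, 0), (4, 4), (8, -4))),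
  (⟨⟨2, 0, 0, 0, 0, 0, 0, 0⟩, ⟨0, -1, 0, 1, 0, 1, 0, 1⟩, ⟨-1, 1, -1, 1, -1, 1, -1, 1⟩⟩, ((4, 0), (4, 4), (8, -4))),
  (⟨⟨2, 0, 0, 0, 0, 0, 0, 0⟩, ⟨0, -1, 0, 1, 0, 1, 0, 1⟩, ⟨1, -1, 1, -1, 1, -1, 1, -1⟩⟩, ((4, 0), (4, 4), (8, -4))),
  (⟨⟨2, 0, 0, 0, 0, 0, 0, 0⟩, ⟨0, 1, 0, -1, 0, -1, 0, -1⟩, ⟨-1, 1, -1, 1, -1, 1, -1, 1⟩⟩, ((4, 0), (4, 4), (8, -4))),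
  (⟨⟨2, 0, 0, 0, 0, 0, 0, 0⟩, ⟨0, 1, 0, -1, 0, -1, 0, -1⟩, ⟨1, -1, 1, -1, 1, -1, 1, -1⟩⟩, ((4, 0), (4, 4), (8, -4))),
  (⟨⟨2, 0, 0, 0, 0, 0, 0, 0⟩, ⟨0, 1, 0, -1, 0, 1, 0, 1⟩, ⟨-1, 1, 1, -1, -1, 1, 1, -1⟩⟩, ((4, 0), (4, 4), (8, -4))),
  (⟨⟨2, 0, 0, 0, 0, 0, 0, 0⟩, ⟨0, 1, 0, -1, 0, 1, 0, 1⟩, ⟨1, -1, -1, 1, 1, -1, -1, 1⟩⟩, ((4, 0), (4, 4), (8, -4))),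
  (⟨⟨2, 0, 0, 0, 0, 0, 0, 0⟩, ⟨0, 1, 0, 1, 0, -1, 0, 1⟩, ⟨-1, 1, 1, -1, 1, -1, -1, 1⟩⟩, ((4, 0), (4, 4), (8, -4))),
  (⟨⟨2, 0, 0, 0, 0, 0, 0, 0⟩, ⟨0, 1, 0, 1, 0, -1, 0, 1⟩, ⟨1, -1, -1, 1, -1, 1, 1, -1⟩⟩, ((4, 0), (4, 4), (8, -4))),
  (⟨⟨2, 0, 0, 0, 0, 0, 0, 0⟩, ⟨0, 1, 0, 1, 0, 1, 0, -1⟩, ⟨-1, 1, -1, 1, 1, -1, 1, -1⟩⟩, ((4, 0), (4, 4), (8, -4))),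
  (⟨⟨2, 0, 0, 0, 0, 0, 0, 0⟩, ⟨0, 1, 0, 1, 0, 1, 0, -1⟩, ⟨1, -1, 1, -1, -1, 1, -1, 1⟩⟩, ((4, 0), (4, 4), (8, -4))),
  (⟨⟨2, 0, 0, 0, 0, 0, 0, 0⟩, ⟨-1, 1, -1, 1, -1, 1, -1, 1⟩, ⟨0, -1, 0, 1, 0, 1, 0, 1⟩⟩, ((4, 0), (8, -4), (4, 4))),
  (⟨⟨2, 0, 0, 0, 0, 0, 0, 0⟩, ⟨-1, 1, -1, 1, -1, 1, -1, 1⟩, ⟨0, 1, 0, -1, 0, -1, 0, -1⟩⟩, ((4, 0), (8, -4), (4, 4))),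
  (⟨⟨2, 0, 0, 0, 0, 0, 0, 0⟩, ⟨-1, 1, -1, 1, 1, -1, 1, -1⟩, ⟨0, -1, 0, -1, 0, -1, 0, 1⟩⟩, ((4, 0), (8, -4), (4, 4))),
  (⟨⟨2, 0, 0, 0, 0, 0, 0, 0⟩, ⟨-1, 1, -1, 1, 1, -1, 1, -1⟩, ⟨0, 1, 0, 1, 0, 1, 0, -1⟩⟩, ((4, 0), (8, -4), (4, 4))),
  (⟨⟨2, 0, 0, 0, 0, 0, 0, 0⟩, ⟨-1, 1, 1, -1, -1, 1, 1, -1⟩, ⟨0, -1, 0, 1, 0, -1, 0, -1⟩⟩, ((4, 0), (8, -4), (4, 4))),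
  (⟨⟨2, 0, 0, 0, 0, 0, 0, 0⟩, ⟨-1, 1, 1, -1, -1, 1, 1, -1⟩, ⟨0, 1, 0, -1, 0, 1, 0, 1⟩⟩, ((4, 0), (8, -4), (4, 4))),
  (⟨⟨2, 0, 0, 0, 0, 0, 0, 0⟩, ⟨-1, 1, 1, -1, 1, -1, -1, 1⟩, ⟨0, -1, 0, -1, 0, 1, 0, -1⟩⟩, ((4, 0), (8, -4), (4, 4))),
  (⟨⟨2, 0, 0, 0, 0, 0, 0, 0⟩, ⟨-1, 1, 1, -1, 1, -1, -1, 1⟩, ⟨0, 1, 0, 1, 0, -1, 0, 1⟩⟩, ((4, 0), (8, -4), (4, 4))),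
  (⟨⟨2, 0, 0, 0, 0, 0, 0, 0⟩, ⟨1, -1, -1, 1, -1, 1, 1, -1⟩, ⟨0, -1, 0, -1, 0, 1, 0, -1⟩⟩, ((4, 0), (8, -4), (4, 4))),
  (⟨⟨2, 0, 0, 0, 0, 0, 0, 0⟩, ⟨1, -1, -1, 1, -1, 1, 1, -1⟩, ⟨0, 1, 0, 1, 0, -1, 0, 1⟩⟩, ((4, 0), (8, -4), (4, 4))),
  (⟨⟨2, 0, 0, 0, 0, 0, 0, 0⟩, ⟨1, -1, -1, 1, 1, -1, -1, 1⟩, ⟨0, -1, 0, 1, 0, -1, 0, -1⟩⟩, ((4, 0), (8, -4), (4, 4))),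
  (⟨⟨2, 0, 0, 0, 0, 0, 0, 0⟩, ⟨1, -1, -1, 1, 1, -1, -1, 1⟩, ⟨0, 1, 0, -1, 0, 1, 0, 1⟩⟩, ((4, 0), (8, -4), (4, 4))),
  (⟨⟨2, 0, 0, 0, 0, 0, 0, 0⟩, ⟨1, -1, 1, -1, -1, 1, -1, 1⟩, ⟨0, -1, 0, -1, 0, -1, 0, 1⟩⟩, ((4, 0), (8, -4), (4, 4))),
  (⟨⟨2, 0, 0, 0, 0, 0, 0, 0⟩, ⟨1, -1, 1, -1, -1, 1, -1, 1⟩, ⟨0, 1, 0, 1, 0, 1, 0, -1⟩⟩, ((4, 0), (8, -4), (4, 4))),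
  (⟨⟨2, 0, 0, 0, 0, 0, 0, 0⟩, ⟨1, -1, 1, -1, 1, -1, 1, -1⟩, ⟨0, -1, 0, 1, 0, 1, 0, 1⟩⟩, ((4, 0), (8, -4), (4, 4))),
  (⟨⟨2, 0, 0, 0, 0, 0, 0, 0⟩, ⟨1, -1, 1, -1, 1, -1, 1, -1⟩, ⟨0, 1, 0, -1, 0, -1, 0, -1⟩⟩, ((4, 0), (8, -4), (4, 4))),
  (⟨⟨2, 0, 0, 0, 0, 0, 0, 0⟩, ⟨-1, 0, -1, 0, -1, 0, 1, -2⟩, ⟨0, 0, -2, 0, 0, 0, 0, 0⟩⟩, ((4, 0), (8, 0), (4, 0))),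
  (⟨⟨2, 0, 0, 0, 0, 0, 0, 0⟩, ⟨-1, 0, -1, 0, -1, 0, 1, -2⟩, ⟨0, 0, 2, 0, 0, 0, 0, 0⟩⟩, ((4, 0), (8, 0), (4, 0))),
  (⟨⟨2, 0, 0, 0, 0, 0, 0, 0⟩, ⟨-1, 0, -1, 0, -1, 2, 1, 0⟩, ⟨0, 0, 0, 0, -2, 0, 0, 0⟩⟩, ((4, 0), (8, 0), (4, 0))),
  (⟨⟨2, 0, 0, 0, 0, 0, 0, 0⟩, ⟨-1, 0, -1, 0, -1, 2, 1, 0⟩, ⟨0, 0, 0, 0, 2, 0, 0, 0⟩⟩, ((4, 0), (8, 0), (4, 0))),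
  (⟨⟨2, 0, 0, 0, 0, 0, 0, 0⟩, ⟨-1, 0, -1, 0, 1, -2, -1, 0⟩, ⟨0, 0, 0, 0, 0, 0, -2, 0⟩⟩, ((4, 0), (8, 0), (4, 0))),
  (⟨⟨2, 0, 0, 0, 0, 0, 0, 0⟩, ⟨-1, 0, -1, 0, 1, -2, -1, 0⟩, ⟨0, 0, 0, 0, 0, 0, 2, 0⟩⟩, ((4, 0), (8, 0), (4, 0))),
  (⟨⟨2, 0, 0, 0, 0, 0, 0, 0⟩, ⟨-1, 0, -1, 0, 1, 0, -1, 2⟩, ⟨-2, 0, 0, 0, 0, 0, 0, 0⟩⟩, ((4, 0), (8, 0), (4, 0))),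
  (⟨⟨2, 0, 0, 0, 0, 0, 0, 0⟩, ⟨-1, 0, -1, 0, 1, 0, -1, 2⟩, ⟨2, 0, 0, 0, 0, 0, 0, 0⟩⟩, ((4, 0), (8, 0), (4, 0))),
  (⟨⟨2, 0, 0, 0, 0, 0, 0, 0⟩, ⟨-1, 0, -1, 2, -1, 0, 1, 0⟩, ⟨-2, 0, 0, 0, 0, 0, 0, 0⟩⟩, ((4, 0), (8, 0), (4, 0))),
  (⟨⟨2, 0, 0, 0, 0, 0, 0, 0⟩, ⟨-1, 0, -1, 2, -1, 0, 1, 0⟩, ⟨2, 0, 0, 0, 0, 0, 0, 0⟩⟩, ((4, 0), (8, 0), (4, 0))),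
  (⟨⟨2, 0, 0, 0, 0, 0, 0, 0⟩, ⟨-1, 0, -1, 2, 1, 0, -1, 0⟩, ⟨0, 0, -2, 0, 0, 0, 0, 0⟩⟩, ((4, 0), (8, 0), (4, 0))),
  (⟨⟨2, 0, 0, 0, 0, 0, 0, 0⟩, ⟨-1, 0, -1, 2, 1, 0, -1, 0⟩, ⟨0, 0, 2, 0, 0, 0, 0, 0⟩⟩, ((4, 0), (8, 0), (4, 0))),
  (⟨⟨2, 0, 0, 0, 0, 0, 0, 0⟩, ⟨-1, 0, 1, -2, -1, 0, -1, 0⟩, ⟨0, 0, 0, 0, -2, 0, 0, 0⟩⟩, ((4, 0), (8, 0), (4, 0))),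
  (⟨⟨2, 0, 0, 0, 0, 0, 0, 0⟩, ⟨-1, 0, 1, -2, -1, 0, -1, 0⟩, ⟨0, 0, 0, 0, 2, 0, 0, 0⟩⟩, ((4, 0), (8, 0), (4, 0))),
  (⟨⟨2, 0, 0, 0, 0, 0, 0, 0⟩, ⟨-1, 0, 1, -2, 1, 0, 1, 0⟩, ⟨0, 0, 0, 0, 0, 0, -2, 0⟩⟩, ((4, 0), (8, 0), (4, 0))),
  (⟨⟨2, 0, 0, 0, 0, 0, 0, 0⟩, ⟨-1, 0, 1, -2, 1, 0, 1, 0⟩, ⟨0, 0, 0, 0, 0, 0, 2, 0⟩⟩, ((4, 0), (8, 0), (4, 0))),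
  (⟨⟨2, 0, 0, 0, 0, 0, 0, 0⟩, ⟨-1, 0, 1, 0, -1, 0, -1, 2⟩, ⟨0, 0, 0, 0, 0, 0, -2, 0⟩⟩, ((4, 0), (8, 0), (4, 0))),
  (⟨⟨2, 0, 0, 0, 0, 0, 0, 0⟩, ⟨-1, 0, 1, 0, -1, 0, -1, 2⟩, ⟨0, 0, 0, 0, 0, 0, 2, 0⟩⟩, ((4, 0), (8, 0), (4, 0))),
  (⟨⟨2, 0, 0, 0, 0, 0, 0, 0⟩, ⟨-1, 0, 1, 0, -1, 2, -1, 0⟩, ⟨-2, 0, 0, 0, 0, 0, 0, 0⟩⟩, ((4, 0), (8, 0), (4, 0))),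
  (⟨⟨2, 0, 0, 0, 0, 0, 0, 0⟩, ⟨-1, 0, 1, 0, -1, 2, -1, 0⟩, ⟨2, 0, 0, 0, 0, 0, 0, 0⟩⟩, ((4, 0), (8, 0), (4, 0))),
  (⟨⟨2, 0, 0, 0, 0, 0, 0, 0⟩, ⟨-1, 0, 1, 0, 1, -2, 1, 0⟩, ⟨0, 0, -2, 0, 0, 0, 0, 0⟩⟩, ((4, 0), (8, 0), (4, 0))),
  (⟨⟨2, 0, 0, 0, 0, 0, 0, 0⟩, ⟨-1, 0, 1, 0, 1, -2, 1, 0⟩, ⟨0, 0, 2, 0, 0, 0, 0, 0⟩⟩, ((4, 0), (8, 0), (4, 0))),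
  (⟨⟨2, 0, 0, 0, 0, 0, 0, 0⟩, ⟨-1, 0, 1, 0, 1, 0, 1, -2⟩, ⟨0, 0, 0, 0, -2, 0, 0, 0⟩⟩, ((4, 0), (8, 0), (4, 0))),
  (⟨⟨2, 0, 0, 0, 0, 0, 0, 0⟩, ⟨-1, 0, 1, 0, 1, 0, 1, -2⟩, ⟨0, 0, 0, 0, 2, 0, 0, 0⟩⟩, ((4, 0), (8, 0), (4, 0))),
  (⟨⟨2, 0, 0, 0, 0, 0, 0, 0⟩, ⟨-1, 2, -1, 0, -1, 0, 1, 0⟩, ⟨0, 0, 0, 0, 0, 0, -2, 0⟩⟩, ((4, 0), (8, 0), (4, 0))),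
  (⟨⟨2, 0, 0, 0, 0, 0, 0, 0⟩, ⟨-1, 2, -1, 0, -1, 0, 1, 0⟩, ⟨0, 0, 0, 0, 0, 0, 2, 0⟩⟩, ((4, 0), (8, 0), (4, 0))),
  (⟨⟨2, 0, 0, 0, 0, 0, 0, 0⟩, ⟨-1, 2, -1, 0, 1, 0, -1, 0⟩, ⟨0, 0, 0, 0, -2, 0, 0, 0⟩⟩, ((4, 0), (8, 0), (4, 0))),
  (⟨⟨2, 0, 0, 0, 0, 0, 0, 0⟩, ⟨-1, 2, -1, 0, 1, 0, -1, 0⟩, ⟨0, 0, 0, 0, 2, 0, 0, 0⟩⟩, ((4, 0), (8, 0), (4, 0))),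
  (⟨⟨2, 0, 0, 0, 0, 0, 0, 0⟩, ⟨-1, 2, 1, 0, -1, 0, -1, 0⟩, ⟨0, 0, -2, 0, 0, 0, 0, 0⟩⟩, ((4, 0), (8, 0), (4, 0))),
  (⟨⟨2, 0, 0, 0, 0, 0, 0, 0⟩, ⟨-1, 2, 1, 0, -1, 0, -1, 0⟩, ⟨0, 0, 2, 0, 0, 0, 0, 0⟩⟩, ((4, 0), (8, 0), (4, 0))),
  (⟨⟨2, 0, 0, 0, 0, 0, 0, 0⟩, ⟨-1, 2, 1, 0, 1, 0, 1, 0⟩, ⟨-2, 0, 0, 0, 0, 0, 0, 0⟩⟩, ((4, 0), (8, 0), (4, 0))),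
  (⟨⟨2, 0, 0, 0, 0, 0, 0, 0⟩, ⟨-1, 2, 1, 0, 1, 0, 1, 0⟩, ⟨2, 0, 0, 0, 0, 0, 0, 0⟩⟩, ((4, 0), (8, 0), (4, 0))),
  (⟨⟨2, 0, 0, 0, 0, 0, 0, 0⟩, ⟨1, -2, -1, 0, -1, 0, -1, 0⟩, ⟨-2, 0, 0, 0, 0, 0, 0, 0⟩⟩, ((4, 0), (8, 0), (4, 0))),
  (⟨⟨2, 0, 0, 0, 0, 0, 0, 0⟩, ⟨1, -2, -1, 0, -1, 0, -1, 0⟩, ⟨2, 0, 0, 0, 0, 0, 0, 0⟩⟩, ((4, 0), (8, 0), (4, 0))),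
  (⟨⟨2, 0, 0, 0, 0, 0, 0, 0⟩, ⟨1, -2, -1, 0, 1, 0, 1, 0⟩, ⟨0, 0, -2, 0, 0, 0, 0, 0⟩⟩, ((4, 0), (8, 0), (4, 0))),
  (⟨⟨2, 0, 0, 0, 0, 0, 0, 0⟩, ⟨1, -2, -1, 0, 1, 0, 1, 0⟩, ⟨0, 0, 2, 0, 0, 0, 0, 0⟩⟩, ((4, 0), (8, 0), (4, 0))),
  (⟨⟨2, 0, 0, 0, 0, 0, 0, 0⟩, ⟨1, -2, 1, 0, -1, 0, 1, 0⟩, ⟨0, 0, 0, 0, -2, 0, 0, 0⟩⟩, ((4, 0), (8, 0), (4, 0))),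
  (⟨⟨2, 0, 0, 0, 0, 0, 0, 0⟩, ⟨1, -2, 1, 0, -1, 0, 1, 0⟩, ⟨0, 0, 0, 0, 2, 0, 0, 0⟩⟩, ((4, 0), (8, 0), (4, 0))),
  (⟨⟨2, 0, 0, 0, 0, 0, 0, 0⟩, ⟨1, -2, 1, 0, 1, 0, -1, 0⟩, ⟨0, 0, 0, 0, 0, 0, -2, 0⟩⟩, ((4, 0), (8, 0), (4, 0))),
  (⟨⟨2, 0, 0, 0, 0, 0, 0, 0⟩, ⟨1, -2, 1, 0, 1, 0, -1, 0⟩, ⟨0, 0, 0, 0, 0, 0, 2, 0⟩⟩, ((4, 0), (8, 0), (4, 0))),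
  (⟨⟨2, 0, 0, 0, 0, 0, 0, 0⟩, ⟨1, 0, -1, 0, -1, 0, -1, 2⟩, ⟨0, 0, 0, 0, -2, 0, 0, 0⟩⟩, ((4, 0), (8, 0), (4, 0))),
  (⟨⟨2, 0, 0, 0, 0, 0, 0, 0⟩, ⟨1, 0, -1, 0, -1, 0, -1, 2⟩, ⟨0, 0, 0, 0, 2, 0, 0, 0⟩⟩, ((4, 0), (8, 0), (4, 0))),
  (⟨⟨2, 0, 0, 0, 0, 0, 0, 0⟩, ⟨1, 0, -1, 0, -1, 2, -1, 0⟩, ⟨0, 0, -2, 0, 0, 0, 0, 0⟩⟩, ((4, 0), (8, 0), (4, 0))),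
  (⟨⟨2, 0, 0, 0, 0, 0, 0, 0⟩, ⟨1, 0, -1, 0, -1, 2, -1, 0⟩, ⟨0, 0, 2, 0, 0, 0, 0, 0⟩⟩, ((4, 0), (8, 0), (4, 0))),
  (⟨⟨2, 0, 0, 0, 0, 0, 0, 0⟩, ⟨1, 0, -1, 0, 1, -2, 1, 0⟩, ⟨-2, 0, 0, 0, 0, 0, 0, 0⟩⟩, ((4, 0), (8, 0), (4, 0))),
  (⟨⟨2, 0, 0, 0, 0, 0, 0, 0⟩, ⟨1, 0, -1, 0, 1, -2, 1, 0⟩, ⟨2, 0, 0, 0, 0, 0, 0, 0⟩⟩, ((4, 0), (8, 0), (4, 0))),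
  (⟨⟨2, 0, 0, 0, 0, 0, 0, 0⟩, ⟨1, 0, -1, 0, 1, 0, 1, -2⟩, ⟨0, 0, 0, 0, 0, 0, -2, 0⟩⟩, ((4, 0), (8, 0), (4, 0))),
  (⟨⟨2, 0, 0, 0, 0, 0, 0, 0⟩, ⟨1, 0, -1, 0, 1, 0, 1, -2⟩, ⟨0, 0, 0, 0, 0, 0, 2, 0⟩⟩, ((4, 0), (8, 0), (4, 0))),
  (⟨⟨2, 0, 0, 0, 0, 0, 0, 0⟩, ⟨1, 0, -1, 2, -1, 0, -1, 0⟩, ⟨0, 0, 0, 0, 0, 0, -2, 0⟩⟩, ((4, 0), (8, 0), (4, 0))),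
  (⟨⟨2, 0, 0, 0, 0, 0, 0, 0⟩, ⟨1, 0, -1, 2, -1, 0, -1, 0⟩, ⟨0, 0, 0, 0, 0, 0, 2, 0⟩⟩, ((4, 0), (8, 0), (4, 0))),
  (⟨⟨2, 0, 0, 0, 0, 0, 0, 0⟩, ⟨1, 0, -1, 2, 1, 0, 1, 0⟩, ⟨0, 0, 0, 0, -2, 0, 0, 0⟩⟩, ((4, 0), (8, 0), (4, 0))),
  (⟨⟨2, 0, 0, 0, 0, 0, 0, 0⟩, ⟨1, 0, -1, 2, 1, 0, 1, 0⟩, ⟨0, 0, 0, 0, 2, 0, 0, 0⟩⟩, ((4, 0), (8, 0), (4, 0))),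
  (⟨⟨2, 0, 0, 0, 0, 0, 0, 0⟩, ⟨1, 0, 1, -2, -1, 0, 1, 0⟩, ⟨0, 0, -2, 0, 0, 0, 0, 0⟩⟩, ((4, 0), (8, 0), (4, 0))),
  (⟨⟨2, 0, 0, 0, 0, 0, 0, 0⟩, ⟨1, 0, 1, -2, -1, 0, 1, 0⟩, ⟨0, 0, 2, 0, 0, 0, 0, 0⟩⟩, ((4, 0), (8, 0), (4, 0))),
  (⟨⟨2, 0, 0, 0, 0, 0, 0, 0⟩, ⟨1, 0, 1, -2, 1, 0, -1, 0⟩, ⟨-2, 0, 0, 0, 0, 0, 0, 0⟩⟩, ((4, 0), (8, 0), (4, 0))),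
  (⟨⟨2, 0, 0, 0, 0, 0, 0, 0⟩, ⟨1, 0, 1, -2, 1, 0, -1, 0⟩, ⟨2, 0, 0, 0, 0, 0, 0, 0⟩⟩, ((4, 0), (8, 0), (4, 0))),
  (⟨⟨2, 0, 0, 0, 0, 0, 0, 0⟩, ⟨1, 0, 1, 0, -1, 0, 1, -2⟩, ⟨-2, 0, 0, 0, 0, 0, 0, 0⟩⟩, ((4, 0), (8, 0), (4, 0))),
  (⟨⟨2, 0, 0, 0, 0, 0, 0, 0⟩, ⟨1, 0, 1, 0, -1, 0, 1, -2⟩, ⟨2, 0, 0, 0, 0, 0, 0, 0⟩⟩, ((4, 0), (8, 0), (4, 0))),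
  (⟨⟨2, 0, 0, 0, 0, 0, 0, 0⟩, ⟨1, 0, 1, 0, -1, 2, 1, 0⟩, ⟨0, 0, 0, 0, 0, 0, -2, 0⟩⟩, ((4, 0), (8, 0), (4, 0))),
  (⟨⟨2, 0, 0, 0, 0, 0, 0, 0⟩, ⟨1, 0, 1, 0, -1, 2, 1, 0⟩, ⟨0, 0, 0, 0, 0, 0, 2, 0⟩⟩, ((4, 0), (8, 0), (4, 0))),
  (⟨⟨2, 0, 0, 0, 0, 0, 0, 0⟩, ⟨1, 0, 1, 0, 1, -2, -1, 0⟩, ⟨0, 0, 0, 0, -2, 0, 0, 0⟩⟩, ((4, 0), (8, 0), (4, 0))),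
  (⟨⟨2, 0, 0, 0, 0, 0, 0, 0⟩, ⟨1, 0, 1, 0, 1, -2, -1, 0⟩, ⟨0, 0, 0, 0, 2, 0, 0, 0⟩⟩, ((4, 0), (8, 0), (4, 0))),
  (⟨⟨2, 0, 0, 0, 0, 0, 0, 0⟩, ⟨1, 0, 1, 0, 1, 0, -1, 2⟩, ⟨0, 0, -2, 0, 0, 0, 0, 0⟩⟩, ((4, 0), (8, 0), (4, 0))),
  (⟨⟨2, 0, 0, 0, 0, 0, 0, 0⟩, ⟨1, 0, 1, 0, 1, 0, -1, 2⟩, ⟨0, 0, 2, 0, 0, 0, 0, 0⟩⟩, ((4, 0), (8, 0), (4, 0))),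
  (⟨⟨0, -1, 0, -1, 0, -1, 0, 1⟩, ⟨2, 0, 0, 0, 0, 0, 0, 0⟩, ⟨-1, 1, -1, 1, 1, -1, 1, -1⟩⟩, ((4, 4), (4, 0), (8, -4))),
  (⟨⟨0, -1, 0, -1, 0, -1, 0, 1⟩, ⟨2, 0, 0, 0, 0, 0, 0, 0⟩, ⟨1, -1, 1, -1, -1, 1, -1, 1⟩⟩, ((4, 4), (4, 0), (8, -4))),
  (⟨⟨0, -1, 0, -1, 0, 1, 0, -1⟩, ⟨2, 0, 0, 0, 0, 0, 0, 0⟩, ⟨-1, 1, 1, -1, 1, -1, -1, 1⟩⟩, ((4, 4), (4, 0), (8, -4))),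
  (⟨⟨0, -1, 0, -1, 0, 1, 0, -1⟩, ⟨2, 0, 0, 0, 0, 0, 0, 0⟩, ⟨1, -1, -1, 1, -1, 1, 1, -1⟩⟩, ((4, 4), (4, 0), (8, -4))),
  (⟨⟨0, -1, 0, 1, 0, -1, 0, -1⟩, ⟨2, 0, 0, 0, 0, 0, 0, 0⟩, ⟨-1, 1, 1, -1, -1, 1, 1, -1⟩⟩, ((4, 4), (4, 0), (8, -4))),
  (⟨⟨0, -1, 0, 1, 0, -1, 0, -1⟩, ⟨2, 0, 0, 0, 0, 0, 0, 0⟩, ⟨1, -1, -1, 1, 1, -1, -1, 1⟩⟩, ((4, 4), (4, 0), (8, -4))),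
  (⟨⟨0, -1, 0, 1, 0, 1, 0, 1⟩, ⟨2, 0, 0, 0, 0, 0, 0, 0⟩, ⟨-1, 1, -1, 1, -1, 1, -1, 1⟩⟩, ((4, 4), (4, 0), (8, -4))),
  (⟨⟨0, -1, 0, 1, 0, 1, 0, 1⟩, ⟨2, 0, 0, 0, 0, 0, 0, 0⟩, ⟨1, -1, 1, -1, 1, -1, 1, -1⟩⟩, ((4, 4), (4, 0), (8, -4))),
  (⟨⟨0, 1, 0, -1, 0, -1, 0, -1⟩, ⟨2, 0, 0, 0, 0, 0, 0, 0⟩, ⟨-1, 1, -1, 1, -1, 1, -1, 1⟩⟩, ((4, 4), (4, 0), (8, -4))),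
  (⟨⟨0, 1, 0, -1, 0, -1, 0, -1⟩, ⟨2, 0, 0, 0, 0, 0, 0, 0⟩, ⟨1, -1, 1, -1, 1, -1, 1, -1⟩⟩, ((4, 4), (4, 0), (8, -4))),
  (⟨⟨0, 1, 0, -1, 0, 1, 0, 1⟩, ⟨2, 0, 0, 0, 0, 0, 0, 0⟩, ⟨-1, 1, 1, -1, -1, 1, 1, -1⟩⟩, ((4, 4), (4, 0), (8, -4))),
  (⟨⟨0, 1, 0, -1, 0, 1, 0, 1⟩, ⟨2, 0, 0, 0, 0, 0, 0, 0⟩, ⟨1, -1, -1, 1, 1, -1, -1, 1⟩⟩, ((4, 4), (4, 0), (8, -4))),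
  (⟨⟨0, 1, 0, 1, 0, -1, 0, 1⟩, ⟨2, 0, 0, 0, 0, 0, 0, 0⟩, ⟨-1, 1, 1, -1, 1, -1, -1, 1⟩⟩, ((4, 4), (4, 0), (8, -4))),
  (⟨⟨0, 1, 0, 1, 0, -1, 0, 1⟩, ⟨2, 0, 0, 0, 0, 0, 0, 0⟩, ⟨1, -1, -1, 1, -1, 1, 1, -1⟩⟩, ((4, 4), (4, 0), (8, -4))),
  (⟨⟨0, 1, 0, 1, 0, 1, 0, -1⟩, ⟨2, 0, 0, 0, 0, 0, 0, 0⟩, ⟨-1, 1, -1, 1, 1, -1, 1, -1⟩⟩, ((4, 4), (4, 0), (8, -4))),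
  (⟨⟨0, 1, 0, 1, 0, 1, 0, -1⟩, ⟨2, 0, 0, 0, 0, 0, 0, 0⟩, ⟨1, -1, 1, -1, -1, 1, -1, 1⟩⟩, ((4, 4), (4, 0), (8, -4))),
  (⟨⟨0, -1, 0, -1, 0, -1, 0, 1⟩, ⟨-1, 1, -1, 1, 1, -1, 1, -1⟩, ⟨2, 0, 0, 0, 0, 0, 0, 0⟩⟩, ((4, 4), (8, -4), (4, 0))),
  (⟨⟨0, -1, 0, -1, 0, -1, 0, 1⟩, ⟨1, -1, 1, -1, -1, 1, -1, 1⟩, ⟨2, 0, 0, 0, 0, 0, 0, 0⟩⟩, ((4, 4), (8, -4), (4, 0))),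
  (⟨⟨0, -1, 0, -1, 0, 1, 0, -1⟩, ⟨-1, 1, 1, -1, 1, -1, -1, 1⟩, ⟨2, 0, 0, 0, 0, 0, 0, 0⟩⟩, ((4, 4), (8, -4), (4, 0))),
  (⟨⟨0, -1, 0, -1, 0, 1, 0, -1⟩, ⟨1, -1, -1, 1, -1, 1, 1, -1⟩, ⟨2, 0, 0, 0, 0, 0, 0, 0⟩⟩, ((4, 4), (8, -4), (4, 0))),
  (⟨⟨0, -1, 0, 1, 0, -1, 0, -1⟩, ⟨-1, 1, 1, -1, -1, 1, 1, -1⟩, ⟨2, 0, 0, 0, 0, 0, 0, 0⟩⟩, ((4, 4), (8, -4), (4, 0))),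
  (⟨⟨0, -1, 0, 1, 0, -1, 0, -1⟩, ⟨1, -1, -1, 1, 1, -1, -1, 1⟩, ⟨2, 0, 0, 0, 0, 0, 0, 0⟩⟩, ((4, 4), (8, -4), (4, 0))),
  (⟨⟨0, -1, 0, 1, 0, 1, 0, 1⟩, ⟨-1, 1, -1, 1, -1, 1, -1, 1⟩, ⟨2, 0, 0, 0, 0, 0, 0, 0⟩⟩, ((4, 4), (8, -4), (4, 0))),
  (⟨⟨0, -1, 0, 1, 0, 1, 0, 1⟩, ⟨1, -1, 1, -1, 1, -1, 1, -1⟩, ⟨2, 0, 0, 0, 0, 0, 0, 0⟩⟩, ((4, 4), (8, -4), (4, 0))),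
  (⟨⟨0, 1, 0, -1, 0, -1, 0, -1⟩, ⟨-1, 1, -1, 1, -1, 1, -1, 1⟩, ⟨2, 0, 0, 0, 0, 0, 0, 0⟩⟩, ((4, 4), (8, -4), (4, 0))),
  (⟨⟨0, 1, 0, -1, 0, -1, 0, -1⟩, ⟨1, -1, 1, -1, 1, -1, 1, -1⟩, ⟨2, 0, 0, 0, 0, 0, 0, 0⟩⟩, ((4, 4), (8, -4), (4, 0))),
  (⟨⟨0, 1, 0, -1, 0, 1, 0, 1⟩, ⟨-1, 1, 1, -1, -1, 1, 1, -1⟩, ⟨2, 0, 0, 0, 0, 0, 0, 0⟩⟩, ((4, 4), (8, -4), (4, 0))),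
  (⟨⟨0, 1, 0, -1, 0, 1, 0, 1⟩, ⟨1, -1, -1, 1, 1, -1, -1, 1⟩, ⟨2, 0, 0, 0, 0, 0, 0, 0⟩⟩, ((4, 4), (8, -4), (4, 0))),
  (⟨⟨0, 1, 0, 1, 0, -1, 0, 1⟩, ⟨-1, 1, 1, -1, 1, -1, -1, 1⟩, ⟨2, 0, 0, 0, 0, 0, 0, 0⟩⟩, ((4, 4), (8, -4), (4, 0))),
  (⟨⟨0, 1, 0, 1, 0, -1, 0, 1⟩, ⟨1, -1, -1, 1, -1, 1, 1, -1⟩, ⟨2, 0, 0, 0, 0, 0, 0, 0⟩⟩, ((4, 4), (8, -4), (4, 0))),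
  (⟨⟨0, 1, 0, 1, 0, 1, 0, -1⟩, ⟨-1, 1, -1, 1, 1, -1, 1, -1⟩, ⟨2, 0, 0, 0, 0, 0, 0, 0⟩⟩, ((4, 4), (8, -4), (4, 0))),
  (⟨⟨0, 1, 0, 1, 0, 1, 0, -1⟩, ⟨1, -1, 1, -1, -1, 1, -1, 1⟩, ⟨2, 0, 0, 0, 0, 0, 0, 0⟩⟩, ((4, 4), (8, -4), (4, 0))),
  (⟨⟨-1, 1, -1, 1, -1, 1, -1, 1⟩, ⟨2, 0, 0, 0, 0, 0, 0, 0⟩, ⟨0, -1, 0, 1, 0, 1, 0, 1⟩⟩, ((8, -4), (4, 0), (4, 4))),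
  (⟨⟨-1, 1, -1, 1, -1, 1, -1, 1⟩, ⟨2, 0, 0, 0, 0, 0, 0, 0⟩, ⟨0, 1, 0, -1, 0, -1, 0, -1⟩⟩, ((8, -4), (4, 0), (4, 4))),
  (⟨⟨-1, 1, -1, 1, 1, -1, 1, -1⟩, ⟨2, 0, 0, 0, 0, 0, 0, 0⟩, ⟨0, -1, 0, -1, 0, -1, 0, 1⟩⟩, ((8, -4), (4, 0), (4, 4))),
  (⟨⟨-1, 1, -1, 1, 1, -1, 1, -1⟩, ⟨2, 0, 0, 0, 0, 0, 0, 0⟩, ⟨0, 1, 0, 1, 0, 1, 0, -1⟩⟩, ((8, -4), (4, 0), (4, 4))),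
  (⟨⟨-1, 1, 1, -1, -1, 1, 1, -1⟩, ⟨2, 0, 0, 0, 0, 0, 0, 0⟩, ⟨0, -1, 0, 1, 0, -1, 0, -1⟩⟩, ((8, -4), (4, 0), (4, 4))),
  (⟨⟨-1, 1, 1, -1, -1, 1, 1, -1⟩, ⟨2, 0, 0, 0, 0, 0, 0, 0⟩, ⟨0, 1, 0, -1, 0, 1, 0, 1⟩⟩, ((8, -4), (4, 0), (4, 4))),
  (⟨⟨-1, 1, 1, -1, 1, -1, -1, 1⟩, ⟨2, 0, 0, 0, 0, 0, 0, 0⟩, ⟨0, -1, 0, -1, 0, 1, 0, -1⟩⟩, ((8, -4), (4, 0), (4, 4))),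
  (⟨⟨-1, 1, 1, -1, 1, -1, -1, 1⟩, ⟨2, 0, 0, 0, 0, 0, 0, 0⟩, ⟨0, 1, 0, 1, 0, -1, 0, 1⟩⟩, ((8, -4), (4, 0), (4, 4))),
  (⟨⟨1, -1, -1, 1, -1, 1, 1, -1⟩, ⟨2, 0, 0, 0, 0, 0, 0, 0⟩, ⟨0, -1, 0, -1, 0, 1, 0, -1⟩⟩, ((8, -4), (4, 0), (4, 4))),
  (⟨⟨1, -1, -1, 1, -1, 1, 1, -1⟩, ⟨2, 0, 0, 0, 0, 0, 0, 0⟩, ⟨0, 1, 0, 1, 0, -1, 0, 1⟩⟩, ((8, -4), (4, 0), (4, 4))),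
  (⟨⟨1, -1, -1, 1, 1, -1, -1, 1⟩, ⟨2, 0, 0, 0, 0, 0, 0, 0⟩, ⟨0, -1, 0, 1, 0, -1, 0, -1⟩⟩, ((8, -4), (4, 0), (4, 4))),
  (⟨⟨1, -1, -1, 1, 1, -1, -1, 1⟩, ⟨2, 0, 0, 0, 0, 0, 0, 0⟩, ⟨0, 1, 0, -1, 0, 1, 0, 1⟩⟩, ((8, -4), (4, 0), (4, 4))),
  (⟨⟨1, -1, 1, -1, -1, 1, -1, 1⟩, ⟨2, 0, 0, 0, 0, 0, 0, 0⟩, ⟨0, -1, 0, -1, 0, -1, 0, 1⟩⟩, ((8, -4), (4, 0), (4, 4))),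
  (⟨⟨1, -1, 1, -1, -1, 1, -1, 1⟩, ⟨2, 0, 0, 0, 0, 0, 0, 0⟩, ⟨0, 1, 0, 1, 0, 1, 0, -1⟩⟩, ((8, -4), (4, 0), (4, 4))),
  (⟨⟨1, -1, 1, -1, 1, -1, 1, -1⟩, ⟨2, 0, 0, 0, 0, 0, 0, 0⟩, ⟨0, -1, 0, 1, 0, 1, 0, 1⟩⟩, ((8, -4), (4, 0), (4, 4))),
  (⟨⟨1, -1, 1, -1, 1, -1, 1, -1⟩, ⟨2, 0, 0, 0, 0, 0, 0, 0⟩, ⟨0, 1, 0, -1, 0, -1, 0, -1⟩⟩, ((8, -4), (4, 0), (4, 4))),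
  (⟨⟨-1, 1, -1, 1, -1, 1, -1, 1⟩, ⟨0, -1, 0, 1, 0, 1, 0, 1⟩, ⟨2, 0, 0, 0, 0, 0, 0, 0⟩⟩, ((8, -4), (4, 4), (4, 0))),
  (⟨⟨-1, 1, -1, 1, -1, 1, -1, 1⟩, ⟨0, 1, 0, -1, 0, -1, 0, -1⟩, ⟨2, 0, 0, 0, 0, 0, 0, 0⟩⟩, ((8, -4), (4, 4), (4, 0))),
  (⟨⟨-1, 1, -1, 1, 1, -1, 1, -1⟩, ⟨0, -1, 0, -1, 0, -1, 0, 1⟩, ⟨2, 0, 0, 0, 0, 0, 0, 0⟩⟩, ((8, -4), (4, 4), (4, 0))),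
  (⟨⟨-1, 1, -1, 1, 1, -1, 1, -1⟩, ⟨0, 1, 0, 1, 0, 1, 0, -1⟩, ⟨2, 0, 0, 0, 0, 0, 0, 0⟩⟩, ((8, -4), (4, 4), (4, 0))),
  (⟨⟨-1, 1, 1, -1, -1, 1, 1, -1⟩, ⟨0, -1, 0, 1, 0, -1, 0, -1⟩, ⟨2, 0, 0, 0, 0, 0, 0, 0⟩⟩, ((8, -4), (4, 4), (4, 0))),
  (⟨⟨-1, 1, 1, -1, -1, 1, 1, -1⟩, ⟨0, 1, 0, -1, 0, 1, 0, 1⟩, ⟨2, 0, 0, 0, 0, 0, 0, 0⟩⟩, ((8, -4), (4, 4), (4, 0))),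
  (⟨⟨-1, 1, 1, -1, 1, -1, -1, 1⟩, ⟨0, -1, 0, -1, 0, 1, 0, -1⟩, ⟨2, 0, 0, 0, 0, 0, 0, 0⟩⟩, ((8, -4), (4, 4), (4, 0))),
  (⟨⟨-1, 1, 1, -1, 1, -1, -1, 1⟩, ⟨0, 1, 0, 1, 0, -1, 0, 1⟩, ⟨2, 0, 0, 0, 0, 0, 0, 0⟩⟩, ((8, -4), (4, 4), (4, 0))),
  (⟨⟨1, -1, -1, 1, -1, 1, 1, -1⟩, ⟨0, -1, 0, -1, 0, 1, 0, -1⟩, ⟨2, 0, 0, 0, 0, 0, 0, 0⟩⟩, ((8, -4), (4, 4), (4, 0))),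
  (⟨⟨1, -1, -1, 1, -1, 1, 1, -1⟩, ⟨0, 1, 0, 1, 0, -1, 0, 1⟩, ⟨2, 0, 0, 0, 0, 0, 0, 0⟩⟩, ((8, -4), (4, 4), (4, 0))),
  (⟨⟨1, -1, -1, 1, 1, -1, -1, 1⟩, ⟨0, -1, 0, 1, 0, -1, 0, -1⟩, ⟨2, 0, 0, 0, 0, 0, 0, 0⟩⟩, ((8, -4), (4, 4), (4, 0))),
  (⟨⟨1, -1, -1, 1, 1, -1, -1, 1⟩, ⟨0, 1, 0, -1, 0, 1, 0, 1⟩, ⟨2, 0, 0, 0, 0, 0, 0, 0⟩⟩, ((8, -4), (4, 4), (4, 0))),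
  (⟨⟨1, -1, 1, -1, -1, 1, -1, 1⟩, ⟨0, -1, 0, -1, 0, -1, 0, 1⟩, ⟨2, 0, 0, 0, 0, 0, 0, 0⟩⟩, ((8, -4), (4, 4), (4, 0))),
  (⟨⟨1, -1, 1, -1, -1, 1, -1, 1⟩, ⟨0, 1, 0, 1, 0, 1, 0, -1⟩, ⟨2, 0, 0, 0, 0, 0, 0, 0⟩⟩, ((8, -4), (4, 4), (4, 0))),
  (⟨⟨1, -1, 1, -1, 1, -1, 1, -1⟩, ⟨0, -1, 0, 1, 0, 1, 0, 1⟩, ⟨2, 0, 0, 0, 0, 0, 0, 0⟩⟩, ((8, -4), (4, 4), (4, 0))),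
  (⟨⟨1, -1, 1, -1, 1, -1, 1, -1⟩, ⟨0, 1, 0, -1, 0, -1, 0, -1⟩, ⟨2, 0, 0, 0, 0, 0, 0, 0⟩⟩, ((8, -4), (4, 4), (4, 0))),
  (⟨⟨1, -2, 1, 0, 1, 0, 1, 0⟩, ⟨0, 0, 0, 0, 0, 0, 0, 0⟩, ⟨-1, 0, -1, 0, 1, -2, 1, 0⟩⟩, ((8, 0), (0, 0), (8, 0))),
  (⟨⟨1, -2, 1, 0, 1, 0, 1, 0⟩, ⟨0, 0, 0, 0, 0, 0, 0, 0⟩, ⟨-1, 0, 1, -2, 1, 0, -1, 0⟩⟩, ((8, 0), (0, 0), (8, 0))),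
  (⟨⟨1, -2, 1, 0, 1, 0, 1, 0⟩, ⟨0, 0, 0, 0, 0, 0, 0, 0⟩, ⟨-1, 0, 1, 0, -1, 0, 1, -2⟩⟩, ((8, 0), (0, 0), (8, 0))),
  (⟨⟨1, -2, 1, 0, 1, 0, 1, 0⟩, ⟨0, 0, 0, 0, 0, 0, 0, 0⟩, ⟨-1, 2, -1, 0, -1, 0, -1, 0⟩⟩, ((8, 0), (0, 0), (8, 0))),
  (⟨⟨1, -2, 1, 0, 1, 0, 1, 0⟩, ⟨0, 0, 0, 0, 0, 0, 0, 0⟩, ⟨1, -2, 1, 0, 1, 0, 1, 0⟩⟩, ((8, 0), (0, 0), (8, 0))),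
  (⟨⟨1, -2, 1, 0, 1, 0, 1, 0⟩, ⟨0, 0, 0, 0, 0, 0, 0, 0⟩, ⟨1, 0, -1, 0, 1, 0, -1, 2⟩⟩, ((8, 0), (0, 0), (8, 0))),
  (⟨⟨1, -2, 1, 0, 1, 0, 1, 0⟩, ⟨0, 0, 0, 0, 0, 0, 0, 0⟩, ⟨1, 0, -1, 2, -1, 0, 1, 0⟩⟩, ((8, 0), (0, 0), (8, 0))),
  (⟨⟨1, -2, 1, 0, 1, 0, 1, 0⟩, ⟨0, 0, 0, 0, 0, 0, 0, 0⟩, ⟨1, 0, 1, 0, -1, 2, -1, 0⟩⟩, ((8, 0), (0, 0), (8, 0))),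
  (⟨⟨-1, 0, -1, 0, -1, 0, 1, -2⟩, ⟨2, 0, 0, 0, 0, 0, 0, 0⟩, ⟨0, 0, -2, 0, 0, 0, 0, 0⟩⟩, ((8, 0), (4, 0), (4, 0))),
  (⟨⟨-1, 0, -1, 0, -1, 0, 1, -2⟩, ⟨2, 0, 0, 0, 0, 0, 0, 0⟩, ⟨0, 0, 2, 0, 0, 0, 0, 0⟩⟩, ((8, 0), (4, 0), (4, 0))),
  (⟨⟨-1, 0, -1, 0, -1, 2, 1, 0⟩, ⟨2, 0, 0, 0, 0, 0, 0, 0⟩, ⟨0, 0, 0, 0, -2, 0, 0, 0⟩⟩, ((8, 0), (4, 0), (4, 0))),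
  (⟨⟨-1, 0, -1, 0, -1, 2, 1, 0⟩, ⟨2, 0, 0, 0, 0, 0, 0, 0⟩, ⟨0, 0, 0, 0, 2, 0, 0, 0⟩⟩, ((8, 0), (4, 0), (4, 0))),
  (⟨⟨-1, 0, -1, 0, 1, -2, -1, 0⟩, ⟨2, 0, 0, 0, 0, 0, 0, 0⟩, ⟨0, 0, 0, 0, 0, 0, -2, 0⟩⟩, ((8, 0), (4, 0), (4, 0))),
  (⟨⟨-1, 0, -1, 0, 1, -2, -1, 0⟩, ⟨2, 0, 0, 0, 0, 0, 0, 0⟩, ⟨0, 0, 0, 0, 0, 0, 2, 0⟩⟩, ((8, 0), (4, 0), (4, 0))),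
  (⟨⟨-1, 0, -1, 0, 1, 0, -1, 2⟩, ⟨2, 0, 0, 0, 0, 0, 0, 0⟩, ⟨-2, 0, 0, 0, 0, 0, 0, 0⟩⟩, ((8, 0), (4, 0), (4, 0))),
  (⟨⟨-1, 0, -1, 0, 1, 0, -1, 2⟩, ⟨2, 0, 0, 0, 0, 0, 0, 0⟩, ⟨2, 0, 0, 0, 0, 0, 0, 0⟩⟩, ((8, 0), (4, 0), (4, 0))),
  (⟨⟨-1, 0, -1, 2, -1, 0, 1, 0⟩, ⟨2, 0, 0, 0, 0, 0, 0, 0⟩, ⟨-2, 0, 0, 0, 0, 0, 0, 0⟩⟩, ((8, 0), (4, 0), (4, 0))),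
  (⟨⟨-1, 0, -1, 2, -1, 0, 1, 0⟩, ⟨2, 0, 0, 0, 0, 0, 0, 0⟩, ⟨2, 0, 0, 0, 0, 0, 0, 0⟩⟩, ((8, 0), (4, 0), (4, 0))),
  (⟨⟨-1, 0, -1, 2, 1, 0, -1, 0⟩, ⟨2, 0, 0, 0, 0, 0, 0, 0⟩, ⟨0, 0, -2, 0, 0, 0, 0, 0⟩⟩, ((8, 0), (4, 0), (4, 0))),
  (⟨⟨-1, 0, -1, 2, 1, 0, -1, 0⟩, ⟨2, 0, 0, 0, 0, 0, 0, 0⟩, ⟨0, 0, 2, 0, 0, 0, 0, 0⟩⟩, ((8, 0), (4, 0), (4, 0))),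
  (⟨⟨-1, 0, 1, -2, -1, 0, -1, 0⟩, ⟨2, 0, 0, 0, 0, 0, 0, 0⟩, ⟨0, 0, 0, 0, -2, 0, 0, 0⟩⟩, ((8, 0), (4, 0), (4, 0))),
  (⟨⟨-1, 0, 1, -2, -1, 0, -1, 0⟩, ⟨2, 0, 0, 0, 0, 0, 0, 0⟩, ⟨0, 0, 0, 0, 2, 0, 0, 0⟩⟩, ((8, 0), (4, 0), (4, 0))),
  (⟨⟨-1, 0, 1, -2, 1, 0, 1, 0⟩, ⟨2, 0, 0, 0, 0, 0, 0, 0⟩, ⟨0, 0, 0, 0, 0, 0, -2, 0⟩⟩, ((8, 0), (4, 0), (4, 0))),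
  (⟨⟨-1, 0, 1, -2, 1, 0, 1, 0⟩, ⟨2, 0, 0, 0, 0, 0, 0, 0⟩, ⟨0, 0, 0, 0, 0, 0, 2, 0⟩⟩, ((8, 0), (4, 0), (4, 0))),
  (⟨⟨-1, 0, 1, 0, -1, 0, -1, 2⟩, ⟨2, 0, 0, 0, 0, 0, 0, 0⟩, ⟨0, 0, 0, 0, 0, 0, -2, 0⟩⟩, ((8, 0), (4, 0), (4, 0))),
  (⟨⟨-1, 0, 1, 0, -1, 0, -1, 2⟩, ⟨2, 0, 0, 0, 0, 0, 0, 0⟩, ⟨0, 0, 0, 0, 0, 0, 2, 0⟩⟩, ((8, 0), (4, 0), (4, 0))),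
  (⟨⟨-1, 0, 1, 0, -1, 2, -1, 0⟩, ⟨2, 0, 0, 0, 0, 0, 0, 0⟩, ⟨-2, 0, 0, 0, 0, 0, 0, 0⟩⟩, ((8, 0), (4, 0), (4, 0))),
  (⟨⟨-1, 0, 1, 0, -1, 2, -1, 0⟩, ⟨2, 0, 0, 0, 0, 0, 0, 0⟩, ⟨2, 0, 0, 0, 0, 0, 0, 0⟩⟩, ((8, 0), (4, 0), (4, 0))),
  (⟨⟨-1, 0, 1, 0, 1, -2, 1, 0⟩, ⟨2, 0, 0, 0, 0, 0, 0, 0⟩, ⟨0, 0, -2, 0, 0, 0, 0, 0⟩⟩, ((8, 0), (4, 0), (4, 0))),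
  (⟨⟨-1, 0, 1, 0, 1, -2, 1, 0⟩, ⟨2, 0, 0, 0, 0, 0, 0, 0⟩, ⟨0, 0, 2, 0, 0, 0, 0, 0⟩⟩, ((8, 0), (4, 0), (4, 0))),
  (⟨⟨-1, 0, 1, 0, 1, 0, 1, -2⟩, ⟨2, 0, 0, 0, 0, 0, 0, 0⟩, ⟨0, 0, 0, 0, -2, 0, 0, 0⟩⟩, ((8, 0), (4, 0), (4, 0))),
  (⟨⟨-1, 0, 1, 0, 1, 0, 1, -2⟩, ⟨2, 0, 0, 0, 0, 0, 0, 0⟩, ⟨0, 0, 0, 0, 2, 0, 0, 0⟩⟩, ((8, 0), (4, 0), (4, 0))),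
  (⟨⟨-1, 2, -1, 0, -1, 0, 1, 0⟩, ⟨2, 0, 0, 0, 0, 0, 0, 0⟩, ⟨0, 0, 0, 0, 0, 0, -2, 0⟩⟩, ((8, 0), (4, 0), (4, 0))),
  (⟨⟨-1, 2, -1, 0, -1, 0, 1, 0⟩, ⟨2, 0, 0, 0, 0, 0, 0, 0⟩, ⟨0, 0, 0, 0, 0, 0, 2, 0⟩⟩, ((8, 0), (4, 0), (4, 0))),
  (⟨⟨-1, 2, -1, 0, 1, 0, -1, 0⟩, ⟨2, 0, 0, 0, 0, 0, 0, 0⟩, ⟨0, 0, 0, 0, -2, 0, 0, 0⟩⟩, ((8, 0), (4, 0), (4, 0))),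
  (⟨⟨-1, 2, -1, 0, 1, 0, -1, 0⟩, ⟨2, 0, 0, 0, 0, 0, 0, 0⟩, ⟨0, 0, 0, 0, 2, 0, 0, 0⟩⟩, ((8, 0), (4, 0), (4, 0))),
  (⟨⟨-1, 2, 1, 0, -1, 0, -1, 0⟩, ⟨2, 0, 0, 0, 0, 0, 0, 0⟩, ⟨0, 0, -2, 0, 0, 0, 0, 0⟩⟩, ((8, 0), (4, 0), (4, 0))),
  (⟨⟨-1, 2, 1, 0, -1, 0, -1, 0⟩, ⟨2, 0, 0, 0, 0, 0, 0, 0⟩, ⟨0, 0, 2, 0, 0, 0, 0, 0⟩⟩, ((8, 0), (4, 0), (4, 0))),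
  (⟨⟨-1, 2, 1, 0, 1, 0, 1, 0⟩, ⟨2, 0, 0, 0, 0, 0, 0, 0⟩, ⟨-2, 0, 0, 0, 0, 0, 0, 0⟩⟩, ((8, 0), (4, 0), (4, 0))),
  (⟨⟨-1, 2, 1, 0, 1, 0, 1, 0⟩, ⟨2, 0, 0, 0, 0, 0, 0, 0⟩, ⟨2, 0, 0, 0, 0, 0, 0, 0⟩⟩, ((8, 0), (4, 0), (4, 0))),
  (⟨⟨1, -2, -1, 0, -1, 0, -1, 0⟩, ⟨2, 0, 0, 0, 0, 0, 0, 0⟩, ⟨-2, 0, 0, 0, 0, 0, 0, 0⟩⟩, ((8, 0), (4, 0), (4, 0))),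
  (⟨⟨1, -2, -1, 0, -1, 0, -1, 0⟩, ⟨2, 0, 0, 0, 0, 0, 0, 0⟩, ⟨2, 0, 0, 0, 0, 0, 0, 0⟩⟩, ((8, 0), (4, 0), (4, 0))),
  (⟨⟨1, -2, -1, 0, 1, 0, 1, 0⟩, ⟨2, 0, 0, 0, 0, 0, 0, 0⟩, ⟨0, 0, -2, 0, 0, 0, 0, 0⟩⟩, ((8, 0), (4, 0), (4, 0))),
  (⟨⟨1, -2, -1, 0, 1, 0, 1, 0⟩, ⟨2, 0, 0, 0, 0, 0, 0, 0⟩, ⟨0, 0, 2, 0, 0, 0, 0, 0⟩⟩, ((8, 0), (4, 0), (4, 0))),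
  (⟨⟨1, -2, 1, 0, -1, 0, 1, 0⟩, ⟨2, 0, 0, 0, 0, 0, 0, 0⟩, ⟨0, 0, 0, 0, -2, 0, 0, 0⟩⟩, ((8, 0), (4, 0), (4, 0))),
  (⟨⟨1, -2, 1, 0, -1, 0, 1, 0⟩, ⟨2, 0, 0, 0, 0, 0, 0, 0⟩, ⟨0, 0, 0, 0, 2, 0, 0, 0⟩⟩, ((8, 0), (4, 0), (4, 0))),
  (⟨⟨1, -2, 1, 0, 1, 0, -1, 0⟩, ⟨2, 0, 0, 0, 0, 0, 0, 0⟩, ⟨0, 0, 0, 0, 0, 0, -2, 0⟩⟩, ((8, 0), (4, 0), (4, 0))),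
  (⟨⟨1, -2, 1, 0, 1, 0, -1, 0⟩, ⟨2, 0, 0, 0, 0, 0, 0, 0⟩, ⟨0, 0, 0, 0, 0, 0, 2, 0⟩⟩, ((8, 0), (4, 0), (4, 0))),
  (⟨⟨1, 0, -1, 0, -1, 0, -1, 2⟩, ⟨2, 0, 0, 0, 0, 0, 0, 0⟩, ⟨0, 0, 0, 0, -2, 0, 0, 0⟩⟩, ((8, 0), (4, 0), (4, 0))),
  (⟨⟨1, 0, -1, 0, -1, 0, -1, 2⟩, ⟨2, 0, 0, 0, 0, 0, 0, 0⟩, ⟨0, 0, 0, 0, 2, 0, 0, 0⟩⟩, ((8, 0), (4, 0), (4, 0))),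
  (⟨⟨1, 0, -1, 0, -1, 2, -1, 0⟩, ⟨2, 0, 0, 0, 0, 0, 0, 0⟩, ⟨0, 0, -2, 0, 0, 0, 0, 0⟩⟩, ((8, 0), (4, 0), (4, 0))),
  (⟨⟨1, 0, -1, 0, -1, 2, -1, 0⟩, ⟨2, 0, 0, 0, 0, 0, 0, 0⟩, ⟨0, 0, 2, 0, 0, 0, 0, 0⟩⟩, ((8, 0), (4, 0), (4, 0))),
  (⟨⟨1, 0, -1, 0, 1, -2, 1, 0⟩, ⟨2, 0, 0, 0, 0, 0, 0, 0⟩, ⟨-2, 0, 0, 0, 0, 0, 0, 0⟩⟩, ((8, 0), (4, 0), (4, 0))),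
  (⟨⟨1, 0, -1, 0, 1, -2, 1, 0⟩, ⟨2, 0, 0, 0, 0, 0, 0, 0⟩, ⟨2, 0, 0, 0, 0, 0, 0, 0⟩⟩, ((8, 0), (4, 0), (4, 0))),
  (⟨⟨1, 0, -1, 0, 1, 0, 1, -2⟩, ⟨2, 0, 0, 0, 0, 0, 0, 0⟩, ⟨0, 0, 0, 0, 0, 0, -2, 0⟩⟩, ((8, 0), (4, 0), (4, 0))),
  (⟨⟨1, 0, -1, 0, 1, 0, 1, -2⟩, ⟨2, 0, 0, 0, 0, 0, 0, 0⟩, ⟨0, 0, 0, 0, 0, 0, 2, 0⟩⟩, ((8, 0), (4, 0), (4, 0))),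
  (⟨⟨1, 0, -1, 2, -1, 0, -1, 0⟩, ⟨2, 0, 0, 0, 0, 0, 0, 0⟩, ⟨0, 0, 0, 0, 0, 0, -2, 0⟩⟩, ((8, 0), (4, 0), (4, 0))),
  (⟨⟨1, 0, -1, 2, -1, 0, -1, 0⟩, ⟨2, 0, 0, 0, 0, 0, 0, 0⟩, ⟨0, 0, 0, 0, 0, 0, 2, 0⟩⟩, ((8, 0), (4, 0), (4, 0))),
  (⟨⟨1, 0, -1, 2, 1, 0, 1, 0⟩, ⟨2, 0, 0, 0, 0, 0, 0, 0⟩, ⟨0, 0, 0, 0, -2, 0, 0, 0⟩⟩, ((8, 0), (4, 0), (4, 0))),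
  (⟨⟨1, 0, -1, 2, 1, 0, 1, 0⟩, ⟨2, 0, 0, 0, 0, 0, 0, 0⟩, ⟨0, 0, 0, 0, 2, 0, 0, 0⟩⟩, ((8, 0), (4, 0), (4, 0))),
  (⟨⟨1, 0, 1, -2, -1, 0, 1, 0⟩, ⟨2, 0, 0, 0, 0, 0, 0, 0⟩, ⟨0, 0, -2, 0, 0, 0, 0, 0⟩⟩, ((8, 0), (4, 0), (4, 0))),
  (⟨⟨1, 0, 1, -2, -1, 0, 1, 0⟩, ⟨2, 0, 0, 0, 0, 0, 0, 0⟩, ⟨0, 0, 2, 0, 0, 0, 0, 0⟩⟩, ((8, 0), (4, 0), (4, 0))),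
  (⟨⟨1, 0, 1, -2, 1, 0, -1, 0⟩, ⟨2, 0, 0, 0, 0, 0, 0, 0⟩, ⟨-2, 0, 0, 0, 0, 0, 0, 0⟩⟩, ((8, 0), (4, 0), (4, 0))),
  (⟨⟨1, 0, 1, -2, 1, 0, -1, 0⟩, ⟨2, 0, 0, 0, 0, 0, 0, 0⟩, ⟨2, 0, 0, 0, 0, 0, 0, 0⟩⟩, ((8, 0), (4, 0), (4, 0))),
  (⟨⟨1, 0, 1, 0, -1, 0, 1, -2⟩, ⟨2, 0, 0, 0, 0, 0, 0, 0⟩, ⟨-2, 0, 0, 0, 0, 0, 0, 0⟩⟩, ((8, 0), (4, 0), (4, 0))),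
  (⟨⟨1, 0, 1, 0, -1, 0, 1, -2⟩, ⟨2, 0, 0, 0, 0, 0, 0, 0⟩, ⟨2, 0, 0, 0, 0, 0, 0, 0⟩⟩, ((8, 0), (4, 0), (4, 0))),
  (⟨⟨1, 0, 1, 0, -1, 2, 1, 0⟩, ⟨2, 0, 0, 0, 0, 0, 0, 0⟩, ⟨0, 0, 0, 0, 0, 0, -2, 0⟩⟩, ((8, 0), (4, 0), (4, 0))),
  (⟨⟨1, 0, 1, 0, -1, 2, 1, 0⟩, ⟨2, 0, 0, 0, 0, 0, 0, 0⟩, ⟨0, 0, 0, 0, 0, 0, 2, 0⟩⟩, ((8, 0), (4, 0), (4, 0))),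
  (⟨⟨1, 0, 1, 0, 1, -2, -1, 0⟩, ⟨2, 0, 0, 0, 0, 0, 0, 0⟩, ⟨0, 0, 0, 0, -2, 0, 0, 0⟩⟩, ((8, 0), (4, 0), (4, 0))),
  (⟨⟨1, 0, 1, 0, 1, -2, -1, 0⟩, ⟨2, 0, 0, 0, 0, 0, 0, 0⟩, ⟨0, 0, 0, 0, 2, 0, 0, 0⟩⟩, ((8, 0), (4, 0), (4, 0))),
  (⟨⟨1, 0, 1, 0, 1, 0, -1, 2⟩, ⟨2, 0, 0, 0, 0, 0, 0, 0⟩, ⟨0, 0, -2, 0, 0, 0, 0, 0⟩⟩, ((8, 0), (4, 0), (4, 0))),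
  (⟨⟨1, 0, 1, 0, 1, 0, -1, 2⟩, ⟨2, 0, 0, 0, 0, 0, 0, 0⟩, ⟨0, 0, 2, 0, 0, 0, 0, 0⟩⟩, ((8, 0), (4, 0), (4, 0))),
  (⟨⟨1, -2, 1, 0, 1, 0, 1, 0⟩, ⟨-1, 0, -1, 0, 1, -2, 1, 0⟩, ⟨0, 0, 0, 0, 0, 0, 0, 0⟩⟩, ((8, 0), (8, 0), (0, 0))),
  (⟨⟨1, -2, 1, 0, 1, 0, 1, 0⟩, ⟨-1, 0, 1, -2, 1, 0, -1, 0⟩, ⟨0, 0, 0, 0, 0, 0, 0, 0⟩⟩, ((8, 0), (8, 0), (0, 0))),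
  (⟨⟨1, -2, 1, 0, 1, 0, 1, 0⟩, ⟨-1, 0, 1, 0, -1, 0, 1, -2⟩, ⟨0, 0, 0, 0, 0, 0, 0, 0⟩⟩, ((8, 0), (8, 0), (0, 0))),
  (⟨⟨1, -2, 1, 0, 1, 0, 1, 0⟩, ⟨-1, 2, -1, 0, -1, 0, -1, 0⟩, ⟨0, 0, 0, 0, 0, 0, 0, 0⟩⟩, ((8, 0), (8, 0), (0, 0))),
  (⟨⟨1, -2, 1, 0, 1, 0, 1, 0⟩, ⟨1, -2, 1, 0, 1, 0, 1, 0⟩, ⟨0, 0, 0, 0, 0, 0, 0, 0⟩⟩, ((8, 0), (8, 0), (0, 0))),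
  (⟨⟨1, -2, 1, 0, 1, 0, 1, 0⟩, ⟨1, 0, -1, 0, 1, 0, -1, 2⟩, ⟨0, 0, 0, 0, 0, 0, 0, 0⟩⟩, ((8, 0), (8, 0), (0, 0))),
  (⟨⟨1, -2, 1, 0, 1, 0, 1, 0⟩, ⟨1, 0, -1, 2, -1, 0, 1, 0⟩, ⟨0, 0, 0, 0, 0, 0, 0, 0⟩⟩, ((8, 0), (8, 0), (0, 0))),
  (⟨⟨1, -2, 1, 0, 1, 0, 1, 0⟩, ⟨1, 0, 1, 0, -1, 2, -1, 0⟩, ⟨0, 0, 0, 0, 0, 0, 0, 0⟩⟩, ((8, 0), (8, 0), (0, 0))),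
  (⟨⟨4, 0, 0, 0, 0, 0, 0, 0⟩, ⟨0, 0, 0, 0, 0, 0, 0, 0⟩, ⟨0, 0, 0, 0, 0, 0, 0, 0⟩⟩, ((16, 0), (0, 0), (0, 0)))]

end Cfsg.Agent.H60J2
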