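import Mathlib
import Cfsg.Agent.Lib.Helper68.MixStmt

set_option autoImplicit false

/-! Shared elementary lemmas for the S4017 pieces A2a, A2b, BSTAR (helper60). -/

namespace Cfsg.Agent.Lib.Helper60.MixBase

open Subgroup Cfsg.Agent.Lib.Helper68.MixStmt

universe u

theorem mem_normalizer_of_forall {G : Type u} [Group G] [Finite G] (H : Subgroup G) (g : G)
    (hg : ∀ u ∈ H, g * u * g⁻¹ ∈ H) : g ∈ normalizer (H : Set G) := by
  have hpow : ∀ n : ℕ, ∀ u ∈ H, g ^ n * u * (g ^ n)⁻¹ ∈ H := by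
    intro n
    induction n with
    | zero => intro u hu; simpa using hu
    | succ n ih =>
      intro u hu
      have h1 := hg _ (ih u hu)
      have h2 : g ^ (n + 1) * u * (g ^ (n + 1))⁻¹ = g * (g ^ n * u * (g ^ n)⁻¹) * g⁻¹ := by
        rw [pow_succ']; group
      rw [h2]; exact h1
  rw [Subgroup.mem_normalizer_iff]
  intro u
  refine ⟨hg u, fun hu => ?_⟩
  have h3 : g ^ (orderOf g - 1) = g⁻¹ := by
    rw [← mul_eq_one_iff_eq_inv, ← pow_succ, Nat.sub_add_cancel (orderOf_pos g),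
      pow_orderOf_eq_one]
  have h4 := hpow (orderOf g - 1) _ hu
  rw [h3] at h4
  have h5 : g⁻¹ * (g * u * g⁻¹) * g⁻¹⁻¹ = u := by group
  rwa [h5] at h4

theorem comm_mem_normalizer_zpowers {G : Type u} [Group G] [Finite G] {v x : G}
    (h : v * x = x * v) : v ∈ normalizer ((zpowers x : Subgroup G) : Set G) := by
  apply mem_normalizer_of_forall
  intro u hu
  obtain ⟨k, rfl⟩ := Subgroup.mem_zpowers_iff.1 hu
  have h1 : v * x ^ k = x ^ k * v := (Commute.zpow_right (show Commute v x from h) k).eq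
  rw [h1, mul_inv_cancel_right]
  exact Subgroup.zpow_mem _ (Subgroup.mem_zpowers x) k

theorem inv_mem_normalizer_zpowers {G : Type u} [Group G] [Finite G] {w x : G}
    (h : w * x * w⁻¹ = x⁻¹) : w ∈ normalizer ((zpowers x : Subgroup G) : Set G) := by
  apply mem_normalizer_of_forall
  intro u hu
  obtain ⟨k, rfl⟩ := Subgroup.mem_zpowers_iff.1 hu
  rw [← conj_zpow, h]
  exact Subgroup.zpow_mem _ (Subgroup.inv_mem _ (Subgroup.mem_zpowers x)) k

theorem mem_map_conj {G : Type u} [Group G] (Q : Subgroup G) (h q' : G) :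
    q' ∈ Q.map (MulAut.conj h).toMonoidHom ↔ h⁻¹ * q' * h ∈ Q := by
  constructor
  · rintro ⟨q, hq, rfl⟩
    simp only [MulEquiv.coe_toMonoidHom, MulAut.conj_apply]
    have h1 : h⁻¹ * (h * q * h⁻¹) * h = q := by group
    rw [h1]; exact hq
  · intro hq
    refine ⟨h⁻¹ * q' * h, hq, ?_⟩
    simp only [MulEquiv.coe_toMonoidHom, MulAut.conj_apply]
    group

theorem conj_mem_centralizer {G : Type u} [Group G] (Q : Subgroup G) (n : G)
    (hn : n ∈ normalizer (Q : Set G)) (x : G) (hx : x ∈ centralizer (Q : Set G)) :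
    n * x * n⁻¹ ∈ centralizer (Q : Set G) := by
  rw [Subgroup.mem_centralizer_iff] at hx ⊢
  intro q hq
  have h1 : n⁻¹ * q * n ∈ Q := (Subgroup.mem_normalizer_iff''.1 hn q).1 hq
  have h2 := hx _ h1
  calc q * (n * x * n⁻¹) = n * (n⁻¹ * q * n * x) * n⁻¹ := by group
    _ = n * (x * (n⁻¹ * q * n)) * n⁻¹ := by rw [h2]
    _ = n * x * n⁻¹ * q := by group

theorem caseA_conj {G : Type u} [Group G] (Q : Subgroup G) (hA : CaseA Q) (h : G) :
    CaseA (Q.map (MulAut.conj h).toMonoidHom) := by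
  intro t' ht' ht'1 z hz
  rw [mem_map_conj] at ht'
  have ht1 : h⁻¹ * t' * h ≠ 1 := by
    intro h0
    apply ht'1
    have h1 : t' = h * (h⁻¹ * t' * h) * h⁻¹ := by group
    rw [h1, h0]; group
  rw [Subgroup.mem_centralizer_iff] at hz
  have hz' := hz t' (Set.mem_singleton _)
  have h1 : h⁻¹ * z * h ∈ centralizer ({h⁻¹ * t' * h} : Set G) := by
    rw [Subgroup.mem_centralizer_iff]
    intro g hg
    rw [Set.mem_singleton_iff] at hg
    subst hg
    calc h⁻¹ * t' * h * (h⁻¹ * z * h) = h⁻¹ * (t' * z) * h := by group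
      _ = h⁻¹ * (z * t') * h := by rw [hz']
      _ = h⁻¹ * z * h * (h⁻¹ * t' * h) := by group
  have h2 := hA _ ht' ht1 h1
  rw [Subgroup.mem_normalizer_iff] at h2 ⊢
  intro q'
  rw [mem_map_conj, mem_map_conj, h2 (h⁻¹ * q' * h)]
  have h3 : h⁻¹ * z * h * (h⁻¹ * q' * h) * (h⁻¹ * z * h)⁻¹ = h⁻¹ * (z * q' * z⁻¹) * h := by
    group
  rw [h3]

theorem p_ge_three {G : Type u} [Group G] [Finite G] {p a : ℕ} {Q : Subgroup G} {y : G}
    (c : BCtx G p a Q y) : 3 ≤ p := by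
  have h1 : 2 ^ 2 ≤ 2 ^ a := Nat.pow_le_pow_right (by norm_num) c.ha
  have h2 := c.hpa
  norm_num at h1
  omega

theorem pelt_eq_one_of_dvd_two_pow {G : Type u} [Group G] {p : ℕ} (hp : p.Prime) (hp3 : 3 ≤ p)
    {u : G} (hu : IsPElt p u) {n : ℕ} (h : orderOf u ∣ 2 ^ n) : u = 1 := by
  obtain ⟨k, hk⟩ := hu
  rw [hk] at h
  rcases Nat.eq_zero_or_pos k with h0 | h0
  · rw [h0, pow_zero] at hk; exact orderOf_eq_one_iff.1 hk
  · exfalso
    have h2 : p ∣ 2 ^ n := dvd_trans (dvd_pow_self p h0.ne') h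
    have h3 := (Nat.prime_dvd_prime_iff_eq hp Nat.prime_two).1 (hp.dvd_of_dvd_pow h2)
    omega

theorem inter_trivial {G : Type u} [Group G] [Finite G] {p a : ℕ} {Q : Subgroup G} {y : G}
    (c : BCtx G p a Q y) (u : G) (hu : IsPElt p u) (huQ : u ∈ Q) : u = 1 := by
  apply pelt_eq_one_of_dvd_two_pow c.hp (p_ge_three c) hu (n := a)
  rw [← c.hQ]; exact Subgroup.orderOf_dvd_natCard Q huQ

theorem pelt_sq {G : Type u} [Group G] {p : ℕ} (hp : p.Prime) (hp3 : 3 ≤ p)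
    {u : G} (hu : IsPElt p u) (h : u * u = 1) : u = 1 := by
  apply pelt_eq_one_of_dvd_two_pow hp hp3 hu (n := 1)
  rw [pow_one]
  exact orderOf_dvd_of_pow_eq_one (by rw [pow_two]; exact h)

theorem sylow_pelt {G : Type u} [Group G] {p : ℕ} [Fact p.Prime] (P : Sylow p G) (v : G) (hv : v ∈ P) :
    IsPElt p v := by
  obtain ⟨k, hk⟩ := (IsPGroup.iff_orderOf.mp P.isPGroup') ⟨v, hv⟩
  rw [Subgroup.orderOf_mk] at hk
  exact ⟨k, hk⟩

theorem sylow_comm {G : Type u} [Group G] [Finite G] {p a : ℕ} {Q : Subgroup G} {y : G}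
    (c : BCtx G p a Q y) (P : Sylow p G) (v₁ : G) (h₁ : v₁ ∈ P) (v₂ : G) (h₂ : v₂ ∈ P) :
    v₁ * v₂ = v₂ * v₁ := by
  have h := (c.hab P).is_comm.comm (⟨v₁, h₁⟩ : ↥P) ⟨v₂, h₂⟩
  exact congrArg Subtype.val h

theorem y_not_cent {G : Type u} [Group G] [Finite G] {p a : ℕ} {Q : Subgroup G} {y : G}
    (c : BCtx G p a Q y) : y ∉ centralizer (Q : Set G) := by
  intro hy
  have hfix : ∀ s ∈ Q, s ≠ 1 → ∀ t ∈ Q, t ≠ 1 → s = t := by
    intro s hs hs1 t ht ht1
    obtain ⟨k, hk⟩ := c.htrans s hs hs1 t ht ht1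
    have h1 : y ^ k ∈ centralizer (Q : Set G) := pow_mem hy k
    have h2 := Subgroup.mem_centralizer_iff.1 h1 s hs
    rw [← hk, ← h2, mul_inv_cancel_right]
  have hcard : 4 ≤ Nat.card Q := by
    rw [c.hQ]
    calc 4 = 2 ^ 2 := by norm_num
      _ ≤ 2 ^ a := Nat.pow_le_pow_right (by norm_num) c.ha
  have hne : Nontrivial Q := by
    rw [← Finite.one_lt_card_iff_nontrivial]; omega
  obtain ⟨⟨s, hs⟩, hs1⟩ := exists_ne (1 : Q)
  have hs1' : s ≠ 1 := fun h => hs1 (Subtype.ext h)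
  have hsub : (Q : Set G) ⊆ {1, s} := by
    intro t ht
    by_cases ht1 : t = 1
    · left; exact ht1
    · right; exact (hfix s hs hs1' t ht ht1).symm
  have h3 : Nat.card Q = (Q : Set G).ncard := Nat.card_coe_set_eq (Q : Set G)
  have h4 : (Q : Set G).ncard ≤ ({1, s} : Set G).ncard :=
    Set.ncard_le_ncard hsub (Set.toFinite _)
  have h5 : ({1, s} : Set G).ncard = 2 := Set.ncard_pair (Ne.symm hs1')
  omega

/-- A `p`-element of `N` lies in the `N`-invariant subgroup `C ≤ N` as soon as `C` contains a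
Sylow `p`-subgroup of `G`. -/
theorem pelt_mem {G : Type u} [Group G] [Finite G] (p : ℕ) [Fact p.Prime] (N C : Subgroup G)
    (hCN : C ≤ N) (hnorm : ∀ n ∈ N, ∀ x ∈ C, n * x * n⁻¹ ∈ C) (P : Sylow p G)
    (hPC : (P : Subgroup G) ≤ C) (y : G) (hyN : y ∈ N) (hy : IsPElt p y) : y ∈ C := by
  classical
  obtain ⟨k, hk⟩ := hy
  have hpg : IsPGroup p (zpowers (⟨y, hyN⟩ : ↥N)) := by
    apply IsPGroup.of_card (n := k)
    rw [Nat.card_zpowers, Subgroup.orderOf_mk, hk]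
  obtain ⟨R, hR⟩ := hpg.exists_le_sylow
  obtain ⟨n, hn⟩ := MulAction.exists_smul_eq ↥N (P.subtype (hPC.trans hCN)) R
  have h1 : (⟨y, hyN⟩ : ↥N) ∈ (R : Subgroup ↥N) := hR (Subgroup.mem_zpowers _)
  rw [← hn, Sylow.coe_subgroup_smul, Subgroup.mem_pointwise_smul_iff_inv_smul_mem,
    MulAut.smul_def, MulAut.conj_inv_apply, Sylow.coe_subtype, Subgroup.mem_subgroupOf] at h1
  have h2 : (n : G)⁻¹ * y * (n : G) ∈ C := hPC h1
  have h3 := hnorm n n.2 _ h2
  have h4 : (n : G) * ((n : G)⁻¹ * y * (n : G)) * (n : G)⁻¹ = y := by group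
  rwa [h4] at h3

end Cfsg.Agent.Lib.Helper60.MixBase
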