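import Mathlib
import Cfsg.Agent.Lib.Helper68.MixStmt
import Cfsg.Agent.Lib.Helper60.MixBase

set_option autoImplicit false

/-! Piece A2a of S4017 (helper60): in Case A with a nontrivial `p`-element in `C`, no involution
normalizes a Sylow `p`-subgroup. -/

namespace Cfsg.Agent.Lib.Helper60.MixA2a

open Subgroup Cfsg.Agent.Lib.Helper68.MixStmt Cfsg.Agent.Lib.Helper60.MixBase

universe u

theorem core (hA2N : A2N.{u}) (hCONJ : CONJ.{u}) (hINVN : INVN.{u}) (hINVCONJ : INVCONJ.{u})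
    (hNCENT : NCENT.{u}) (G : Type u) [Group G] [Finite G] (p a : ℕ) (Q : Subgroup G) (y : G)
    (c : BCtx G p a Q y) (hA : CaseA Q) (P : Sylow p G) (x : G) (hxP : x ∈ P)
    (hxC : x ∈ centralizer (Q : Set G)) (hx1 : x ≠ 1) (w : G) (hw : orderOf w = 2)
    (hwP : w ∈ normalizer ((P : Subgroup G) : Set G)) : False := by
  classical
  haveI : Fact p.Prime := ⟨c.hp⟩
  have hp3 : 3 ≤ p := p_ge_three c
  have hwsq : w * w = 1 := by rw [← pow_two, ← hw]; exact pow_orderOf_eq_one w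
  have hw1 : w ≠ 1 := by
    rintro rfl
    rw [orderOf_one] at hw
    omega
  have hwinv : w⁻¹ = w := inv_eq_of_mul_eq_one_left hwsq
  have hcomm : ∀ v₁ ∈ P, ∀ v₂ ∈ P, v₁ * v₂ = v₂ * v₁ := sylow_comm c P
  have hpelt : ∀ v ∈ P, IsPElt p v := sylow_pelt P
  have hwP' : ∀ v ∈ P, w * v * w⁻¹ ∈ P := fun v hv =>
    (Subgroup.mem_normalizer_iff.1 hwP v).1 hv
  by_cases hcase : ∀ z ∈ P, w * z = z * w → z = 1
  · -- `w` inverts `P`
    have hinvP : ∀ v ∈ P, w * v * w⁻¹ = v⁻¹ := by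
      intro v hv
      have hu : v * (w * v * w⁻¹) ∈ (P : Subgroup G) :=
        (P : Subgroup G).mul_mem hv (hwP' v hv)
      have h2 := hcomm v hv (w * v * w⁻¹) (hwP' v hv)
      have h1 : w * (v * (w * v * w⁻¹)) = (v * (w * v * w⁻¹)) * w := by
        calc w * (v * (w * v * w⁻¹)) = w * ((w * v * w⁻¹) * v) := by rw [h2]
          _ = (w * w) * v * w⁻¹ * v := by group
          _ = v * w⁻¹ * v := by rw [hwsq, one_mul]
          _ = v * w * v := by rw [hwinv]
          _ = v * (w * v * w⁻¹) * w := by group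
      have h3 := hcase _ hu h1
      exact eq_inv_of_mul_eq_one_right h3
    have hwNx : w ∈ normalizer ((zpowers x : Subgroup G) : Set G) :=
      inv_mem_normalizer_zpowers (hinvP x hxP)
    have hwN : w ∈ normalizer (Q : Set G) := hA2N G p a Q y c x hxC (hpelt x hxP) hx1 hwNx
    have hwQ : w ∈ Q := hINVN G p a Q y c w hwN ⟨1, by rw [hw, pow_one]⟩
    have h4 : w * x = x * w := Subgroup.mem_centralizer_iff.1 hxC w hwQ
    have h5 : w * x * w⁻¹ = x := by rw [h4, mul_inv_cancel_right]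
    have h6 : x⁻¹ = x := by rw [← hinvP x hxP, h5]
    have h7 : x * x = 1 := by
      nth_rewrite 1 [← h6]
      exact inv_mul_cancel x
    exact hx1 (pelt_sq c.hp hp3 (hpelt x hxP) h7)
  · push_neg at hcase
    obtain ⟨z, hzP, hzw, hz1⟩ := hcase
    obtain ⟨g', hg'⟩ := hINVCONJ G p a Q y c w hw
    obtain ⟨h, hh⟩ : ∃ h : G, h = g'⁻¹ := ⟨_, rfl⟩
    have hwQ' : w ∈ Q.map (MulAut.conj h).toMonoidHom := by
      rw [mem_map_conj, hh, inv_inv]; exact hg'
    have c' := hCONJ G p a Q y c h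
    have hA' := caseA_conj Q hA h
    obtain ⟨Q', hQ'⟩ : ∃ Q' : Subgroup G, Q' = Q.map (MulAut.conj h).toMonoidHom := ⟨_, rfl⟩
    rw [← hQ'] at hwQ' c' hA'
    have hcw : ∀ v : G, w * v = v * w → v ∈ centralizer (Q' : Set G) := by
      intro v hv
      have h1 : v ∈ centralizer ({w} : Set G) := by
        rw [Subgroup.mem_centralizer_iff]
        intro g hg
        rw [Set.mem_singleton_iff] at hg
        rw [hg]; exact hv
      have h2 := hA' w hwQ' hw1 h1
      exact hNCENT G p a Q' _ c' v h2 w hwQ' hw1 hv.symm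
    have hzC' := hcw z hzw
    have hPN' : ∀ v ∈ P, v ∈ normalizer (Q' : Set G) := fun v hv =>
      hA2N G p a Q' _ c' z hzC' (hpelt z hzP) hz1
        (comm_mem_normalizer_zpowers (hcomm v hv z hzP))
    have hwv : ∀ v ∈ P, w * v = v * w := by
      intro v hv
      have h1 : w * v * w⁻¹ * v⁻¹ ∈ (P : Subgroup G) :=
        (P : Subgroup G).mul_mem (hwP' v hv) ((P : Subgroup G).inv_mem hv)
      have h2 : w * v * w⁻¹ * v⁻¹ ∈ Q' := by
        have h3 : v * w⁻¹ * v⁻¹ ∈ Q' :=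
          (Subgroup.mem_normalizer_iff.1 (hPN' v hv) w⁻¹).1 (Q'.inv_mem hwQ')
        have h4 : w * v * w⁻¹ * v⁻¹ = w * (v * w⁻¹ * v⁻¹) := by group
        rw [h4]; exact Q'.mul_mem hwQ' h3
      have h5 := inter_trivial c' _ (hpelt _ h1) h2
      have h6 : w * v = (w * v * w⁻¹ * v⁻¹) * (v * w) := by group
      rw [h6, h5, one_mul]
    have hPC' : (P : Subgroup G) ≤ centralizer (Q' : Set G) := fun v hv => hcw v (hwv v hv)
    have hyC' := pelt_mem p (normalizer (Q' : Set G)) (centralizer (Q' : Set G))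
      (Subgroup.centralizer_le_normalizer _) (fun n hn x hx => conj_mem_centralizer Q' n hn x hx)
      P hPC' _ c'.hyQ c'.hy
    exact y_not_cent c' hyC'

theorem main (hA2N : A2N.{u}) (hCONJ : CONJ.{u}) (hINVN : INVN.{u}) (hINVCONJ : INVCONJ.{u})
    (hNCENT : NCENT.{u}) : A2a.{u} := by
  intro G _ _ p a Q y c hA hx P w hw hwP
  classical
  haveI : Fact p.Prime := ⟨c.hp⟩
  obtain ⟨x₀, hx₀C, hx₀p, hx₀1⟩ := hx
  -- conjugate `x₀` into `P`
  obtain ⟨k, hk⟩ := hx₀p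
  have hpg : IsPGroup p (zpowers x₀) := by
    apply IsPGroup.of_card (n := k)
    rw [Nat.card_zpowers, hk]
  obtain ⟨R, hR⟩ := hpg.exists_le_sylow
  obtain ⟨g, hg⟩ := MulAction.exists_smul_eq G R P
  have hx₀R : x₀ ∈ (R : Subgroup G) := hR (Subgroup.mem_zpowers x₀)
  have hx₁P : g * x₀ * g⁻¹ ∈ (P : Subgroup G) := by
    rw [← hg, Sylow.coe_subgroup_smul, Subgroup.mem_pointwise_smul_iff_inv_smul_mem,
      MulAut.smul_def, MulAut.conj_inv_apply]
    have h1 : g⁻¹ * (g * x₀ * g⁻¹) * g = x₀ := by group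
    rw [h1]; exact hx₀R
  have c₁ := hCONJ G p a Q y c g
  have hA₁ := caseA_conj Q hA g
  have hx₁C : g * x₀ * g⁻¹ ∈ centralizer ((Q.map (MulAut.conj g).toMonoidHom : Subgroup G) : Set G) := by
    rw [Subgroup.mem_centralizer_iff]
    intro q' hq'
    have hq : g⁻¹ * q' * g ∈ Q := (mem_map_conj Q g q').1 hq'
    have h1 := Subgroup.mem_centralizer_iff.1 hx₀C _ hq
    calc q' * (g * x₀ * g⁻¹) = g * (g⁻¹ * q' * g * x₀) * g⁻¹ := by group
      _ = g * (x₀ * (g⁻¹ * q' * g)) * g⁻¹ := by rw [h1]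
      _ = g * x₀ * g⁻¹ * q' := by group
  have hx₁1 : g * x₀ * g⁻¹ ≠ 1 := by
    intro h0
    apply hx₀1
    have h1 : x₀ = g⁻¹ * (g * x₀ * g⁻¹) * g := by group
    rw [h1, h0]; group
  exact core hA2N hCONJ hINVN hINVCONJ hNCENT G p a _ _ c₁ hA₁ P _ hx₁P hx₁C hx₁1 w hw hwP

end Cfsg.Agent.Lib.Helper60.MixA2a
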