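import Mathlib
import Cfsg.Agent.Lib.Helper68.MixStmt
import Cfsg.Agent.Lib.Helper60.MixBase

set_option autoImplicit false

/-! Piece A2b of S4017 (helper60): Case A, and no involution normalizes a Sylow `p`-subgroup:
contradiction. -/

namespace Cfsg.Agent.Lib.Helper60.MixA2b

open Subgroup Cfsg.Agent.Lib.Helper68.MixStmt Cfsg.Agent.Lib.Helper60.MixBase

universe u

theorem main (hA2N : A2N.{u}) (hCONJ : CONJ.{u}) (hINVN : INVN.{u}) (hINVCONJ : INVCONJ.{u})
    (hNCENT : NCENT.{u}) (hNTOP : NTOP.{u}) (hEXP : EXP.{u}) (hSIMPLE : SIMPLE.{u}) :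
    A2b.{u} := by
  intro G _ _ p a Q y c hA hno
  classical
  haveI : Fact p.Prime := ⟨c.hp⟩
  have hp3 : 3 ≤ p := p_ge_three c
  haveI hsimple : IsSimpleGroup G := hSIMPLE G p a Q y c
  have hinvol : ∀ s ∈ Q, s ≠ 1 → orderOf s = 2 := by
    intro s hs hs1
    exact orderOf_eq_prime (by rw [pow_two]; exact hEXP G p a Q y c s hs) hs1
  -- an involution outside `N`
  obtain ⟨u, hu2, huN⟩ : ∃ u : G, orderOf u = 2 ∧ u ∉ normalizer (Q : Set G) := by
    by_contra hcon
    push_neg at hcon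
    apply hNTOP G p a Q y c
    rw [eq_top_iff]
    intro g _
    apply mem_normalizer_of_forall
    intro q hq
    by_cases hq1 : q = 1
    · rw [hq1]; simp
    · have h1 : orderOf (g * q * g⁻¹) = 2 := by
        apply orderOf_eq_prime
        · rw [pow_two]
          have h2 := hEXP G p a Q y c q hq
          calc g * q * g⁻¹ * (g * q * g⁻¹) = g * (q * q) * g⁻¹ := by group
            _ = 1 := by rw [h2]; group
        · intro h0
          apply hq1
          have h3 : q = g⁻¹ * (g * q * g⁻¹) * g := by group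
          rw [h3, h0]; group
      exact hINVN G p a Q y c _ (hcon _ h1) ⟨1, by rw [h1, pow_one]⟩
  -- `t ∈ Q#`
  have hcard : 4 ≤ Nat.card Q := by
    rw [c.hQ]
    calc 4 = 2 ^ 2 := by norm_num
      _ ≤ 2 ^ a := Nat.pow_le_pow_right (by norm_num) c.ha
  have hne : Nontrivial Q := by
    rw [← Finite.one_lt_card_iff_nontrivial]; omega
  obtain ⟨⟨t, ht⟩, ht1⟩ := exists_ne (1 : Q)
  have ht1' : t ≠ 1 := fun h => ht1 (Subtype.ext h)
  have ht2 : orderOf t = 2 := hinvol t ht ht1'
  have htsq : t * t = 1 := hEXP G p a Q y c t ht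
  have husq : u * u = 1 := by rw [← pow_two, ← hu2]; exact pow_orderOf_eq_one u
  have htinv : t⁻¹ = t := inv_eq_of_mul_eq_one_left htsq
  have huinv : u⁻¹ = u := inv_eq_of_mul_eq_one_left husq
  obtain ⟨k, hk⟩ : ∃ k : G, k = t * u := ⟨_, rfl⟩
  have htk : t * k * t⁻¹ = k⁻¹ := by
    calc t * k * t⁻¹ = (t * t) * u * t⁻¹ := by rw [hk]; group
      _ = u⁻¹ * t⁻¹ := by rw [htsq, one_mul, huinv]
      _ = k⁻¹ := by rw [hk, mul_inv_rev]
  have huk : u * k * u⁻¹ = k⁻¹ := by
    calc u * k * u⁻¹ = u * t := by rw [hk]; group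
      _ = u⁻¹ * t⁻¹ := by rw [huinv, htinv]
      _ = k⁻¹ := by rw [hk, mul_inv_rev]
  have hk1 : k ≠ 1 := by
    intro h0
    rw [hk] at h0
    have h1 : u = t := by rw [← htinv]; exact eq_inv_of_mul_eq_one_right h0
    exact huN (h1 ▸ (Subgroup.le_normalizer ht))
  have hkpos : 0 < orderOf k := orderOf_pos k
  -- the order of `k` is odd
  have hodd : ¬ Even (orderOf k) := by
    rintro ⟨m', hm'⟩
    have hm'pos : 0 < m' := by omega
    obtain ⟨i, hi⟩ : ∃ i : G, i = k ^ m' := ⟨_, rfl⟩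
    have hisq : i * i = 1 := by rw [hi, ← pow_add, ← hm', pow_orderOf_eq_one]
    have hi1 : i ≠ 1 := by
      intro h0
      rw [hi] at h0
      have h1 := orderOf_dvd_of_pow_eq_one h0
      have h2 := Nat.le_of_dvd hm'pos h1
      omega
    have hi2 : orderOf i = 2 := orderOf_eq_prime (by rw [pow_two]; exact hisq) hi1
    have hiinv : i⁻¹ = i := inv_eq_of_mul_eq_one_left hisq
    have hti : t * i * t⁻¹ = i := by
      rw [hi, ← conj_pow, htk, inv_pow, ← hi, hiinv]
    have hui : u * i * u⁻¹ = i := by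
      rw [hi, ← conj_pow, huk, inv_pow, ← hi, hiinv]
    have hiN : i ∈ normalizer (Q : Set G) := by
      apply hA t ht ht1'
      rw [Subgroup.mem_centralizer_iff]
      intro g hg
      rw [Set.mem_singleton_iff] at hg
      rw [hg]
      calc t * i = t * i * t⁻¹ * t := by group
        _ = i * t := by rw [hti]
    have hiQ : i ∈ Q := hINVN G p a Q y c i hiN ⟨1, by rw [hi2, pow_one]⟩
    apply huN
    apply hA i hiQ hi1
    rw [Subgroup.mem_centralizer_iff]
    intro g hg
    rw [Set.mem_singleton_iff] at hg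
    rw [hg]
    calc i * u = u * i * u⁻¹ * u := by rw [hui]
      _ = u * i := by group
  -- every prime divisor of the order of `k` is `p`
  have hprime : ∀ r : ℕ, r.Prime → r ∣ orderOf k → r = p := by
    intro r hr hrk
    have hr2 : r ≠ 2 := by
      rintro rfl
      exact hodd (even_iff_two_dvd.2 hrk)
    obtain ⟨k₁, hk₁⟩ : ∃ k₁ : G, k₁ = k ^ (orderOf k / r) := ⟨_, rfl⟩
    have hk₁o : orderOf k₁ = r := by rw [hk₁]; exact orderOf_pow_orderOf_div hkpos.ne' hrk
    have hk₁1 : k₁ ≠ 1 := by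
      intro h0
      rw [h0, orderOf_one] at hk₁o
      exact (ne_of_lt hr.one_lt) hk₁o
    have htk₁ : t * k₁ * t⁻¹ = k₁⁻¹ := by rw [hk₁, ← conj_pow, htk, inv_pow]
    obtain ⟨X, hX⟩ : ∃ X : Subgroup G,
        X = normalizer ((zpowers k₁ : Subgroup G) : Set G) := ⟨_, rfl⟩
    have htX : t ∈ X := by rw [hX]; exact inv_mem_normalizer_zpowers htk₁
    have hk₁X : k₁ ∈ X := by rw [hX]; exact Subgroup.le_normalizer (Subgroup.mem_zpowers k₁)
    have hXtop : X ≠ ⊤ := by
      intro htop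
      rw [hX, Subgroup.normalizer_eq_top_iff] at htop
      rcases htop.eq_bot_or_eq_top with h0 | h0
      · exact hk₁1 (Subgroup.zpowers_eq_bot.1 h0)
      · have h1 : Nat.card G = r := by
          rw [← hk₁o, ← Nat.card_zpowers, h0, Subgroup.card_top]
        have h2 : 2 ∣ Nat.card G := by rw [← ht2]; exact orderOf_dvd_natCard t
        rw [h1] at h2
        exact hr2 ((Nat.prime_dvd_prime_iff_eq Nat.prime_two hr).1 h2).symm
    have h2X : 2 ∣ Nat.card X := by rw [← ht2]; exact Subgroup.orderOf_dvd_natCard X htX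
    have hrX : r ∣ Nat.card X := by rw [← hk₁o]; exact Subgroup.orderOf_dvd_natCard X hk₁X
    rcases c.hE X hXtop h2X r hr hrX with h | h
    · exact h
    · exact absurd h hr2
  have hkp : IsPElt p k :=
    ⟨_, Nat.eq_prime_pow_of_unique_prime_dvd hkpos.ne' (fun {d} hd hdk => hprime d hd hdk)⟩
  have hpgk : IsPGroup p (zpowers k) := by
    obtain ⟨j, hj⟩ := hkp
    apply IsPGroup.of_card (n := j)
    rw [Nat.card_zpowers, hj]
  -- no involution centralizes `k`
  have hnoinv : ∀ w : G, orderOf w = 2 → w * k = k * w → False := by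
    intro w hw hwk
    have hw1 : w ≠ 1 := by
      rintro rfl
      rw [orderOf_one] at hw
      omega
    obtain ⟨g', hg'⟩ := hINVCONJ G p a Q y c w hw
    obtain ⟨h, hh⟩ : ∃ h : G, h = g'⁻¹ := ⟨_, rfl⟩
    have hwQ' : w ∈ Q.map (MulAut.conj h).toMonoidHom := by
      rw [mem_map_conj, hh, inv_inv]; exact hg'
    have c' := hCONJ G p a Q y c h
    have hA' := caseA_conj Q hA h
    obtain ⟨Q', hQ'⟩ : ∃ Q' : Subgroup G, Q' = Q.map (MulAut.conj h).toMonoidHom := ⟨_, rfl⟩
    rw [← hQ'] at hwQ' c' hA'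
    have hkC' : k ∈ centralizer (Q' : Set G) := by
      have h1 : k ∈ centralizer ({w} : Set G) := by
        rw [Subgroup.mem_centralizer_iff]
        intro g hg
        rw [Set.mem_singleton_iff] at hg
        rw [hg]; exact hwk
      exact hNCENT G p a Q' _ c' k (hA' w hwQ' hw1 h1) w hwQ' hw1 hwk.symm
    have huN' : u ∈ normalizer (Q' : Set G) :=
      hA2N G p a Q' _ c' k hkC' hkp hk1 (inv_mem_normalizer_zpowers huk)
    have huQ' : u ∈ Q' := hINVN G p a Q' _ c' u huN' ⟨1, by rw [hu2, pow_one]⟩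
    have h4 : u * k = k * u := Subgroup.mem_centralizer_iff.1 hkC' u huQ'
    have h5 : u * k * u⁻¹ = k := by rw [h4, mul_inv_cancel_right]
    have h6 : k⁻¹ = k := by rw [← huk, h5]
    have h7 : k * k = 1 := by
      nth_rewrite 1 [← h6]
      exact inv_mul_cancel k
    exact hk1 (pelt_sq c.hp hp3 hkp h7)
  -- `C_G(k)` is a `p`-group
  obtain ⟨X, hX⟩ : ∃ X : Subgroup G, X = normalizer ((zpowers k : Subgroup G) : Set G) :=
    ⟨_, rfl⟩
  have htX : t ∈ X := by rw [hX]; exact inv_mem_normalizer_zpowers htk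
  have hXtop : X ≠ ⊤ := by
    intro htop
    rw [hX, Subgroup.normalizer_eq_top_iff] at htop
    have h0 := c.hOp (zpowers k) htop hpgk
    exact hk1 (Subgroup.zpowers_eq_bot.1 h0)
  have h2X : 2 ∣ Nat.card X := by rw [← ht2]; exact Subgroup.orderOf_dvd_natCard X htX
  have hXpq := c.hE X hXtop h2X
  obtain ⟨Ck, hCk⟩ : ∃ Ck : Subgroup G, Ck = centralizer ({k} : Set G) := ⟨_, rfl⟩
  have hCkX : Ck ≤ X := by
    rw [hCk, hX]
    intro z hz
    apply comm_mem_normalizer_zpowers
    exact (Subgroup.mem_centralizer_iff.1 hz k (Set.mem_singleton k)).symm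
  have hCkp : IsPGroup p Ck := by
    have hcardC : Nat.card Ck = p ^ (Nat.card Ck).primeFactorsList.length := by
      apply Nat.eq_prime_pow_of_unique_prime_dvd Nat.card_pos.ne'
      intro d hd hdC
      rcases hXpq d hd (dvd_trans hdC (Subgroup.card_dvd_of_le hCkX)) with h | h
      · exact h
      · exfalso
        rw [h] at hdC
        obtain ⟨w, hw⟩ := exists_prime_orderOf_dvd_card' (G := ↥Ck) 2 hdC
        have hw' : orderOf (w : G) = 2 := by rw [Subgroup.orderOf_coe]; exact hw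
        have hwk : (w : G) * k = k * (w : G) := by
          have h0 : ∀ z ∈ Ck, z ∈ centralizer ({k} : Set G) := fun z hz => by
            rw [hCk] at hz; exact hz
          have h1 := h0 _ w.2
          exact (Subgroup.mem_centralizer_iff.1 h1 k (Set.mem_singleton k)).symm
        exact hnoinv _ hw' hwk
    exact IsPGroup.of_card hcardC
  obtain ⟨P', hP'⟩ := hpgk.exists_le_sylow
  have hkP' : k ∈ (P' : Subgroup G) := hP' (Subgroup.mem_zpowers k)
  have hP'C : (P' : Subgroup G) ≤ Ck := by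
    intro v hv
    rw [hCk, Subgroup.mem_centralizer_iff]
    intro g hg
    rw [Set.mem_singleton_iff] at hg
    rw [hg]
    exact sylow_comm c P' k hkP' v hv
  have hCeq : Ck = (P' : Subgroup G) := P'.is_maximal' hCkp hP'C
  apply hno P' u hu2
  apply mem_normalizer_of_forall
  intro v hv
  rw [← hCeq, hCk, Subgroup.mem_centralizer_iff]
  intro g hg
  rw [Set.mem_singleton_iff] at hg
  rw [hg]
  have hvk : v * k = k * v := sylow_comm c P' v hv k hkP'
  have hvk' : k⁻¹ * v = v * k⁻¹ := (Commute.inv_left (show Commute k v from hvk.symm)).eq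
  have h1 : u⁻¹ * k * u = k⁻¹ := by
    have h := huk
    rw [huinv] at h ⊢
    exact h
  calc k * (u * v * u⁻¹) = u * ((u⁻¹ * k * u) * v) * u⁻¹ := by group
    _ = u * (k⁻¹ * v) * u⁻¹ := by rw [h1]
    _ = u * (v * k⁻¹) * u⁻¹ := by rw [hvk']
    _ = u * v * u⁻¹ * (u * k * u⁻¹)⁻¹ := by group
    _ = u * v * u⁻¹ * k := by rw [huk, inv_inv]

end Cfsg.Agent.Lib.Helper60.MixA2b
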