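import Mathlib
import Cfsg.Agent.Lib.Helper68.MixStmt
import Cfsg.Agent.Lib.Helper60.MixBase

set_option autoImplicit false

/-! Piece BSTAR of S4017 (helper60): a nontrivial `p`-element commuting with an involution lies
in a unique Sylow `p`-subgroup (when `C` has no nontrivial `p`-element). -/

namespace Cfsg.Agent.Lib.Helper60.MixBSTAR

open Subgroup Cfsg.Agent.Lib.Helper68.MixStmt Cfsg.Agent.Lib.Helper60.MixBase

universe u

/-- `p`-elements of `X` lie in a subgroup `V ≤ X`, normal in `X`, of index prime to `p`. -/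
theorem pelt_mem_of_index {G : Type u} [Group G] [Finite G] (p : ℕ) (hp : p.Prime)
    (X V : Subgroup G) (hVX : V ≤ X) (hnorm : ∀ g ∈ X, ∀ v ∈ V, g * v * g⁻¹ ∈ V) (m : ℕ)
    (hcard : Nat.card X = m * Nat.card V) (hcop : Nat.Coprime p m) (w : G) (hwX : w ∈ X)
    (hw : IsPElt p w) : w ∈ V := by
  classical
  haveI hVn : (V.subgroupOf X).Normal := by
    constructor
    intro n hn g
    rw [Subgroup.mem_subgroupOf] at hn ⊢
    have h1 := hnorm g g.2 n hn
    simpa using h1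
  obtain ⟨k, hk⟩ := hw
  have hidx : (V.subgroupOf X).index = m := by
    have h1 := Subgroup.card_mul_index (V.subgroupOf X)
    have h2 : Nat.card ↥(V.subgroupOf X) = Nat.card ↥V :=
      Nat.card_congr (Subgroup.subgroupOfEquivOfLe hVX).toEquiv
    rw [h2, hcard, mul_comm] at h1
    exact Nat.eq_of_mul_eq_mul_right Nat.card_pos h1
  have h3 : orderOf (QuotientGroup.mk' (V.subgroupOf X) ⟨w, hwX⟩) ∣ p ^ k := by
    have h4 := orderOf_map_dvd (QuotientGroup.mk' (V.subgroupOf X)) (⟨w, hwX⟩ : ↥X)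
    rw [Subgroup.orderOf_mk, hk] at h4
    exact h4
  have h5 : orderOf (QuotientGroup.mk' (V.subgroupOf X) ⟨w, hwX⟩) ∣ m := by
    rw [← hidx, Subgroup.index_eq_card]
    exact orderOf_dvd_natCard _
  have h6 : orderOf (QuotientGroup.mk' (V.subgroupOf X) ⟨w, hwX⟩) = 1 :=
    Nat.eq_one_of_dvd_coprimes (Nat.Coprime.pow_left k hcop) h3 h5
  rw [orderOf_eq_one_iff, QuotientGroup.mk'_apply, QuotientGroup.eq_one_iff,
    Subgroup.mem_subgroupOf] at h6
  exact h6

theorem main (hFIT : FIT.{u}) (hLEMM : LEMM.{u}) (hNCENT : NCENT.{u}) (hINVN : INVN.{u})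
    (hCONJ : CONJ.{u}) (hSIMPLE : SIMPLE.{u}) (hEXP : EXP.{u}) : BSTAR.{u} := by
  intro G _ _ p a Q y c hnoP W₁ W₂ e s he₁ he₂ he1 hs2 hes
  classical
  haveI : Fact p.Prime := ⟨c.hp⟩
  have hp3 : 3 ≤ p := p_ge_three c
  have hp2 : p ≠ 2 := by omega
  haveI hsimple : IsSimpleGroup G := hSIMPLE G p a Q y c
  have hs1 : s ≠ 1 := by
    rintro rfl
    rw [orderOf_one] at hs2
    omega
  obtain ⟨M, hM⟩ : ∃ M : Subgroup G, M = centralizer ({e} : Set G) := ⟨_, rfl⟩
  have hmemM : ∀ z : G, z ∈ M ↔ z * e = e * z := by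
    intro z
    rw [hM, Subgroup.mem_centralizer_iff]
    constructor
    · intro h; exact (h e (Set.mem_singleton e)).symm
    · intro h g hg
      rw [Set.mem_singleton_iff] at hg
      rw [hg]; exact h.symm
  have hWM : ∀ W : Sylow p G, e ∈ W → (W : Subgroup G) ≤ M := by
    intro W heW v hv
    rw [hmemM]
    exact sylow_comm c W v hv e heW
  have hsM : s ∈ M := by rw [hmemM]; exact hes.symm
  have heM : e ∈ M := by rw [hmemM]
  have hep : IsPElt p e := sylow_pelt W₁ e he₁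
  have hMtop : M ≠ ⊤ := by
    intro htop
    have hnorm : (zpowers e).Normal := by
      rw [← Subgroup.normalizer_eq_top_iff, eq_top_iff]
      intro g _
      apply comm_mem_normalizer_zpowers
      have h1 : g ∈ M := by rw [htop]; exact Subgroup.mem_top g
      exact (hmemM g).1 h1
    have hpg : IsPGroup p (zpowers e) := by
      obtain ⟨j, hj⟩ := hep
      apply IsPGroup.of_card (n := j)
      rw [Nat.card_zpowers, hj]
    exact he1 (Subgroup.zpowers_eq_bot.1 (c.hOp _ hnorm hpg))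
  have h2M : 2 ∣ Nat.card M := by rw [← hs2]; exact Subgroup.orderOf_dvd_natCard M hsM
  have hMpq : PQNum p 2 (Nat.card M) := c.hE M hMtop h2M
  have hpG2 : ¬ IsPGroup 2 (⊤ : Subgroup G) := by
    intro h
    obtain ⟨n, hn⟩ := IsPGroup.iff_card.1 h
    rw [Subgroup.card_top] at hn
    have h1 := c.hpG
    rw [hn] at h1
    have h3 := (Nat.prime_dvd_prime_iff_eq c.hp Nat.prime_two).1 (c.hp.dvd_of_dvd_pow h1)
    exact hp2 h3
  -- Step 1: a Sylow `p`-subgroup through `e` centralizes every `M`-invariant 2-subgroup of `M`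
  have hstep : ∀ W : Sylow p G, e ∈ W → ∀ O : Subgroup G, O ≤ M →
      (∀ m ∈ M, ∀ o ∈ O, m * o * m⁻¹ ∈ O) → IsPGroup 2 O →
      ∀ w ∈ W, ∀ o ∈ O, w * o = o * w := by
    intro W heW O hOM hOnorm hO2 w₀ hw₀ o₀ ho₀
    by_contra hne
    have ho₀1 : o₀ ≠ 1 := by
      rintro rfl
      exact hne (by rw [mul_one, one_mul])
    -- `O ≤ Q^h`
    obtain ⟨S, hS⟩ := hO2.exists_le_sylow
    obtain ⟨g, hg⟩ := MulAction.exists_smul_eq G
      (Sylow.ofCard Q (by rw [c.hQ, c.hfac]) : Sylow 2 G) S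
    have hOQ' : O ≤ Q.map (MulAut.conj g).toMonoidHom := by
      intro o ho
      have h1 : o ∈ (S : Subgroup G) := hS ho
      rw [← hg, Sylow.coe_subgroup_smul, Subgroup.mem_pointwise_smul_iff_inv_smul_mem,
        MulAut.smul_def, MulAut.conj_inv_apply, Sylow.coe_ofCard] at h1
      exact (mem_map_conj Q g o).2 h1
    have c' := hCONJ G p a Q y c g
    obtain ⟨Q', hQ'⟩ : ∃ Q' : Subgroup G, Q' = Q.map (MulAut.conj g).toMonoidHom := ⟨_, rfl⟩
    rw [← hQ'] at hOQ' c'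
    have hQ'comm : ∀ q₁ ∈ Q', ∀ q₂ ∈ Q', q₁ * q₂ = q₂ * q₁ := by
      intro q₁ h₁ q₂ h₂
      have e1 := hEXP G p a Q' _ c' q₁ h₁
      have e2 := hEXP G p a Q' _ c' q₂ h₂
      have e3 := hEXP G p a Q' _ c' (q₁ * q₂) (Q'.mul_mem h₁ h₂)
      have i1 : q₁⁻¹ = q₁ := inv_eq_of_mul_eq_one_left e1
      have i2 : q₂⁻¹ = q₂ := inv_eq_of_mul_eq_one_left e2
      have i3 : (q₁ * q₂)⁻¹ = q₁ * q₂ := inv_eq_of_mul_eq_one_left e3
      rw [mul_inv_rev, i1, i2] at i3
      exact i3.symm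
    obtain ⟨X, hX⟩ : ∃ X : Subgroup G, X = normalizer (O : Set G) := ⟨_, rfl⟩
    have hMX : M ≤ X := by
      intro m hm
      rw [hX]
      exact mem_normalizer_of_forall O m (hOnorm m hm)
    have hQ'X : Q' ≤ X := by
      intro q hq
      rw [hX]
      apply mem_normalizer_of_forall
      intro o ho
      rw [hQ'comm q hq o (hOQ' ho), mul_inv_cancel_right]
      exact ho
    have hOX : O ≤ X := by rw [hX]; exact Subgroup.le_normalizer
    have hXtop : X ≠ ⊤ := by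
      intro htop
      rw [hX, Subgroup.normalizer_eq_top_iff] at htop
      rcases htop.eq_bot_or_eq_top with h0 | h0
      · rw [h0, Subgroup.mem_bot] at ho₀
        exact ho₀1 ho₀
      · rw [h0] at hO2
        exact hpG2 hO2
    have hw₀X : w₀ ∈ X := hMX (hWM W heW hw₀)
    rcases hLEMM G p a Q' _ c' X hXtop hQ'X with hXN | ⟨V, hVX, hVp, hVnorm, hcardX⟩
    · -- `X ≤ N^h`
      have heN' : e ∈ normalizer (Q' : Set G) := hXN (hMX heM)
      have hsN' : s ∈ normalizer (Q' : Set G) := hXN (hMX hsM)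
      have hsQ' : s ∈ Q' := hINVN G p a Q' _ c' s hsN' ⟨1, by rw [hs2, pow_one]⟩
      have heC' : e ∈ centralizer (Q' : Set G) := hNCENT G p a Q' _ c' e heN' s hsQ' hs1 hes
      -- back to `Q`
      have h1 : g⁻¹ * e * g ∈ centralizer (Q : Set G) := by
        rw [Subgroup.mem_centralizer_iff]
        intro q hq
        have hq' : g * q * g⁻¹ ∈ Q' := by
          rw [hQ', mem_map_conj]
          have h2 : g⁻¹ * (g * q * g⁻¹) * g = q := by group
          rw [h2]; exact hq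
        have h3 := Subgroup.mem_centralizer_iff.1 heC' _ hq'
        calc q * (g⁻¹ * e * g) = g⁻¹ * (g * q * g⁻¹ * e) * g := by group
          _ = g⁻¹ * (e * (g * q * g⁻¹)) * g := by rw [h3]
          _ = g⁻¹ * e * g * q := by group
      have h4 : IsPElt p (g⁻¹ * e * g) := by
        obtain ⟨j, hj⟩ := hep
        refine ⟨j, ?_⟩
        have h5 := MulEquiv.orderOf_eq (MulAut.conj g⁻¹) e
        rw [MulAut.conj_apply, inv_inv] at h5
        rw [h5, hj]
      have h6 := hnoP _ h1 h4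
      apply he1
      have h7 : e = g * (g⁻¹ * e * g) * g⁻¹ := by group
      rw [h7, h6]; group
    · -- normal `p`-complement case
      have hcop : Nat.Coprime p (2 ^ a) :=
        Nat.Coprime.pow_right a ((Nat.coprime_primes c.hp Nat.prime_two).2 hp2)
      have hw₀V : w₀ ∈ V :=
        pelt_mem_of_index p c.hp X V hVX hVnorm (2 ^ a) hcardX hcop w₀ hw₀X (sylow_pelt W w₀ hw₀)
      have h1 : w₀ * o₀ * w₀⁻¹ * o₀⁻¹ ∈ O := by
        have h2 : w₀ * o₀ * w₀⁻¹ ∈ O := by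
          rw [hX] at hw₀X
          exact (Subgroup.mem_normalizer_iff.1 hw₀X o₀).1 ho₀
        exact O.mul_mem h2 (O.inv_mem ho₀)
      have h3 : w₀ * o₀ * w₀⁻¹ * o₀⁻¹ ∈ V := by
        have h4 : o₀ * w₀⁻¹ * o₀⁻¹ ∈ V := hVnorm o₀ (hOX ho₀) w₀⁻¹ (V.inv_mem hw₀V)
        have h5 : w₀ * o₀ * w₀⁻¹ * o₀⁻¹ = w₀ * (o₀ * w₀⁻¹ * o₀⁻¹) := by group
        rw [h5]; exact V.mul_mem hw₀V h4
      have hdisj := IsPGroup.disjoint_of_ne p 2 hp2 V O hVp hO2
      have h6 := Subgroup.disjoint_def.1 hdisj h3 h1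
      apply hne
      have h7 : w₀ * o₀ = (w₀ * o₀ * w₀⁻¹ * o₀⁻¹) * (o₀ * w₀) := by group
      rw [h7, h6, one_mul]
  -- Step 2: FIT inside `M`
  have hnormal : ∀ (W : Sylow p G) (heW : e ∈ W),
      ((W.subtype (hWM W heW) : Sylow p ↥M) : Subgroup ↥M).Normal := by
    intro W heW
    have key : ∀ m : ↥M, m ∈ ((W.subtype (hWM W heW) : Sylow p ↥M) : Subgroup ↥M) →
        (m : G) ∈ (W : Subgroup G) := by
      intro m hm
      rw [Sylow.coe_subtype, Subgroup.mem_subgroupOf] at hm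
      exact hm
    apply hFIT ↥M p (W.subtype (hWM W heW)) c.hp hp2 hMpq
    · refine ⟨⟨fun x z => ?_⟩⟩
      have hx : ((x : ↥M) : G) ∈ (W : Subgroup G) := key x x.2
      have hz : ((z : ↥M) : G) ∈ (W : Subgroup G) := key z z.2
      apply Subtype.ext
      apply Subtype.ext
      exact sylow_comm c W _ hx _ hz
    · intro O' hO'n hO'2 w hw o ho
      have hw' : (w : G) ∈ (W : Subgroup G) := key w hw
      have ho' : (o : G) ∈ O'.map M.subtype := Subgroup.mem_map_of_mem M.subtype ho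
      have hOM : O'.map M.subtype ≤ M := by
        rintro _ ⟨o₁, -, rfl⟩
        exact o₁.2
      have hOn : ∀ m ∈ M, ∀ o₂ ∈ O'.map M.subtype, m * o₂ * m⁻¹ ∈ O'.map M.subtype := by
        rintro m hm _ ⟨o₁, ho₁, rfl⟩
        exact ⟨⟨m, hm⟩ * o₁ * ⟨m, hm⟩⁻¹, hO'n.conj_mem o₁ ho₁ ⟨m, hm⟩, rfl⟩
      have h1 := hstep W heW (O'.map M.subtype) hOM hOn (hO'2.map M.subtype) w hw' o ho'
      exact Subtype.ext h1
  haveI hn₁ := hnormal W₁ he₁
  haveI hn₂ := hnormal W₂ he₂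
  obtain ⟨g, hg⟩ := MulAction.exists_smul_eq ↥M (W₁.subtype (hWM W₁ he₁)) (W₂.subtype (hWM W₂ he₂))
  rw [Sylow.smul_eq_of_normal] at hg
  have hsub : (W₁ : Subgroup G).subgroupOf M = (W₂ : Subgroup G).subgroupOf M := by
    have h1 := congrArg (fun P : Sylow p ↥M => (P : Subgroup ↥M)) hg
    simp only [Sylow.coe_subtype] at h1
    exact h1
  apply Sylow.ext
  apply le_antisymm
  · intro z hz
    have h1 : (⟨z, hWM W₁ he₁ hz⟩ : ↥M) ∈ (W₁ : Subgroup G).subgroupOf M := by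
      rw [Subgroup.mem_subgroupOf]; exact hz
    rw [hsub, Subgroup.mem_subgroupOf] at h1
    exact h1
  · intro z hz
    have h1 : (⟨z, hWM W₂ he₂ hz⟩ : ↥M) ∈ (W₂ : Subgroup G).subgroupOf M := by
      rw [Subgroup.mem_subgroupOf]; exact hz
    rw [← hsub, Subgroup.mem_subgroupOf] at h1
    exact h1

end Cfsg.Agent.Lib.Helper60.MixBSTAR
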