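import Mathlib
import Cfsg.Agent.Lib.Helper1.PDStmt

/-!
# S4020 / ODDCASE: a normal subgroup of odd order meeting a Sylow subgroup `P` of order `p ^ 3`
and exponent `p` forces `P` abelian (from `EvenCore`, via the Frattini argument).
-/

set_option autoImplicit false

universe u

namespace Cfsg.Agent.Lib.Helper60.PDODDCASE

open Cfsg.Agent.Lib.Helper1.PDStmt

theorem main (hE : EvenCore.{u}) : OddCase.{u} := by
  intro G _ _ hD N _ hodd p _ P hcard hexp hPN
  by_contra hcon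
  push Not at hcon
  obtain ⟨x₀, hx₀, b, hb, hx₀b⟩ := hcon
  have hp : p.Prime := Fact.out
  have hord : ∀ x ∈ (P : Subgroup G), x ≠ 1 → Nat.card ↥(Subgroup.zpowers x) = p := by
    intro x hx hx1
    rw [Nat.card_zpowers]
    exact orderOf_eq_prime (hexp x hx) hx1
  have hpg : ∀ x ∈ (P : Subgroup G), IsPGroup p ↥(Subgroup.zpowers x) := fun x hx =>
    P.isPGroup'.to_le (Subgroup.zpowers_le.mpr hx)
  obtain ⟨n₀, hn₀, hn₀1⟩ : ∃ x ∈ (P : Subgroup G) ⊓ N, x ≠ 1 := by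
    by_contra h
    push Not at h
    exact hPN ((Subgroup.eq_bot_iff_forall _).mpr h)
  have hn₀P : n₀ ∈ (P : Subgroup G) := hn₀.1
  have hn₀N : n₀ ∈ N := hn₀.2
  have hPleN : (P : Subgroup G) ≤ N := by
    intro x hx
    by_cases hx1 : x = 1
    · rw [hx1]; exact N.one_mem
    obtain ⟨g, hg⟩ := hD p hp (Subgroup.zpowers n₀) (Subgroup.zpowers x) (hpg n₀ hn₀P) (hpg x hx)
      ((hord n₀ hn₀P hn₀1).trans (hord x hx hx1).symm)
    have hxm : x ∈ (Subgroup.zpowers n₀).map (MulAut.conj g).toMonoidHom := by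
      rw [← hg]; exact Subgroup.mem_zpowers x
    obtain ⟨y, hy, hyx⟩ := Subgroup.mem_map.mp hxm
    have hyN : y ∈ N := (Subgroup.zpowers_le.mpr hn₀N) hy
    rw [← hyx]
    simp only [MulEquiv.coe_toMonoidHom, MulAut.conj_apply]
    exact ‹N.Normal›.conj_mem y hyN g
  have hp2 : p ≠ 2 := by
    intro h2
    have hdvd : p ∣ Nat.card ↥N := by
      rw [← hord n₀ hn₀P hn₀1]
      exact Subgroup.card_dvd_of_le (Subgroup.zpowers_le.mpr hn₀N)
    rw [h2] at hdvd
    exact (Nat.not_even_iff_odd.mpr hodd) (even_iff_two_dvd.mpr hdvd)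
  haveI : Nontrivial ↥(P : Subgroup G) := by
    rw [← Finite.one_lt_card_iff_nontrivial, hcard]
    exact Nat.one_lt_pow (by norm_num) hp.one_lt
  haveI := P.isPGroup'.center_nontrivial
  obtain ⟨zc, hzc⟩ := exists_ne (1 : Subgroup.center ↥(P : Subgroup G))
  obtain ⟨z, hzP, hz1, hzcent⟩ : ∃ z ∈ (P : Subgroup G), z ≠ 1 ∧
      ∀ x ∈ (P : Subgroup G), x * z = z * x := by
    refine ⟨((zc : ↥(P : Subgroup G)) : G), (zc : ↥(P : Subgroup G)).2, ?_, ?_⟩
    · intro h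
      apply hzc
      apply Subtype.ext
      apply Subtype.ext
      exact h
    · intro x hx
      have := Subgroup.mem_center_iff.mp zc.2 ⟨x, hx⟩
      exact congrArg Subtype.val this
  have hb1 : b ≠ 1 := by
    rintro rfl
    exact hx₀b (by simp)
  obtain ⟨g, hg⟩ := hD p hp (Subgroup.zpowers z) (Subgroup.zpowers b) (hpg z hzP) (hpg b hb)
      ((hord z hzP hz1).trans (hord b hb hb1).symm)
  have hfr := Sylow.normalizer_sup_eq_top' P hPleN
  rw [sup_comm] at hfr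
  have hgmem : g ∈ ((N ⊔ Subgroup.normalizer ((P : Subgroup G) : Set G) : Subgroup G) : Set G) := by
    have h : (N ⊔ Subgroup.normalizer ((P : Subgroup G) : Set G) : Subgroup G) = ⊤ := hfr
    rw [h]; exact Subgroup.mem_top g
  rw [Subgroup.normal_mul] at hgmem
  obtain ⟨n', hn', m, hm, rfl⟩ := Set.mem_mul.mp hgmem
  have hm' : ∀ h, h ∈ (P : Subgroup G) ↔ m * h * m⁻¹ ∈ (P : Subgroup G) :=
    Subgroup.mem_normalizer_iff.mp hm
  have hz'P : m * z * m⁻¹ ∈ (P : Subgroup G) := (hm' z).mp hzP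
  have hz'1 : m * z * m⁻¹ ≠ 1 := by
    intro h
    exact hz1 (conj_eq_one_iff.mp h)
  have hz'cent : ∀ x ∈ (P : Subgroup G), x * (m * z * m⁻¹) = (m * z * m⁻¹) * x := by
    intro x hx
    have hx' : m⁻¹ * x * m ∈ (P : Subgroup G) := by
      rw [hm' (m⁻¹ * x * m)]
      have : m * (m⁻¹ * x * m) * m⁻¹ = x := by group
      rw [this]; exact hx
    have h := hzcent _ hx'
    calc x * (m * z * m⁻¹) = m * ((m⁻¹ * x * m) * z) * m⁻¹ := by group
      _ = m * (z * (m⁻¹ * x * m)) * m⁻¹ := by rw [h]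
      _ = (m * z * m⁻¹) * x := by group
  have hbz : Subgroup.zpowers b = Subgroup.zpowers (n' * (m * z * m⁻¹) * n'⁻¹) := by
    rw [hg, MonoidHom.map_zpowers]
    congr 1
    simp only [MulEquiv.coe_toMonoidHom, MulAut.conj_apply]
    group
  have hmemP₁ : ∀ x : ↥N, x ∈ ((P.subtype hPleN : Sylow p ↥N) : Subgroup ↥N)
      ↔ (x : G) ∈ (P : Subgroup G) := by
    intro x
    rw [Sylow.coe_subtype]
    exact Subgroup.mem_subgroupOf
  have hcard₁ : Nat.card ↥((P.subtype hPleN : Sylow p ↥N) : Subgroup ↥N) = p ^ 3 := by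
    rw [← hcard, Sylow.coe_subtype]
    exact Nat.card_congr (Subgroup.subgroupOfEquivOfLe hPleN).toEquiv
  obtain ⟨q, hq⟩ := hE ↥N p hp2 (P.subtype hPleN) hcard₁
    (fun x hx => Subtype.ext (by simpa using hexp _ ((hmemP₁ x).mp hx)))
    ⟨m * z * m⁻¹, hPleN hz'P⟩ ((hmemP₁ _).mpr hz'P)
    (fun h => hz'1 (congrArg Subtype.val h))
    (fun x hx => Subtype.ext (hz'cent _ ((hmemP₁ x).mp hx)))
    ⟨b, hPleN hb⟩ ((hmemP₁ _).mpr hb)
    ⟨⟨x₀, hPleN hx₀⟩, (hmemP₁ _).mpr hx₀, fun h => hx₀b (congrArg Subtype.val h)⟩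
    ⟨⟨n', hn'⟩, by
      apply Subgroup.map_injective N.subtype_injective
      rw [MonoidHom.map_zpowers, Subgroup.map_map, MonoidHom.map_zpowers]
      simpa using hbz⟩
  have h4 : 4 ∣ Nat.card ↥N := hq ▸ orderOf_dvd_natCard q
  exact (Nat.not_even_iff_odd.mpr hodd) (even_iff_two_dvd.mpr (dvd_trans (by norm_num) h4))

end Cfsg.Agent.Lib.Helper60.PDODDCASE
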