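import Mathlib
import Cfsg.Agent.Lib.Helper18.ReeMultStmt

set_option autoImplicit false

/-! Piece FIN3 of S2113 (helper60, third seat): the kernel of the central extension meets the
commutator subgroup of the preimage of `U` trivially. -/

namespace Cfsg.Agent.Lib.Helper60.ReeMultFIN3

open scoped commutatorElement
open Cfsg.Agent.Lib.Helper18 Cfsg.Agent.Lib.Helper18.ReeMultStmt

universe u v w

theorem comm_central_left {Γ : Type w} [Group Γ] (X Y k : Γ) (hk : ∀ g, g * k = k * g) :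
    ⁅X * k, Y⁆ = ⁅X, Y⁆ := by
  have h1 : k * Y * k⁻¹ = Y := by rw [← hk Y, mul_inv_cancel_right]
  calc ⁅X * k, Y⁆ = X * (k * Y * k⁻¹) * X⁻¹ * Y⁻¹ := by rw [commutatorElement_def]; group
    _ = ⁅X, Y⁆ := by rw [h1, commutatorElement_def]

theorem comm_central_right {Γ : Type w} [Group Γ] (X Y k : Γ) (hk : ∀ g, g * k = k * g) :
    ⁅X, Y * k⁆ = ⁅X, Y⁆ := by
  have h2 : k * X⁻¹ * k⁻¹ = X⁻¹ := by rw [← hk X⁻¹, mul_inv_cancel_right]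
  calc ⁅X, Y * k⁆ = X * Y * (k * X⁻¹ * k⁻¹) * Y⁻¹ := by rw [commutatorElement_def]; group
    _ = ⁅X, Y⁆ := by rw [h2, commutatorElement_def]

/-- If every element of `H` is `a * n * k` with `a` in a set `T` of elements with commutators in
`N`, `n ∈ N` (normalized by `H`) and `k` central, then all commutators of `H` lie in `N`. -/
theorem comm_mem_of_decomp {Γ : Type w} [Group Γ] (H N : Subgroup Γ) (T : Set Γ)
    (hTH : ∀ a ∈ T, a ∈ H) (hNH : N ≤ H)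
    (hnorm : ∀ h ∈ H, ∀ n ∈ N, h * n * h⁻¹ ∈ N)
    (hdec : ∀ g ∈ H, ∃ a ∈ T, ∃ n ∈ N, ∃ k ∈ Subgroup.center Γ, g = a * n * k)
    (hT : ∀ a ∈ T, ∀ a' ∈ T, ⁅a, a'⁆ ∈ N) :
    ∀ g ∈ H, ∀ h ∈ H, ⁅g, h⁆ ∈ N := by
  intro g hg h hh
  obtain ⟨a, haT, n, hnN, k, hk, rfl⟩ := hdec g hg
  obtain ⟨a', haT', n', hnN', k', hk', rfl⟩ := hdec h hh
  have ha : a ∈ H := hTH a haT
  have ha' : a' ∈ H := hTH a' haT'
  have hn' : n' ∈ H := hNH hnN'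
  rw [Subgroup.mem_center_iff] at hk hk'
  rw [comm_central_left _ _ k hk, comm_central_right _ _ k' hk']
  have hY : a' * n' ∈ H := H.mul_mem ha' hn'
  have e1 : ⁅a * n, a' * n'⁆ = a * (n * ((a' * n') * n⁻¹ * (a' * n')⁻¹)) * a⁻¹ *
      (⁅a, a'⁆ * (a' * ((a * n' * a⁻¹) * n'⁻¹) * a'⁻¹)) := by
    simp only [commutatorElement_def]
    group
  rw [e1]
  apply N.mul_mem
  · apply hnorm a ha
    exact N.mul_mem hnN (hnorm _ hY _ (N.inv_mem hnN))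
  · apply N.mul_mem (hT a haT a' haT')
    apply hnorm a' ha'
    exact N.mul_mem (hnorm a ha n' hnN') (N.inv_mem hnN')

theorem main (hLMAP : LMAP.{u, v, w}) (hLMUL : LMUL.{u, v, w}) : FIN3.{u, v, w} := by
  intro Γ _ G _ K _ _ m φ x e σ E U hU s₁ hs0 hs3 hZC hAA hLC hTT z hzker hz
  classical
  have hmap := hLMAP Γ G K m φ x e σ E s₁ hs0 hs3
  have hmul := hLMUL Γ G K m φ x e σ E s₁ hs0 hs3 hAA
  obtain ⟨L, hL⟩ : ∃ L : K → K → Γ, L = lft σ E.surj φ x e s₁ := ⟨_, rfl⟩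
  rw [← hL] at hmap hmul hLC hTT
  have hL00 : L 0 0 = 1 := by
    have h1 := hmul 0 0 0 0
    rw [add_zero] at h1
    exact mul_left_cancel (a := L 0 0) (by rw [h1, mul_one])
  have hx1 : x 0 0 0 = 1 := by
    have h1 := E.par.x_mul 0 0 0 0 0 0
    have h2 : x (0 + 0) (0 + 0 - 0 * φ 0 ^ 3)
        (0 + 0 - 0 * 0 - 0 ^ 2 * φ 0 ^ 3 + 0 * 0 * φ 0 ^ 3) = x 0 0 0 := by
      congr 1 <;> simp
    rw [h2] at h1
    exact mul_left_cancel (a := x 0 0 0) (by rw [h1, mul_one])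
  -- the subgroup `A₁`
  let N : Subgroup Γ :=
    { carrier := {γ | ∃ u v, γ = L u v}
      mul_mem' := by
        rintro _ _ ⟨u, v, rfl⟩ ⟨u', v', rfl⟩
        exact ⟨u + u', v + v', hmul u v u' v'⟩
      one_mem' := ⟨0, 0, hL00.symm⟩
      inv_mem' := by
        rintro _ ⟨u, v, rfl⟩
        refine ⟨-u, -v, ?_⟩
        have h1 := hmul u v (-u) (-v)
        rw [add_neg_cancel, add_neg_cancel, hL00] at h1
        exact inv_eq_of_mul_eq_one_right h1 }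
  have hmemN : ∀ γ, γ ∈ N ↔ ∃ u v, γ = L u v := fun γ => Iff.rfl
  obtain ⟨H, hH⟩ : ∃ H : Subgroup Γ, H = U.comap σ := ⟨_, rfl⟩
  rw [← hH] at hz
  have hmemH : ∀ γ, γ ∈ H ↔ ∃ t u v, σ γ = x t u v := by
    intro γ
    rw [hH, Subgroup.mem_comap, hU]
  have hNH : N ≤ H := by
    intro γ hγ
    obtain ⟨u, v, rfl⟩ := (hmemN γ).1 hγ
    rw [hmemH]
    exact ⟨0, u, v, hmap u v⟩
  have hnorm : ∀ h ∈ H, ∀ n ∈ N, h * n * h⁻¹ ∈ N := by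
    intro h hh n hn
    obtain ⟨u, v, rfl⟩ := (hmemN n).1 hn
    obtain ⟨t, u₀, v₀, hσ⟩ := (hmemH h).1 hh
    exact (hmemN _).2 ⟨u, v + u * t, hLC h t u₀ v₀ hσ u v⟩
  obtain ⟨T, hT⟩ : ∃ T : Set Γ, T = {γ | ∃ t, γ = sec σ E.surj (x t 0 0)} := ⟨_, rfl⟩
  have hmemT : ∀ γ, γ ∈ T ↔ ∃ t, γ = sec σ E.surj (x t 0 0) := by
    intro γ; rw [hT]; exact Iff.rfl
  have hTH : ∀ a ∈ T, a ∈ H := by
    intro a ha
    obtain ⟨t, rfl⟩ := (hmemT a).1 ha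
    rw [hmemH]
    exact ⟨t, 0, 0, sec_spec σ E.surj _⟩
  have hdec : ∀ g ∈ H, ∃ a ∈ T, ∃ n ∈ N, ∃ k ∈ Subgroup.center Γ, g = a * n * k := by
    intro g hg
    obtain ⟨t, u, v, hσ⟩ := (hmemH g).1 hg
    refine ⟨sec σ E.surj (x t 0 0), (hmemT _).2 ⟨t, rfl⟩, L u v, (hmemN _).2 ⟨u, v, rfl⟩,
      (sec σ E.surj (x t 0 0) * L u v)⁻¹ * g, ?_, by group⟩
    apply E.cen
    rw [MonoidHom.mem_ker, map_mul, map_inv, map_mul, sec_spec, hmap, hσ, E.par.x_mul]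
    have h1 : x (t + 0) (0 + u - t * φ 0 ^ 3)
        (0 + v - 0 * 0 - t ^ 2 * φ 0 ^ 3 + t * 0 * φ 0 ^ 3) = x t u v := by
      congr 1 <;> simp
    rw [h1, inv_mul_cancel]
  have hTc : ∀ a ∈ T, ∀ a' ∈ T, ⁅a, a'⁆ ∈ N := by
    intro a ha a' ha'
    obtain ⟨t, rfl⟩ := (hmemT a).1 ha
    obtain ⟨t', rfl⟩ := (hmemT a').1 ha'
    obtain ⟨u, v, huv⟩ := hTT t t'
    exact (hmemN _).2 ⟨u, v, huv⟩
  have hcomm := comm_mem_of_decomp H N T hTH hNH hnorm hdec hTc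
  have hle : ⁅H, H⁆ ≤ N := Subgroup.commutator_le.2 hcomm
  obtain ⟨u, v, hzuv⟩ := (hmemN z).1 (hle hz)
  have h1 : σ z = 1 := MonoidHom.mem_ker.1 hzker
  rw [hzuv, hmap, ← hx1] at h1
  obtain ⟨-, hu, hv⟩ := E.par.x_inj _ _ _ _ _ _ h1
  rw [hzuv, hu, hv, hL00]

end Cfsg.Agent.Lib.Helper60.ReeMultFIN3
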