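import Mathlib
import Cfsg.Agent.Lib.Helper18.ReeOutStmt

set_option autoImplicit false

/-! Piece STAB of S2127 (second seat, helper60): the two-point stabilizer `N(P) ∩ N(Q)` is `H`,
by orders. -/

namespace Cfsg.Agent.Lib.Helper60.ReeOutSTAB

open Cfsg.Agent.Lib.Helper18.ReeOutStmt

universe u

theorem main : STAB.{u} := by
  intro G _ _ p _ P Q H hTI hReg hQP hcardS hcardG hHP hHQ
  classical
  have hnorm : ∀ (S : Subgroup G), (∀ h ∈ H, ∀ u ∈ S, h * u * h⁻¹ ∈ S) →
      H ≤ Subgroup.normalizer (S : Set G) := by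
    intro S hS h hh
    rw [Subgroup.mem_normalizer_iff]
    intro u
    constructor
    · exact hS h hh u
    · intro hu
      have h3 := hS h⁻¹ (H.inv_mem hh) _ hu
      have h4 : h⁻¹ * (h * u * h⁻¹) * h⁻¹⁻¹ = u := by group
      rwa [h4] at h3
  have hle : H ≤ Subgroup.normalizer ((P : Subgroup G) : Set G) ⊓
      Subgroup.normalizer ((Q : Subgroup G) : Set G) := le_inf (hnorm _ hHP) (hnorm _ hHQ)
  obtain ⟨NP, hNP⟩ : ∃ NP : Subgroup G, NP = Subgroup.normalizer ((P : Subgroup G) : Set G) :=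
    ⟨_, rfl⟩
  obtain ⟨NQ, hNQ⟩ : ∃ NQ : Subgroup G, NQ = Subgroup.normalizer ((Q : Subgroup G) : Set G) :=
    ⟨_, rfl⟩
  rw [← hNP, ← hNQ] at hle ⊢
  have hidx : NP.index = Nat.card ↥(P : Subgroup G) + 1 := by
    rw [← hcardS, hNP]; exact (Sylow.card_eq_index_normalizer P).symm
  have hPpos : 0 < Nat.card ↥(P : Subgroup G) := Nat.card_pos
  have hNPcard : Nat.card ↥NP = Nat.card ↥(P : Subgroup G) * Nat.card ↥H := by
    have h3 := Subgroup.card_mul_index NP
    rw [hidx, hcardG] at h3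
    exact Nat.eq_of_mul_eq_mul_right (by omega) h3
  have hmemNP : ∀ g : G, g ∈ NP ↔ g • P = P := by
    intro g; rw [hNP]; exact Sylow.smul_eq_iff_mem_normalizer.symm
  have hmemNQ : ∀ g : G, g ∈ NQ ↔ g • Q = Q := by
    intro g; rw [hNQ]; exact Sylow.smul_eq_iff_mem_normalizer.symm
  have hPNP : (P : Subgroup G) ≤ NP := by rw [hNP]; exact Subgroup.le_normalizer
  have horb : MulAction.orbit ↥NP Q = {P}ᶜ := by
    ext Q'
    constructor
    · rintro ⟨g, rfl⟩ hmem
      rw [Set.mem_singleton_iff] at hmem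
      have hg : (g : G) • P = P := (hmemNP g).1 g.2
      have h3 : (g : G) • Q = (g : G) • P := by rw [hg]; exact hmem
      exact hQP (smul_left_cancel _ h3)
    · intro hQ'
      have hQ'P : Q' ≠ P := hQ'
      obtain ⟨u, hu, huQ⟩ := hReg Q Q' hQP hQ'P
      exact ⟨⟨u, hPNP hu⟩, huQ⟩
  have hstab : MulAction.stabilizer ↥NP Q = NQ.subgroupOf NP := by
    ext g
    rw [MulAction.mem_stabilizer_iff, Subgroup.mem_subgroupOf, hmemNQ]
    rfl
  have h5 : Nat.card ↥((NQ ⊓ NP).subgroupOf NP) = Nat.card ↥(NQ ⊓ NP) :=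
    Nat.card_congr (Subgroup.subgroupOfEquivOfLe (inf_le_right : NQ ⊓ NP ≤ NP)).toEquiv
  have hcount : Nat.card ↥(NQ ⊓ NP) * Nat.card ↥(P : Subgroup G) = Nat.card ↥NP := by
    have h3 := Subgroup.card_mul_index (MulAction.stabilizer ↥NP Q)
    rw [MulAction.index_stabilizer, horb, hstab, Set.ncard_compl, Set.ncard_singleton, hcardS,
      Nat.add_sub_cancel, ← Subgroup.inf_subgroupOf_right, h5] at h3
    exact h3
  have hD : Nat.card ↥(NP ⊓ NQ) = Nat.card ↥H := by
    rw [inf_comm]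
    rw [hNPcard, mul_comm] at hcount
    exact Nat.eq_of_mul_eq_mul_left hPpos hcount
  exact (Subgroup.eq_of_le_of_card_ge hle (le_of_eq hD)).symm

end Cfsg.Agent.Lib.Helper60.ReeOutSTAB
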