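import Mathlib
import Cfsg.Agent.Lib.Helper22.S56Stmt
import Cfsg.Agent.Lib.Helper91.Hall
import Cfsg.Agent.Lib.Helper76.PSolv

set_option autoImplicit false

/-!
S1356 piece HALLD (helper60): an `R`-invariant complement `D` of `O = Oq X H q` in `H`.
`T` := a Hall subgroup of order `O.index` containing `R` (`Helper91.Hall.hall_contain`),
`D := T ⊓ H`.
-/

namespace Cfsg.Agent.Lib.Helper60.S56HALLD

universe u

open Cfsg Cfsg.Agent.Lib.Helper93.S64Stmt Cfsg.Agent.Lib.Helper22.S56Stmt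

open scoped Pointwise

theorem main : HallD.{u} := by
  intro X _ _ H R hHn q hA hB hq
  have hqp : q.Prime := hB.qprime
  haveI : Fact q.Prime := ⟨hqp⟩
  haveI : Group.IsSolvable X := hA.solv
  have hOp : IsPGroup q ↥(Oq X H q) :=
    (Cfsg.Agent.Lib.Helper76.PSolv.pCore_isPGroup (G := X) q).to_le inf_le_left
  obtain ⟨k, hk⟩ := IsPGroup.iff_card.mp hOp
  have hqH : q ∣ Nat.card ↥H := by
    rw [← hB.card]
    exact Subgroup.card_dvd_of_le inf_le_left
  have hqR : ¬ q ∣ Nat.card ↥R := by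
    intro h
    have h1 : q ∣ Nat.gcd (Nat.card ↥H) (Nat.card ↥R) := Nat.dvd_gcd hqH h
    rw [Nat.Coprime.gcd_eq_one hA.cop] at h1
    exact hqp.one_lt.ne' (Nat.dvd_one.mp h1)
  have hRcop : (Nat.card ↥R).Coprime (Nat.card ↥(Oq X H q)) := by
    rw [hk]
    exact Nat.Coprime.pow_right k ((Nat.Prime.coprime_iff_not_dvd hqp).mpr hqR).symm
  have hidx : (Oq X H q).index.Coprime (Nat.card ↥(Oq X H q)) := by
    rw [hk]
    exact Nat.Coprime.pow_right k ((Nat.Prime.coprime_iff_not_dvd hqp).mpr hq).symm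
  have hcard : Nat.card X = (Oq X H q).index * Nat.card ↥(Oq X H q) := by
    rw [mul_comm]
    exact (Subgroup.card_mul_index (Oq X H q)).symm
  obtain ⟨T, hT, hRT⟩ := Cfsg.Agent.Lib.Helper91.Hall.hall_contain (G := X)
    (Oq X H q).index (Nat.card ↥(Oq X H q)) hcard hidx R hRcop
  have hcop : (Nat.card ↥(Oq X H q)).Coprime (Nat.card ↥T) := by
    rw [hT]; exact hidx.symm
  have hcompl : Subgroup.IsComplement' (Oq X H q) T :=
    Subgroup.isComplement'_of_coprime (by rw [hT, mul_comm]; exact hcard.symm) hcop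
  have hTO : T ⊓ Oq X H q = ⊥ := by
    rw [inf_comm]
    exact (Subgroup.disjoint_of_coprime_natCard hcop).eq_bot
  refine ⟨T ⊓ H, inf_le_right, ?_, ?_, ?_, ?_⟩
  · rw [eq_bot_iff, ← hTO]
    exact inf_le_inf_right _ inf_le_left
  · intro h hh
    have hmem : h ∈ ((Oq X H q : Subgroup X) : Set X) * ((T : Subgroup X) : Set X) := by
      rw [Subgroup.IsComplement.mul_eq hcompl]
      exact Set.mem_univ h
    obtain ⟨o, ho, t, ht, rfl⟩ := Set.mem_mul.mp hmem
    have htH : t ∈ H := by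
      have h1 : o⁻¹ * (o * t) ∈ H := H.mul_mem (H.inv_mem (Oq_le X H q ho)) hh
      rwa [inv_mul_cancel_left] at h1
    exact Subgroup.mul_mem_sup ho ⟨ht, htH⟩
  · intro r hr
    rw [Subgroup.mem_normalizer_iff]
    intro z
    have hrT : r ∈ T := hRT hr
    constructor
    · rintro ⟨hzT, hzH⟩
      exact ⟨T.mul_mem (T.mul_mem hrT hzT) (T.inv_mem hrT), hHn.conj_mem z hzH r⟩
    · rintro ⟨hzT, hzH⟩
      refine ⟨?_, ?_⟩
      · have h1 : r⁻¹ * (r * z * r⁻¹) * r ∈ T := T.mul_mem (T.mul_mem (T.inv_mem hrT) hzT) hrT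
        have h2 : r⁻¹ * (r * z * r⁻¹) * r = z := by group
        rwa [h2] at h1
      · have h1 := hHn.conj_mem _ hzH r⁻¹
        have h2 : r⁻¹ * (r * z * r⁻¹) * r⁻¹⁻¹ = z := by group
        rwa [h2] at h1
  · have h1 : Nat.card ↥(T ⊓ H) ∣ (Oq X H q).index := by
      rw [← hT]
      exact Subgroup.card_dvd_of_le inf_le_left
    exact Nat.Coprime.coprime_dvd_left h1
      ((Nat.Prime.coprime_iff_not_dvd hqp).mpr hq).symm

end Cfsg.Agent.Lib.Helper60.S56HALLD
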