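import Mathlib
import Cfsg.Agent.Lib.Helper62.S57Stmt

set_option autoImplicit false

/-! # S1357 piece NILPROD2 (helper60): `H = O D`, `H / O` nilpotent, `D` centralizes the
`q`-group `O`: `H` is nilpotent (adapted from the landed `Helper74.S56NILPROD`). -/

namespace Cfsg.Agent.Lib.Helper60.S57NILPROD2

universe u

open Cfsg Cfsg.Agent.Lib.Helper62.S57Stmt

open scoped Pointwise

theorem nilp_of_inj {A B : Type*} [Group A] [Group B] (f : A →* B) (hf : Function.Injective f)
    [Group.IsNilpotent B] : Group.IsNilpotent A :=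
  Group.nilpotent_of_mulEquiv (MonoidHom.ofInjective hf).symm

theorem main : NilProd2.{u} := by
  intro X _ _ H O D _ _ q _ hO hOH hDH hDO hHOD hnil hcent
  classical
  have hDnil : Group.IsNilpotent ↥D := by
    have := hnil
    let f : ↥D →* ↥(H.map (QuotientGroup.mk' O)) :=
      { toFun := fun d => ⟨QuotientGroup.mk' O (d : X), Subgroup.mem_map_of_mem _ (hDH d.2)⟩
        map_one' := by apply Subtype.ext; simp
        map_mul' := fun a b => by apply Subtype.ext; simp }
    refine nilp_of_inj f ?_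
    intro a b hab
    have h1 : (QuotientGroup.mk' O (a : X)) = QuotientGroup.mk' O (b : X) :=
      congrArg Subtype.val hab
    have h2 : (a : X)⁻¹ * (b : X) ∈ O := QuotientGroup.eq.1 h1
    have h3 : (a : X)⁻¹ * (b : X) ∈ D ⊓ O := ⟨D.mul_mem (D.inv_mem a.2) b.2, h2⟩
    rw [hDO, Subgroup.mem_bot] at h3
    exact Subtype.ext (inv_mul_eq_one.1 h3)
  have hOnil : Group.IsNilpotent ↥O := hO.isNilpotent
  let φ : ↥O × ↥D →* X := MonoidHom.noncommCoprod O.subtype D.subtype (by
    intro o d
    exact (Subgroup.mem_centralizer_iff.1 (hcent d.2)) o o.2)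
  have hLnil : Group.IsNilpotent ↥φ.range :=
    Group.nilpotent_of_surjective φ.rangeRestrict φ.rangeRestrict_surjective
  have hle : H ≤ φ.range := by
    intro h hh
    have m1 : h ∈ ((O ⊔ D : Subgroup X) : Set X) := hHOD hh
    rw [Subgroup.normal_mul] at m1
    obtain ⟨o, ho, d, hd, rfl⟩ := Set.mem_mul.1 m1
    exact ⟨(⟨o, ho⟩, ⟨d, hd⟩), rfl⟩
  have := hLnil
  exact nilp_of_inj (Subgroup.inclusion hle) (Subgroup.inclusion_injective hle)

end Cfsg.Agent.Lib.Helper60.S57NILPROD2
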