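import Mathlib
import Cfsg.Agent.Lib.Helper23.S79Stmt

set_option autoImplicit false

/-! Piece CASEIN of S1379 (helper60, second seat): the light core, with S1432 as an explicit
hypothesis. -/

namespace Cfsg.Agent.Lib.Helper60.S79CASEINCore

open Cfsg Cfsg.Agent.Lib.Helper23.S79Stmt Cfsg.Agent.Lib.Helper23.S69Stmt
  Cfsg.Agent.Lib.Helper54.S68Stmt

universe u

theorem main_of
    (h1432 : ∀ {G : Type u} [Group G] [Finite G] (_ : Cfsg.IsMinSimpleOddOrder G)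
      (M : Subgroup G) (_ : IsCoatom M) (x : G) (_ : x ∈ Cfsg.sigmaCore M) (_ : x ≠ 1) (x' : G)
      (_ : x' ∈ M ⊓ Subgroup.centralizer ({x} : Set G)) (_ : x' ≠ 1)
      (_ : ∀ p : ℕ, p.Prime → p ∣ orderOf x' → p ∉ Cfsg.sigma M),
      ((∀ p : ℕ, p.Prime → p ∣ orderOf x' → p ∈ Cfsg.kappa M) ∧
          Subgroup.centralizer ({x} : Set G) ≤ M) ∨
        ((∀ p : ℕ, p.Prime → p ∣ orderOf x' → p ∈ Cfsg.tau2 M) ∧
          (∃ L : Subgroup G, IsCoatom L ∧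
            ∀ p : ℕ, p.Prime → p ∣ orderOf x' → p ∈ Cfsg.sigma L) ∧
          (Subgroup.centralizer ({x'} : Set G) ≤ M ∧
            ∀ L : Subgroup G, IsCoatom L → Subgroup.centralizer ({x'} : Set G) ≤ L → L = M))) :
    CaseIn.{u} := by
  intro hKAlt hTAlt hH51 G _ _ hG M hM a b ha ha1 hb1 hab hσ hCM
  have hbC : b ∈ Subgroup.centralizer ({a} : Set G) := by
    rw [Subgroup.mem_centralizer_iff]
    intro y hy
    rw [Set.mem_singleton_iff] at hy
    rw [hy]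
    exact hab
  have hbM : b ∈ M := hCM hbC
  rcases h1432 hG M hM a ha ha1 b (Subgroup.mem_inf.2 ⟨hbM, hbC⟩) hb1 hσ with
    ⟨hκ, -⟩ | ⟨-, ⟨L, hL, hLσ⟩, hCb, huniq⟩
  · right
    exact hKAlt hH51 hG M hM a b ha ha1 hbM hb1 hab hκ
  · left
    exact hTAlt hG M L hM hL a b ha hb1 hab hLσ hσ hCb huniq

end Cfsg.Agent.Lib.Helper60.S79CASEINCore
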