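import Mathlib
import Cfsg.Agent.Lib.Helper23.S79Stmt
import Cfsg.Agent.Lib.Helper73.BG14Stmt

set_option autoImplicit false

/-! Piece TLCONJ of S1379 (helper60, second seat): the light core, with `SuppConj` and
`CoatomConj` as explicit hypotheses. -/

namespace Cfsg.Agent.Lib.Helper60.S79TLCONJCore

open Cfsg Cfsg.Agent.Lib.Helper23.S79Stmt Cfsg.Agent.Lib.Helper23.S69Stmt
  Cfsg.Agent.Lib.Helper54.S68Stmt

universe u

theorem map_conj_inv {G : Type u} [Group G] (M : Subgroup G) (h : G) :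
    (M.map (MulAut.conj h).toMonoidHom).map (MulAut.conj h⁻¹).toMonoidHom = M := by
  ext z
  constructor
  · rintro ⟨_, ⟨w, hw, rfl⟩, rfl⟩
    have e : (MulAut.conj h⁻¹).toMonoidHom ((MulAut.conj h).toMonoidHom w) = w := by
      simp only [MulEquiv.coe_toMonoidHom, MulAut.conj_apply]
      group
    rw [e]
    exact hw
  · intro hz
    refine ⟨h * z * h⁻¹, ⟨z, hz, ?_⟩, ?_⟩
    · simp only [MulEquiv.coe_toMonoidHom, MulAut.conj_apply]
    · simp only [MulEquiv.coe_toMonoidHom, MulAut.conj_apply]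
      group

theorem main_of (hSC : Cfsg.Agent.Lib.Helper73.BG14Stmt.SuppConj.{u}) (hCC : CoatomConj.{u}) :
    TlConj.{u} := by
  intro G _ _ hG M hM h g hg
  have hg' : ∃ a ∈ ((Cfsg.sigmaCore (M.map (MulAut.conj h).toMonoidHom) : Set G) \ {1}),
      ∃ r ∈ Cfsg.supportR (M.map (MulAut.conj h).toMonoidHom) a, ∃ y : G,
        g = y * (a * r) * y⁻¹ := hg
  obtain ⟨a, ⟨haσ, ha1⟩, r, hr, y, rfl⟩ := hg'
  have ha1' : a ≠ 1 := by
    intro hcon
    exact ha1 (Set.mem_singleton_iff.2 hcon)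
  have hMh : IsCoatom (M.map (MulAut.conj h).toMonoidHom) := hCC h M hM
  obtain ⟨h1, h2⟩ := hSC hG (M.map (MulAut.conj h).toMonoidHom) hMh a haσ ha1' h⁻¹
  rw [map_conj_inv M h] at h1 h2
  have hgoal : ∃ a₀ ∈ ((Cfsg.sigmaCore M : Set G) \ {1}),
      ∃ r₀ ∈ Cfsg.supportR M a₀, ∃ y₀ : G, y * (a * r) * y⁻¹ = y₀ * (a₀ * r₀) * y₀⁻¹ := by
    refine ⟨h⁻¹ * a * h⁻¹⁻¹, ⟨h1, ?_⟩, h⁻¹ * r * h⁻¹⁻¹, ?_, y * h, ?_⟩
    · intro hcon
      rw [Set.mem_singleton_iff] at hcon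
      apply ha1'
      have e : a = h * (h⁻¹ * a * h⁻¹⁻¹) * h⁻¹ := by group
      rw [e, hcon]
      group
    · rw [h2]
      exact ⟨r, hr, rfl⟩
    · group
  exact hgoal

end Cfsg.Agent.Lib.Helper60.S79TLCONJCore
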