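import Mathlib
import Cfsg.Agent.Lib.Helper45.S8Stmt

/-!
# S3589, piece `GLEMB`: `GL_k` acts on `H^k` by `(x, y) ↦ (A x, A⁻ᵀ y)`
-/

set_option autoImplicit false

namespace Cfsg.Agent.Lib.Helper60.S8GLEMB

open Cfsg.Agent.Lib.Helper45.EOStmt Cfsg.Agent.Lib.Helper45.S8Stmt
open Matrix

universe u

/-- the block diagonal embedding `A ↦ diag (A, A⁻ᵀ)` -/
def psi (F : Type u) [Field F] (k : ℕ) : GL (Fin k) F →* GL (Fin k ⊕ Fin k) F where
  toFun A :=
    ⟨Matrix.fromBlocks A.val 0 0 (A⁻¹).valᵀ, Matrix.fromBlocks (A⁻¹).val 0 0 A.valᵀ, by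
      rw [Matrix.fromBlocks_multiply, ← Matrix.transpose_mul]
      simp [Matrix.fromBlocks_one], by
      rw [Matrix.fromBlocks_multiply, ← Matrix.transpose_mul]
      simp [Matrix.fromBlocks_one]⟩
  map_one' := by
    apply Units.ext
    simp [Matrix.fromBlocks_one]
  map_mul' A B := by
    apply Units.ext
    show Matrix.fromBlocks (A * B).val 0 0 ((A * B)⁻¹).valᵀ =
      Matrix.fromBlocks A.val 0 0 (A⁻¹).valᵀ * Matrix.fromBlocks B.val 0 0 (B⁻¹).valᵀ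
    rw [Matrix.fromBlocks_multiply, ← Matrix.transpose_mul]
    simp [_root_.mul_inv_rev]

theorem psi_val (F : Type u) [Field F] (k : ℕ) (A : GL (Fin k) F) :
    (psi F k A).val = Matrix.fromBlocks A.val 0 0 (A⁻¹).valᵀ := rfl

theorem psi_injective (F : Type u) [Field F] (k : ℕ) : Function.Injective (psi F k) := by
  intro A B h
  have h1 := congrArg Units.val h
  rw [psi_val, psi_val, Matrix.fromBlocks_inj] at h1
  exact Units.ext h1.1

theorem psi_mem (F : Type u) [Field F] (k : ℕ) (A : GL (Fin k) F) :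
    psi F k A ∈ Cfsg.isometryGroup F (Cfsg.quadFormPlus k F) := by
  intro u _
  show Cfsg.quadFormPlus k F ((psi F k A).val *ᵥ u) = Cfsg.quadFormPlus k F u
  rw [psi_val, Matrix.fromBlocks_mulVec]
  unfold Cfsg.quadFormPlus
  simp only [Sum.elim_inl, Sum.elim_inr, Matrix.zero_mulVec, add_zero, zero_add]
  have h1 : ∑ i : Fin k, (A.val *ᵥ (u ∘ Sum.inl)) i * ((A⁻¹).valᵀ *ᵥ (u ∘ Sum.inr)) i =
      (A.val *ᵥ (u ∘ Sum.inl)) ⬝ᵥ ((A⁻¹).valᵀ *ᵥ (u ∘ Sum.inr)) := rfl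
  have h2 : ∑ i : Fin k, u (Sum.inl i) * u (Sum.inr i) = (u ∘ Sum.inl) ⬝ᵥ (u ∘ Sum.inr) := rfl
  rw [h1, h2, Matrix.mulVec_transpose, dotProduct_comm, Matrix.dotProduct_mulVec,
    Matrix.vecMul_vecMul]
  have h3 : (A⁻¹).val * A.val = 1 := Units.inv_mul A
  rw [h3, Matrix.vecMul_one, dotProduct_comm]

theorem main : Cfsg.Agent.Lib.Helper45.S8Stmt.GlEmb.{u} := by
  intro F _ k A
  refine ⟨⟨psi F k A, psi_mem F k A⟩, ?_⟩
  rw [← Subgroup.orderOf_coe]
  exact orderOf_injective (psi F k) (psi_injective F k) A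

end Cfsg.Agent.Lib.Helper60.S8GLEMB
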