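import Mathlib
import Cfsg.Agent.Lib.Helper45.S8Stmt
import Cfsg.Agent.S0246

/-!
# S3589, piece `PSPORD`: `Z(Sp_8(q)) = 1` for `q` even
-/

set_option autoImplicit false

namespace Cfsg.Agent.Lib.Helper60.S8PSPORD

open Cfsg.Agent.Lib.Helper45.EOStmt Cfsg.Agent.Lib.Helper45.S8Stmt

universe u

theorem main : Cfsg.Agent.Lib.Helper45.S8Stmt.PspOrd.{u} := by
  intro F _ _ _ A
  have hcard := Cfsg.Agent.S0246.result (F := F) (q := Fintype.card F) rfl 4 (by norm_num)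
  obtain ⟨n, -, hn⟩ := FiniteField.card F 2
  have hgcd : Nat.gcd 2 (Fintype.card F - 1) = 1 := by
    rw [hn]
    have hpos : 0 < (n : ℕ) := n.pos
    obtain ⟨j, hj⟩ : ∃ j, (n : ℕ) = j + 1 := ⟨(n : ℕ) - 1, by omega⟩
    rw [hj, pow_succ]
    have h1 : 1 ≤ 2 ^ j := Nat.one_le_two_pow
    have hodd : Odd (2 ^ j * 2 - 1) := ⟨2 ^ j - 1, by omega⟩
    exact Nat.coprime_two_left.2 hodd
  rw [hgcd] at hcard
  have hbot : Subgroup.center (Matrix.symplecticGroup (Fin 4) F) = ⊥ :=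
    (Subgroup.card_eq_one).1 hcard
  have hinj : Function.Injective
      (QuotientGroup.mk' (Subgroup.center (Matrix.symplecticGroup (Fin 4) F))) := by
    rw [← MonoidHom.ker_eq_bot_iff, QuotientGroup.ker_mk', hbot]
  exact orderOf_injective _ hinj A

end Cfsg.Agent.Lib.Helper60.S8PSPORD
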