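import Mathlib
import Cfsg.Agent.Lib.Helper14.TC3Stmt

/-!
# S4460, piece `QTWO`
-/

set_option autoImplicit false

namespace Cfsg.Agent.Lib.Helper60.TC3QTWO

open Cfsg Cfsg.Agent.Lib.Helper14.TC3Stmt

universe u

theorem main (h : Two.{u}) : QTwo.{u} := by
  intro G _ _ M _ k hk
  have h2 := h (G ⧸ M) k hk
  have hsurj : Function.Surjective (QuotientGroup.mk' M) := QuotientGroup.mk'_surjective M
  have hmap : (commutator G).map (QuotientGroup.mk' M) = commutator (G ⧸ M) := by
    rw [commutator_def, Subgroup.map_commutator, Subgroup.map_top_of_surjective _ hsurj,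
      ← commutator_def]
  have h3 : (⁅commutator G, commutator G⁆ : Subgroup G).map (QuotientGroup.mk' M) = ⊥ := by
    rw [Subgroup.map_commutator, hmap, h2]
  have h4 := (Subgroup.map_eq_bot_iff _).1 h3
  rwa [QuotientGroup.ker_mk'] at h4

end Cfsg.Agent.Lib.Helper60.TC3QTWO
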