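import Mathlib
import Cfsg.Agent.Lib.Helper14.TC3Stmt

/-!
# S4460, piece `TWOSUB`
-/

set_option autoImplicit false

namespace Cfsg.Agent.Lib.Helper60.TC3TWOSUB

open Cfsg Cfsg.Agent.Lib.Helper14.TC3Stmt

universe u

theorem main (h : Two.{u}) : TwoSub.{u} := by
  intro G _ _ N k hk
  have h2 := h ↥N k hk
  have hmap : (commutator ↥N).map N.subtype = ⁅N, N⁆ := by
    rw [commutator_def, Subgroup.map_commutator, ← MonoidHom.range_eq_map, Subgroup.range_subtype]
  rw [← hmap, ← Subgroup.map_commutator, h2, Subgroup.map_bot]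

end Cfsg.Agent.Lib.Helper60.TC3TWOSUB
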